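import Groth.Agent.H33.ResOfInt
import Groth.Agent.H6.InjHorseshoe

/-!
# The long exact sequence of the classical right derived functors `F.rightDerived n`
-/

set_option autoImplicit false
universe v v' u u'

open CategoryTheory CategoryTheory.Limits

namespace Groth.Agent.H33.RDLes

open Groth.Agent.H33.ResOfInt

variable {A : Type u} [Category.{v} A] [Abelian A] [EnoughInjectives A]

set_option backward.isDefEq.respectTransparency false in
/-- Horseshoe lemma: compatible (`ℕ`-indexed) injective resolutions of a short exact sequence,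
forming a degreewise short exact sequence of complexes. -/
theorem exists_resolutions (S : ShortComplex A) (hS : S.ShortExact) :
    ∃ (I₁ : InjectiveResolution S.X₁) (I₂ : InjectiveResolution S.X₂)
      (I₃ : InjectiveResolution S.X₃)
      (a : I₁.cocomplex ⟶ I₂.cocomplex) (b : I₂.cocomplex ⟶ I₃.cocomplex) (w : a ≫ b = 0),
      I₁.ι.f 0 ≫ a.f 0 = S.f ≫ I₂.ι.f 0 ∧ I₂.ι.f 0 ≫ b.f 0 = S.g ≫ I₃.ι.f 0 ∧
      (ShortComplex.mk a b w).ShortExact := by
  have hS' : (S.map (HomologicalComplex.single A (ComplexShape.up ℤ) 0)).ShortExact :=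
    hS.map_of_exact _
  have i1 : CochainComplex.IsStrictlyGE (S.map (HomologicalComplex.single A (ComplexShape.up ℤ) 0)).X₁ 0 := by
    change ((CochainComplex.singleFunctor A 0).obj S.X₁).IsStrictlyGE 0
    infer_instance
  have i2 : CochainComplex.IsStrictlyGE (S.map (HomologicalComplex.single A (ComplexShape.up ℤ) 0)).X₂ 0 := by
    change ((CochainComplex.singleFunctor A 0).obj S.X₂).IsStrictlyGE 0
    infer_instance
  have i3 : CochainComplex.IsStrictlyGE (S.map (HomologicalComplex.single A (ComplexShape.up ℤ) 0)).X₃ 0 := by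
    change ((CochainComplex.singleFunctor A 0).obj S.X₃).IsStrictlyGE 0
    infer_instance
  obtain ⟨T, φ, hT, hT1, hT2, hT3, hinj, hq1, hq2, hq3⟩ :=
    Groth.Agent.H6.exists_shortExact_injective_resolution _ hS' 0
  let α₁ : (CochainComplex.singleFunctor A 0).obj S.X₁ ⟶ T.X₁ := φ.τ₁
  let α₂ : (CochainComplex.singleFunctor A 0).obj S.X₂ ⟶ T.X₂ := φ.τ₂
  let α₃ : (CochainComplex.singleFunctor A 0).obj S.X₃ ⟶ T.X₃ := φ.τ₃
  have q1 : QuasiIso α₁ := hq1
  have q2 : QuasiIso α₂ := hq2
  have q3 : QuasiIso α₃ := hq3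
  refine ⟨resolution T.X₁ α₁ (fun n => (hinj n).1), resolution T.X₂ α₂ (fun n => (hinj n).2.1),
    resolution T.X₃ α₃ (fun n => (hinj n).2.2), resMap T.f, resMap T.g, ?_, ?_, ?_, ?_⟩
  · dsimp only [resMap]
    rw [← Functor.map_comp, T.zero, Functor.map_zero]
  · change (ιNat T.X₁ α₁).f 0 ≫ T.f.f 0 = S.f ≫ (ιNat T.X₂ α₂).f 0
    rw [ιNat_f_zero, ιNat_f_zero]
    dsimp only [aug]
    have h1 : α₁.f 0 ≫ T.f.f 0 =
        ((HomologicalComplex.single A (ComplexShape.up ℤ) 0).map S.f).f 0 ≫ α₂.f 0 := by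
      have := congrArg (fun t => t.f 0) φ.comm₁₂
      exact this
    rw [Category.assoc, h1, HomologicalComplex.single_map_f_self]
    simp
  · change (ιNat T.X₂ α₂).f 0 ≫ T.g.f 0 = S.g ≫ (ιNat T.X₃ α₃).f 0
    rw [ιNat_f_zero, ιNat_f_zero]
    dsimp only [aug]
    have h1 : α₂.f 0 ≫ T.g.f 0 =
        ((HomologicalComplex.single A (ComplexShape.up ℤ) 0).map S.g).f 0 ≫ α₃.f 0 := by
      have := congrArg (fun t => t.f 0) φ.comm₂₃
      exact this
    rw [Category.assoc, h1, HomologicalComplex.single_map_f_self]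
    simp
  · rw [HomologicalComplex.shortExact_iff_degreewise_shortExact] at hT ⊢
    intro n
    exact hT (n : ℤ)

variable {B : Type u'} [Category.{v'} B] [Abelian B] (F : A ⥤ B) [F.Additive]

/-- The classical right derived functors are additive. -/
instance rightDerived_additive (n : ℕ) : (F.rightDerived n).Additive where
  map_add {X Y f g} := by
    let P := injectiveResolution X
    let Q := injectiveResolution Y
    have hφ := InjectiveResolution.desc_commutes f Q P
    have hψ := InjectiveResolution.desc_commutes g Q P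
    have hs : P.ι ≫ (InjectiveResolution.desc f Q P + InjectiveResolution.desc g Q P) =
        (CochainComplex.single₀ A).map (f + g) ≫ Q.ι := by
      rw [Preadditive.comp_add, hφ, hψ, Functor.map_add, Preadditive.add_comp]
    rw [F.rightDerived_map_eq n (f + g) _ hs, F.rightDerived_map_eq n f _ hφ,
      F.rightDerived_map_eq n g _ hψ]
    simp only [Functor.map_add, Preadditive.add_comp, Preadditive.comp_add]

lemma mono_homologyMap_zero {K L : CochainComplex B ℕ} (φ : K ⟶ L) [Mono (φ.f 0)] :
    Mono (HomologicalComplex.homologyMap φ 0) := by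
  have h1 : Mono (HomologicalComplex.cyclesMap φ 0) := by
    have : Mono (HomologicalComplex.cyclesMap φ 0 ≫ L.iCycles 0) := by
      rw [HomologicalComplex.cyclesMap_i]
      infer_instance
    exact mono_of_mono _ (L.iCycles 0)
  have hK := CochainComplex.isIso_homologyπ₀ K
  have hL := CochainComplex.isIso_homologyπ₀ L
  have h2 : HomologicalComplex.homologyMap φ 0 =
      inv (K.homologyπ 0) ≫ HomologicalComplex.cyclesMap φ 0 ≫ L.homologyπ 0 := by
    rw [← HomologicalComplex.homologyπ_naturality, IsIso.inv_hom_id_assoc]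
  rw [h2]
  infer_instance

set_option backward.isDefEq.respectTransparency false in
/-- The long exact sequence of right derived functors attached to a short exact sequence. -/
theorem exists_les (S : ShortComplex A) (hS : S.ShortExact) :
    Mono ((F.rightDerived 0).map S.f) ∧
    (∀ n : ℕ, (ShortComplex.mk ((F.rightDerived n).map S.f) ((F.rightDerived n).map S.g)
      (by rw [← Functor.map_comp, S.zero, Functor.map_zero])).Exact) ∧
    ∃ δ : ∀ n : ℕ, (F.rightDerived n).obj S.X₃ ⟶ (F.rightDerived (n + 1)).obj S.X₁,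
      ∀ n : ℕ, ∃ (w₁ : (F.rightDerived n).map S.g ≫ δ n = 0)
        (w₂ : δ n ≫ (F.rightDerived (n + 1)).map S.f = 0),
        (ShortComplex.mk _ _ w₁).Exact ∧ (ShortComplex.mk _ _ w₂).Exact := by
  obtain ⟨I₁, I₂, I₃, a, b, w, c1, c2, hab⟩ := exists_resolutions S hS
  let Φ := F.mapHomologicalComplex (ComplexShape.up ℕ)
  have hΦ : (ShortComplex.mk (Φ.map a) (Φ.map b)
      (by rw [← Φ.map_comp, w, Φ.map_zero])).ShortExact := by
    rw [HomologicalComplex.shortExact_iff_degreewise_shortExact] at hab ⊢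
    intro n
    have hn := hab n
    have : Injective ((ShortComplex.mk a b w).map
        (HomologicalComplex.eval A (ComplexShape.up ℕ) n)).X₁ := I₁.injective n
    exact (hn.splittingOfInjective.map F).shortExact
  have N₁ : ∀ n : ℕ, (F.rightDerived n).map S.f ≫ (I₂.isoRightDerivedObj F n).hom =
      (I₁.isoRightDerivedObj F n).hom ≫ HomologicalComplex.homologyMap (Φ.map a) n := fun n =>
    InjectiveResolution.isoRightDerivedObj_hom_naturality S.f I₁ I₂ a c1 F n
  have N₂ : ∀ n : ℕ, (F.rightDerived n).map S.g ≫ (I₃.isoRightDerivedObj F n).hom =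
      (I₂.isoRightDerivedObj F n).hom ≫ HomologicalComplex.homologyMap (Φ.map b) n := fun n =>
    InjectiveResolution.isoRightDerivedObj_hom_naturality S.g I₂ I₃ b c2 F n
  refine ⟨?_, ?_, ?_⟩
  · have hm : Mono ((Φ.map a).f 0) := by
      have := (hΦ.mono_f)
      have h' : Mono ((HomologicalComplex.eval B (ComplexShape.up ℕ) 0).map (Φ.map a)) :=
        inferInstance
      exact h'
    have h0 := mono_homologyMap_zero (Φ.map a)
    have h1 : Mono ((F.rightDerived 0).map S.f ≫ (I₂.isoRightDerivedObj F 0).hom) := by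
      rw [N₁ 0]
      infer_instance
    exact mono_of_mono _ (I₂.isoRightDerivedObj F 0).hom
  · intro n
    refine (ShortComplex.exact_iff_of_iso (ShortComplex.isoMk (I₁.isoRightDerivedObj F n)
      (I₂.isoRightDerivedObj F n) (I₃.isoRightDerivedObj F n) (N₁ n).symm (N₂ n).symm)).2
      (hΦ.homology_exact₂ n)
  · refine ⟨fun n => (I₃.isoRightDerivedObj F n).hom ≫ hΦ.δ n (n + 1) rfl ≫
      (I₁.isoRightDerivedObj F (n + 1)).inv, fun n => ?_⟩
    have e3 := hΦ.homology_exact₃ n (n + 1) rfl
    have e1 := hΦ.homology_exact₁ n (n + 1) rfl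
    have w₁ : (F.rightDerived n).map S.g ≫ (I₃.isoRightDerivedObj F n).hom ≫
        hΦ.δ n (n + 1) rfl ≫ (I₁.isoRightDerivedObj F (n + 1)).inv = 0 := by
      rw [reassoc_of% (N₂ n)]
      have : HomologicalComplex.homologyMap (Φ.map b) n ≫ hΦ.δ n (n + 1) rfl = 0 :=
        hΦ.comp_δ n (n + 1) rfl
      rw [reassoc_of% this, zero_comp, comp_zero]
    have w₂ : ((I₃.isoRightDerivedObj F n).hom ≫ hΦ.δ n (n + 1) rfl ≫
        (I₁.isoRightDerivedObj F (n + 1)).inv) ≫ (F.rightDerived (n + 1)).map S.f = 0 := by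
      have h : (I₁.isoRightDerivedObj F (n + 1)).inv ≫ (F.rightDerived (n + 1)).map S.f =
          HomologicalComplex.homologyMap (Φ.map a) (n + 1) ≫
            (I₂.isoRightDerivedObj F (n + 1)).inv := by
        rw [Iso.inv_comp_eq, ← reassoc_of% (N₁ (n + 1)), Iso.hom_inv_id, Category.comp_id]
      have : hΦ.δ n (n + 1) rfl ≫ HomologicalComplex.homologyMap (Φ.map a) (n + 1) = 0 :=
        hΦ.δ_comp n (n + 1) rfl
      simp only [Category.assoc]
      rw [h, reassoc_of% this, zero_comp, comp_zero]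
    refine ⟨w₁, w₂, ?_, ?_⟩
    · refine (ShortComplex.exact_iff_of_iso (ShortComplex.isoMk (I₂.isoRightDerivedObj F n)
        (I₃.isoRightDerivedObj F n) (I₁.isoRightDerivedObj F (n + 1)) (N₂ n).symm ?_)).2 e3
      dsimp
      simp only [Category.assoc, Iso.inv_hom_id, Category.comp_id]
    · refine (ShortComplex.exact_iff_of_iso (ShortComplex.isoMk (I₃.isoRightDerivedObj F n)
        (I₁.isoRightDerivedObj F (n + 1)) (I₂.isoRightDerivedObj F (n + 1)) ?_
        (N₁ (n + 1)).symm)).2 e1
      dsimp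
      simp only [Category.assoc, Iso.inv_hom_id, Category.comp_id]

end Groth.Agent.H33.RDLes
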