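import Mathlib.Algebra.Homology.CochainComplexOpposite
import Mathlib.Algebra.Homology.HomologicalComplexAbelian
import Mathlib.Algebra.Homology.QuasiIso
import Mathlib.Algebra.Homology.Embedding.CochainComplex
import Mathlib.CategoryTheory.Abelian.Opposite

/-!
# Explicit op / unop of `ℤ`-indexed cochain complexes (reindexing `n ↦ -n`)

`opC K` is the cochain complex in `Aᵒᵖ` with `(opC K).X n = op (K.X (-n))`, and `unopC` goes the other
way.  We record the transfer of boundedness, quasi-isomorphisms, short exactness.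
-/

set_option autoImplicit false
set_option backward.isDefEq.respectTransparency false
set_option backward.defeqAttrib.useBackward true
universe v u

open CategoryTheory CategoryTheory.Limits Opposite

namespace Groth.Agent.H33.OpCx

section Preadditive

variable {A : Type u} [Category.{v} A] [Preadditive A]

/-- The opposite complex, reindexed by `n ↦ -n`. -/
@[simps]
def opC (K : CochainComplex A ℤ) : CochainComplex Aᵒᵖ ℤ where
  X n := op (K.X (-n))
  d n m := (K.d (-m) (-n)).op
  shape n m h := by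
    rw [K.shape, op_zero]
    simp only [ComplexShape.up_Rel] at h ⊢
    omega
  d_comp_d' n m k _ _ := by
    rw [← op_comp, K.d_comp_d, op_zero]

/-- The opposite of a morphism of complexes. -/
@[simps]
def opM {K L : CochainComplex A ℤ} (f : K ⟶ L) : opC L ⟶ opC K where
  f n := (f.f (-n)).op
  comm' n m _ := by
    dsimp
    rw [← op_comp, ← op_comp, f.comm]

/-- The "unopposite" complex, reindexed by `n ↦ -n`. -/
@[simps]
def unopC (K : CochainComplex Aᵒᵖ ℤ) : CochainComplex A ℤ where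
  X n := unop (K.X (-n))
  d n m := (K.d (-m) (-n)).unop
  shape n m h := by
    rw [K.shape, unop_zero]
    simp only [ComplexShape.up_Rel] at h ⊢
    omega
  d_comp_d' n m k _ _ := by
    rw [← unop_comp, K.d_comp_d, unop_zero]

/-- The "unopposite" of a morphism of complexes. -/
@[simps]
def unopM {K L : CochainComplex Aᵒᵖ ℤ} (f : K ⟶ L) : unopC L ⟶ unopC K where
  f n := (f.f (-n)).unop
  comm' n m _ := by
    dsimp
    rw [← unop_comp, ← unop_comp, f.comm]

@[simp] lemma opM_id (K : CochainComplex A ℤ) : opM (𝟙 K) = 𝟙 (opC K) := by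
  ext n; simp

@[simp] lemma opM_comp {K L M : CochainComplex A ℤ} (f : K ⟶ L) (g : L ⟶ M) :
    opM (f ≫ g) = opM g ≫ opM f := by
  ext n; simp

@[simp] lemma unopM_id (K : CochainComplex Aᵒᵖ ℤ) : unopM (𝟙 K) = 𝟙 (unopC K) := by
  ext n; simp

@[simp] lemma unopM_comp {K L M : CochainComplex Aᵒᵖ ℤ} (f : K ⟶ L) (g : L ⟶ M) :
    unopM (f ≫ g) = unopM g ≫ unopM f := by
  ext n; simp

@[simp] lemma opM_zero (K L : CochainComplex A ℤ) : opM (0 : K ⟶ L) = 0 := by
  ext n; simp

@[simp] lemma unopM_zero (K L : CochainComplex Aᵒᵖ ℤ) : unopM (0 : K ⟶ L) = 0 := by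
  ext n; simp

lemma f_comp_XIsoOfEq {B : Type*} [Category B] [Preadditive B] {K L : CochainComplex B ℤ}
    (f : K ⟶ L) {p q : ℤ} (h : p = q) :
    f.f p ≫ (L.XIsoOfEq h).hom = (K.XIsoOfEq h).hom ≫ f.f q := by
  subst h
  simp

/-- `unopC (opC K) ≅ K`. -/
def unopOpIso (K : CochainComplex A ℤ) : unopC (opC K) ≅ K :=
  HomologicalComplex.Hom.isoOfComponents (fun n => K.XIsoOfEq (neg_neg n)) (by
    intro i j _
    simp)

@[reassoc]
lemma unopOpIso_hom_naturality {K L : CochainComplex A ℤ} (f : K ⟶ L) :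
    unopM (opM f) ≫ (unopOpIso L).hom = (unopOpIso K).hom ≫ f := by
  ext n
  simp [unopOpIso, f_comp_XIsoOfEq]

/-- `opC (unopC K) ≅ K`. -/
def opUnopIso (K : CochainComplex Aᵒᵖ ℤ) : opC (unopC K) ≅ K :=
  HomologicalComplex.Hom.isoOfComponents (fun n => K.XIsoOfEq (neg_neg n)) (by
    intro i j _
    simp)

@[reassoc]
lemma opUnopIso_hom_naturality {K L : CochainComplex Aᵒᵖ ℤ} (f : K ⟶ L) :
    opM (unopM f) ≫ (opUnopIso L).hom = (opUnopIso K).hom ≫ f := by
  ext n
  simp [opUnopIso, f_comp_XIsoOfEq]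

lemma isStrictlyGE_opC (K : CochainComplex A ℤ) (a b : ℤ) (hab : a + b = 0) [K.IsStrictlyLE a] :
    (opC K).IsStrictlyGE b := by
  rw [CochainComplex.isStrictlyGE_iff]
  intro i hi
  exact (K.isZero_of_isStrictlyLE a (-i) (by omega)).op

lemma isStrictlyLE_opC (K : CochainComplex A ℤ) (a b : ℤ) (hab : a + b = 0) [K.IsStrictlyGE a] :
    (opC K).IsStrictlyLE b := by
  rw [CochainComplex.isStrictlyLE_iff]
  intro i hi
  exact (K.isZero_of_isStrictlyGE a (-i) (by omega)).op

lemma isStrictlyLE_unopC (K : CochainComplex Aᵒᵖ ℤ) (a b : ℤ) (hab : a + b = 0)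
    [K.IsStrictlyGE a] : (unopC K).IsStrictlyLE b := by
  rw [CochainComplex.isStrictlyLE_iff]
  intro i hi
  exact (K.isZero_of_isStrictlyGE a (-i) (by omega)).unop

lemma isStrictlyGE_unopC (K : CochainComplex Aᵒᵖ ℤ) (a b : ℤ) (hab : a + b = 0)
    [K.IsStrictlyLE a] : (unopC K).IsStrictlyGE b := by
  rw [CochainComplex.isStrictlyGE_iff]
  intro i hi
  exact (K.isZero_of_isStrictlyLE a (-i) (by omega)).unop

end Preadditive

section Abelian

variable {A : Type u} [Category.{v} A] [Abelian A]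

lemma quasiIsoAt_opM_neg {K L : CochainComplex A ℤ} (f : K ⟶ L) (m : ℤ)
    (h : QuasiIsoAt f (-m)) : QuasiIsoAt (opM f) m := by
  rw [quasiIsoAt_iff' _ (m - 1) m (m + 1) (by simp) (by simp)]
  rw [quasiIsoAt_iff' _ (-(m + 1)) (-m) (-(m - 1)) (by simp; omega)
    (by simp; omega)] at h
  exact (ShortComplex.quasiIso_opMap_iff
    ((HomologicalComplex.shortComplexFunctor' A (ComplexShape.up ℤ) (-(m + 1)) (-m)
      (-(m - 1))).map f)).2 h

lemma quasiIsoAt_unopM_neg {K L : CochainComplex Aᵒᵖ ℤ} (f : K ⟶ L) (m : ℤ)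
    (h : QuasiIsoAt f (-m)) : QuasiIsoAt (unopM f) m := by
  rw [quasiIsoAt_iff' _ (m - 1) m (m + 1) (by simp) (by simp)]
  rw [quasiIsoAt_iff' _ (-(m + 1)) (-m) (-(m - 1)) (by simp; omega)
    (by simp; omega)] at h
  have := h
  exact ShortComplex.quasiIso_unopMap
    ((HomologicalComplex.shortComplexFunctor' Aᵒᵖ (ComplexShape.up ℤ) (-(m + 1)) (-m)
      (-(m - 1))).map f)

lemma quasiIso_opM {K L : CochainComplex A ℤ} (f : K ⟶ L) [QuasiIso f] : QuasiIso (opM f) := by
  rw [quasiIso_iff]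
  intro m
  exact quasiIsoAt_opM_neg f m inferInstance

lemma quasiIso_unopM {K L : CochainComplex Aᵒᵖ ℤ} (f : K ⟶ L) [QuasiIso f] :
    QuasiIso (unopM f) := by
  rw [quasiIso_iff]
  intro m
  exact quasiIsoAt_unopM_neg f m inferInstance

/-- The opposite of a short exact sequence of complexes. -/
lemma shortExact_opC (S : ShortComplex (CochainComplex A ℤ)) (hS : S.ShortExact) :
    (ShortComplex.mk (opM S.g) (opM S.f) (by rw [← opM_comp, S.zero, opM_zero])).ShortExact := by
  rw [HomologicalComplex.shortExact_iff_degreewise_shortExact] at hS ⊢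
  intro n
  exact (hS (-n)).op

/-- The "unopposite" of a short exact sequence of complexes. -/
lemma shortExact_unopC (S : ShortComplex (CochainComplex Aᵒᵖ ℤ)) (hS : S.ShortExact) :
    (ShortComplex.mk (unopM S.g) (unopM S.f)
      (by rw [← unopM_comp, S.zero, unopM_zero])).ShortExact := by
  rw [HomologicalComplex.shortExact_iff_degreewise_shortExact] at hS ⊢
  intro n
  exact (hS (-n)).unop

end Abelian

end Groth.Agent.H33.OpCx
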