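import Groth.Agent.H5.KInjDeriv
import Mathlib.Algebra.Homology.DerivedCategory.ExactFunctor
import Mathlib.CategoryTheory.Functor.Derived.Adjunction
import Mathlib.CategoryTheory.Functor.Derived.PointwiseLeftDerived
import Mathlib.CategoryTheory.Adjunction.FullyFaithful

/-!
# Derived adjunction on unbounded derived categories

If `L ⊣ R` with `L` exact and the target of `L` has enough K-injective complexes, then
`L.mapDerivedCategory ⊣ RR` where `RR` is the total right derived functor of `R`.
-/

set_option autoImplicit false

open CategoryTheory Limits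

namespace Groth.Agent.H33.DerAdjU

universe w₁ w₂ v₁ v₂ u₁ u₂

section homotopy

variable {A B : Type*} [Category A] [Category B] [Preadditive A] [Preadditive B]
  {L : A ⥤ B} {R : B ⥤ A} (adj : L ⊣ R) [L.Additive] [R.Additive]
  {ι : Type*} (c : ComplexShape ι)

/-- The unit on complexes. -/
@[simps]
def unitC (K : HomologicalComplex A c) :
    K ⟶ (R.mapHomologicalComplex c).obj ((L.mapHomologicalComplex c).obj K) where
  f i := adj.unit.app (K.X i)
  comm' i j _ := (adj.unit.naturality (K.d i j)).symm

/-- The counit on complexes. -/
@[simps]
def counitC (K : HomologicalComplex B c) :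
    (L.mapHomologicalComplex c).obj ((R.mapHomologicalComplex c).obj K) ⟶ K where
  f i := adj.counit.app (K.X i)
  comm' i j _ := (adj.counit.naturality (K.d i j)).symm

set_option backward.isDefEq.respectTransparency false in
/-- The adjunction between the functors induced on homotopy categories. -/
def homotopyAdj : L.mapHomotopyCategory c ⊣ R.mapHomotopyCategory c :=
  Adjunction.mkOfUnitCounit
    { unit :=
        { app := fun K => (HomotopyCategory.quotient A c).map (unitC adj c K.as)
          naturality := by
            intro K K' f
            obtain ⟨K, rfl⟩ := HomotopyCategory.quotient_obj_surjective K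
            obtain ⟨K', rfl⟩ := HomotopyCategory.quotient_obj_surjective K'
            obtain ⟨φ, rfl⟩ := (HomotopyCategory.quotient A c).map_surjective f
            show (HomotopyCategory.quotient A c).map φ ≫
                (HomotopyCategory.quotient A c).map (unitC adj c K') =
              (HomotopyCategory.quotient A c).map (unitC adj c K) ≫
                (HomotopyCategory.quotient A c).map
                  ((R.mapHomologicalComplex c).map ((L.mapHomologicalComplex c).map φ))
            rw [← Functor.map_comp, ← Functor.map_comp]
            congr 1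
            ext i
            exact adj.unit.naturality (φ.f i) }
      counit :=
        { app := fun K => (HomotopyCategory.quotient B c).map (counitC adj c K.as)
          naturality := by
            intro K K' f
            obtain ⟨K, rfl⟩ := HomotopyCategory.quotient_obj_surjective K
            obtain ⟨K', rfl⟩ := HomotopyCategory.quotient_obj_surjective K'
            obtain ⟨φ, rfl⟩ := (HomotopyCategory.quotient B c).map_surjective f
            show (HomotopyCategory.quotient B c).map
                  ((L.mapHomologicalComplex c).map ((R.mapHomologicalComplex c).map φ)) ≫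
                (HomotopyCategory.quotient B c).map (counitC adj c K') =
              (HomotopyCategory.quotient B c).map (counitC adj c K) ≫
                (HomotopyCategory.quotient B c).map φ
            rw [← Functor.map_comp, ← Functor.map_comp]
            congr 1
            ext i
            exact adj.counit.naturality (φ.f i) }
      left_triangle := by
        ext K
        obtain ⟨K, rfl⟩ := HomotopyCategory.quotient_obj_surjective K
        show (HomotopyCategory.quotient B c).map
              ((L.mapHomologicalComplex c).map (unitC adj c K)) ≫ 𝟙 _ ≫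
            (HomotopyCategory.quotient B c).map
              (counitC adj c ((L.mapHomologicalComplex c).obj K)) = 𝟙 _
        rw [Category.id_comp, ← Functor.map_comp, ← (HomotopyCategory.quotient B c).map_id]
        congr 1
        ext i
        exact adj.left_triangle_components (K.X i)
      right_triangle := by
        ext K
        obtain ⟨K, rfl⟩ := HomotopyCategory.quotient_obj_surjective K
        show (HomotopyCategory.quotient A c).map
              (unitC adj c ((R.mapHomologicalComplex c).obj K)) ≫ 𝟙 _ ≫
            (HomotopyCategory.quotient A c).map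
              ((R.mapHomologicalComplex c).map (counitC adj c K)) = 𝟙 _
        rw [Category.id_comp, ← Functor.map_comp, ← (HomotopyCategory.quotient A c).map_id]
        congr 1
        ext i
        exact adj.right_triangle_components (K.X i) }

lemma homotopyAdj_counit_app (K : HomologicalComplex B c) :
    (homotopyAdj adj c).counit.app ((HomotopyCategory.quotient B c).obj K) =
      (HomotopyCategory.quotient B c).map (counitC adj c K) := rfl

lemma isIso_homotopyAdj_counit_app [IsIso adj.counit] (K : HomotopyCategory B c) :
    IsIso ((homotopyAdj adj c).counit.app K) := by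
  obtain ⟨K, rfl⟩ := HomotopyCategory.quotient_obj_surjective K
  rw [homotopyAdj_counit_app]
  have : ∀ i, IsIso ((counitC adj c K).f i) := fun i => by
    rw [counitC_f]
    exact NatIso.isIso_app_of_isIso adj.counit _
  have : IsIso (counitC adj c K) := HomologicalComplex.Hom.isIso_of_components _
  exact Functor.map_isIso _ _

end homotopy

end Groth.Agent.H33.DerAdjU

namespace Groth.Agent.H33.DerAdjU

universe w₁ w₂ v₁ v₂ u₁ u₂

open Groth.Agent.H5.KInjDeriv

section derived

variable {A : Type u₁} [Category.{v₁} A] [Abelian A] [HasDerivedCategory.{w₁} A]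
  {B : Type u₂} [Category.{v₂} B] [Abelian B] [HasDerivedCategory.{w₂} B]
  {L : A ⥤ B} {R : B ⥤ A} (adj : L ⊣ R) [L.Additive] [R.Additive]
  [PreservesFiniteLimits L] [PreservesFiniteColimits L]
  (hKinj : ∀ K : CochainComplex B ℤ, ∃ (I : CochainComplex B ℤ) (f : K ⟶ I),
    I.IsKInjective ∧ QuasiIso f)
  [(R.mapHomotopyCategory (ComplexShape.up ℤ) ⋙ DerivedCategory.Qh).HasRightDerivedFunctor
    (HomotopyCategory.quasiIso B (ComplexShape.up ℤ))]

variable (R) in
/-- The total right derived functor of `R` on unbounded derived categories. -/
noncomputable abbrev RR : DerivedCategory B ⥤ DerivedCategory A :=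
  (R.mapHomotopyCategory (ComplexShape.up ℤ) ⋙ DerivedCategory.Qh).totalRightDerived
    DerivedCategory.Qh (HomotopyCategory.quasiIso B (ComplexShape.up ℤ))

variable (R) in
/-- The unit of the total right derived functor of `R`. -/
noncomputable abbrev RRunit :
    R.mapHomotopyCategory (ComplexShape.up ℤ) ⋙ DerivedCategory.Qh ⟶ DerivedCategory.Qh ⋙ RR R :=
  (R.mapHomotopyCategory (ComplexShape.up ℤ) ⋙ DerivedCategory.Qh).totalRightDerivedUnit
    DerivedCategory.Qh (HomotopyCategory.quasiIso B (ComplexShape.up ℤ))

include hKinj in
lemma isIso_RRunit_app (I : KInj B) : IsIso ((RRunit R).app ((Φ B).functor.obj I)) := by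
  have := isRightDerivabilityStructure hKinj
  exact (derives (R.mapHomotopyCategory (ComplexShape.up ℤ) ⋙
    DerivedCategory.Qh)).isIso_of_isRightDerivedFunctor (RRunit R) I

variable (L R) in
lemma isLeftDerived₁ : L.mapDerivedCategory.IsLeftDerivedFunctor
    L.mapDerivedCategoryFactorsh.hom (HomotopyCategory.quasiIso A (ComplexShape.up ℤ)) :=
  Functor.isLeftDerivedFunctor_of_inverts _ _ L.mapDerivedCategoryFactorsh

variable (L R) in
lemma isLeftDerived₂ : (L.mapDerivedCategory ⋙ RR R).IsLeftDerivedFunctor
    ((Functor.associator _ _ _).inv ≫ Functor.whiskerRight L.mapDerivedCategoryFactorsh.hom (RR R))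
    (HomotopyCategory.quasiIso A (ComplexShape.up ℤ)) :=
  Functor.isLeftDerivedFunctor_of_inverts _ _
    ((Functor.associator _ _ _).symm ≪≫ Functor.isoWhiskerRight L.mapDerivedCategoryFactorsh (RR R))

variable (L R) in
include hKinj in
lemma isRightDerived₂ : (RR R ⋙ L.mapDerivedCategory).IsRightDerivedFunctor
    (Functor.whiskerRight (RRunit R) L.mapDerivedCategory ≫ (Functor.associator _ _ _).hom)
    (HomotopyCategory.quasiIso B (ComplexShape.up ℤ)) := by
  have := isRightDerivabilityStructure hKinj
  refine (derives ((R.mapHomotopyCategory (ComplexShape.up ℤ) ⋙ DerivedCategory.Qh) ⋙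
    L.mapDerivedCategory)).isRightDerivedFunctor_of_isIso _ (fun I => ?_)
  have := isIso_RRunit_app (R := R) hKinj I
  dsimp
  rw [Category.comp_id]
  infer_instance

include hKinj in
/-- The derived adjunction. -/
noncomputable def derivedAdj : L.mapDerivedCategory ⊣ RR R :=
  have := isLeftDerived₁ L
  have := isLeftDerived₂ L R
  haveI := isRightDerived₂ L R hKinj
  (homotopyAdj adj (ComplexShape.up ℤ)).derived (HomotopyCategory.quasiIso A (ComplexShape.up ℤ))
    (HomotopyCategory.quasiIso B (ComplexShape.up ℤ)) L.mapDerivedCategoryFactorsh.hom (RRunit R)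

lemma derivedAdj_counit_fac (X₂ : HomotopyCategory B (ComplexShape.up ℤ)) :
    L.mapDerivedCategory.map ((RRunit R).app X₂) ≫
      (derivedAdj adj hKinj).counit.app (DerivedCategory.Qh.obj X₂) =
    L.mapDerivedCategoryFactorsh.hom.app ((R.mapHomotopyCategory (ComplexShape.up ℤ)).obj X₂) ≫
      DerivedCategory.Qh.map ((homotopyAdj adj (ComplexShape.up ℤ)).counit.app X₂) := by
  have := isRightDerived₂ L R hKinj
  exact Adjunction.derivedε_fac_app (homotopyAdj adj (ComplexShape.up ℤ))
    (HomotopyCategory.quasiIso B (ComplexShape.up ℤ)) L.mapDerivedCategoryFactorsh.hom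
    (RRunit R) X₂

lemma isIso_derivedAdj_counit [IsIso adj.counit] : IsIso (derivedAdj adj hKinj).counit := by
  have := isRightDerivabilityStructure hKinj
  have hess := (Φ B).essSurj_of_hasRightResolutions (DerivedCategory.Qh (C := B))
  rw [NatTrans.isIso_iff_isIso_app]
  intro Y
  rw [NatTrans.isIso_app_iff_of_iso _
    (((Φ B).functor ⋙ DerivedCategory.Qh).objObjPreimageIso Y).symm]
  let I := ((Φ B).functor ⋙ DerivedCategory.Qh (C := B)).objPreimage Y
  have h1 := derivedAdj_counit_fac adj hKinj ((Φ B).functor.obj I)
  have h2 : IsIso ((RRunit R).app ((Φ B).functor.obj I)) := isIso_RRunit_app hKinj I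
  have h3 : IsIso ((homotopyAdj adj (ComplexShape.up ℤ)).counit.app ((Φ B).functor.obj I)) :=
    isIso_homotopyAdj_counit_app adj _ _
  have h4 : IsIso (L.mapDerivedCategory.map ((RRunit R).app ((Φ B).functor.obj I)) ≫
      (derivedAdj adj hKinj).counit.app (DerivedCategory.Qh.obj ((Φ B).functor.obj I))) := by
    rw [h1]; infer_instance
  have h5 : IsIso (L.mapDerivedCategory.map ((RRunit R).app ((Φ B).functor.obj I))) :=
    Functor.map_isIso _ _
  exact @IsIso.of_isIso_comp_left _ _ _ _ _
    (L.mapDerivedCategory.map ((RRunit R).app ((Φ B).functor.obj I)))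
    ((derivedAdj adj hKinj).counit.app (DerivedCategory.Qh.obj ((Φ B).functor.obj I))) h5 h4

end derived

end Groth.Agent.H33.DerAdjU
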