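import Groth.Agent.H33.SerreLoc
import Mathlib.Algebra.Homology.HomotopyCategory.KInjective

/-!
# A functor with an exact left adjoint preserves K-injective complexes
-/

set_option autoImplicit false

open CategoryTheory Limits

namespace Groth.Agent.H33.KInjAdj

variable {A B : Type*} [Category A] [Category B] [Abelian A] [Abelian B]
  {L : A ⥤ B} {R : B ⥤ A} (adj : L ⊣ R) [L.Additive] [R.Additive]

lemma acyclic_map [PreservesFiniteLimits L] [PreservesFiniteColimits L]
    (K : CochainComplex A ℤ) (hK : K.Acyclic) :
    ((L.mapHomologicalComplex (ComplexShape.up ℤ)).obj K).Acyclic := fun i => by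
  rw [HomologicalComplex.exactAt_iff_isZero_homology]
  exact IsZero.of_iso (L.map_isZero ((K.exactAt_iff_isZero_homology i).1 (hK i)))
    ((K.sc i).mapHomologyIso L)

include adj in
/-- A functor with an exact left adjoint preserves K-injective complexes. -/
lemma isKInjective_map [PreservesFiniteLimits L] [PreservesFiniteColimits L]
    (I : CochainComplex B ℤ) [I.IsKInjective] :
    CochainComplex.IsKInjective ((R.mapHomologicalComplex (ComplexShape.up ℤ)).obj I) where
  nonempty_homotopy_zero {K} f hK := by
    let adjC := SerreLoc.complexAdj adj (ComplexShape.up ℤ)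
    let f' : (L.mapHomologicalComplex (ComplexShape.up ℤ)).obj K ⟶ I := (adjC.homEquiv K I).symm f
    have H : Homotopy f' 0 := CochainComplex.IsKInjective.homotopyZero f' (acyclic_map K hK)
    have hf : f = adjC.unit.app K ≫ (R.mapHomologicalComplex (ComplexShape.up ℤ)).map f' := by
      exact ((adjC.homEquiv K I).apply_symm_apply f).symm.trans (adjC.homEquiv_unit _ _ _)
    refine ⟨(Homotopy.ofEq hf).trans (((R.mapHomotopy H).compLeft (adjC.unit.app K)).trans
      (Homotopy.ofEq ?_))⟩
    rw [Functor.map_zero, comp_zero]

end Groth.Agent.H33.KInjAdj
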