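import Mathlib

/-!
# Coproducts in the homotopy category of complexes

The image in the homotopy category of a coproduct of complexes is a coproduct.
-/

set_option autoImplicit false
universe w v u
open CategoryTheory CategoryTheory.Limits

namespace Groth.Agent.H33.HoCoprod

variable {A : Type u} [Category.{v} A] [Preadditive A] {ι : Type*} {c : ComplexShape ι}

section

variable {J : Type w} [HasCoproductsOfShape J A]

/-- degreewise colimit cofan of a coproduct of complexes -/
noncomputable def isColimitEval (K : J → HomologicalComplex A c) (p : ι) :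
    IsColimit (Cofan.mk ((∐ K).X p) (fun j => (Sigma.ι K j).f p)) :=
  isColimitOfHasCoproductOfPreservesColimit (HomologicalComplex.eval A c p) K

/-- Assemble homotopies on the components of a coproduct. -/
noncomputable def sigmaHomotopy (K : J → HomologicalComplex A c) {Y : HomologicalComplex A c}
    (m n : (∐ K) ⟶ Y) (h : ∀ j, Homotopy (Sigma.ι K j ≫ m) (Sigma.ι K j ≫ n)) :
    Homotopy m n where
  hom p q := Cofan.IsColimit.desc (isColimitEval K p) (fun j => (h j).hom p q)
  zero p q hpq := by
    apply Cofan.IsColimit.hom_ext (isColimitEval K p)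
    intro j
    rw [Cofan.IsColimit.fac]
    simp [(h j).zero p q hpq]
  comm p := by
    apply Cofan.IsColimit.hom_ext (isColimitEval K p)
    intro j
    have hj := (h j).comm p
    simp only [HomologicalComplex.comp_f] at hj
    show (Sigma.ι K j).f p ≫ m.f p = (Sigma.ι K j).f p ≫ _
    rw [hj]
    simp only [Preadditive.comp_add]
    congr 2
    · by_cases hp : c.Rel p (c.next p)
      · rw [dNext_eq _ hp, dNext_eq _ hp]
        rw [(Sigma.ι K j).comm_assoc]
        congr 1
        exact (Cofan.IsColimit.fac (isColimitEval K (c.next p))
          (fun j => (h j).hom (c.next p) p) j).symm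
      · rw [dNext_eq_zero _ _ hp, dNext_eq_zero _ _ hp, comp_zero]
    · by_cases hp : c.Rel (c.prev p) p
      · rw [prevD_eq _ hp, prevD_eq _ hp]
        rw [← Category.assoc]
        congr 1
        exact (Cofan.IsColimit.fac (isColimitEval K p)
          (fun j => (h j).hom p (c.prev p)) j).symm
      · rw [prevD_eq_zero _ _ hp, prevD_eq_zero _ _ hp, comp_zero]

/-- The image in the homotopy category of a coproduct of complexes is a coproduct. -/
noncomputable def isColimitQuotient (K : J → HomologicalComplex A c) :
    IsColimit (Cofan.mk ((HomotopyCategory.quotient A c).obj (∐ K))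
      (fun j => (HomotopyCategory.quotient A c).map (Sigma.ι K j))) := by
  apply IsColimit.ofExistsUnique
  intro s
  obtain ⟨P, ι'⟩ := s
  obtain ⟨Y, rfl⟩ := HomotopyCategory.quotient_obj_surjective P
  have hf : ∀ j, ∃ f : K j ⟶ Y,
      (HomotopyCategory.quotient A c).map f = ι'.app ⟨j⟩ := fun j =>
    (HomotopyCategory.quotient A c).map_surjective (ι'.app ⟨j⟩)
  choose f hf using hf
  refine ⟨(HomotopyCategory.quotient A c).map (Sigma.desc f), ?_, ?_⟩
  · rintro ⟨j⟩
    show (HomotopyCategory.quotient A c).map (Sigma.ι K j) ≫ _ = _
    rw [← Functor.map_comp, Sigma.ι_desc, hf]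
  · intro m hm
    obtain ⟨m', rfl⟩ := (HomotopyCategory.quotient A c).map_surjective m
    apply HomotopyCategory.eq_of_homotopy
    apply sigmaHomotopy
    intro j
    apply HomotopyCategory.homotopyOfEq
    have := hm ⟨j⟩
    rw [Functor.map_comp, Functor.map_comp]
    refine this.trans ?_
    rw [← Functor.map_comp, Sigma.ι_desc, hf]

end

end Groth.Agent.H33.HoCoprod
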