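import Mathlib.CategoryTheory.Triangulated.Pretriangulated
import Mathlib.CategoryTheory.Limits.Preserves.Shapes.Products

set_option autoImplicit false
universe w v u
open CategoryTheory CategoryTheory.Limits

namespace Groth.Agent.H33

open CategoryTheory.Pretriangulated

variable {D : Type u} [Category.{v} D] [Preadditive D] [HasZeroObject D] [HasShift D ℤ]
  [∀ n : ℤ, (shiftFunctor D n).Additive] [Pretriangulated D]

set_option backward.defeqAttrib.useBackward true in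
set_option backward.isDefEq.respectTransparency false in
/-- A coproduct of distinguished triangles is distinguished (general form, with arbitrary colimit
cofans and arbitrary morphisms compatible with the injections). -/
theorem coproduct_distinguished {J : Type w} (T : J → Triangle D)
    (hT : ∀ j, T j ∈ distTriang D)
    {X₁ X₂ X₃ : D} (ι₁ : ∀ j, (T j).obj₁ ⟶ X₁) (ι₂ : ∀ j, (T j).obj₂ ⟶ X₂)
    (ι₃ : ∀ j, (T j).obj₃ ⟶ X₃)
    (h₁ : IsColimit (Cofan.mk X₁ ι₁)) (h₂ : IsColimit (Cofan.mk X₂ ι₂))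
    (h₃ : IsColimit (Cofan.mk X₃ ι₃))
    (f : X₁ ⟶ X₂) (g : X₂ ⟶ X₃) (h : X₃ ⟶ X₁⟦(1 : ℤ)⟧)
    (hf : ∀ j, ι₁ j ≫ f = (T j).mor₁ ≫ ι₂ j) (hg : ∀ j, ι₂ j ≫ g = (T j).mor₂ ≫ ι₃ j)
    (hh : ∀ j, ι₃ j ≫ h = (T j).mor₃ ≫ (ι₁ j)⟦(1 : ℤ)⟧') :
    Triangle.mk f g h ∈ distTriang D := by
  -- coproduct property of the shifted objects
  have h₁' : IsColimit (Cofan.mk (X₁⟦(1 : ℤ)⟧) fun j => (ι₁ j)⟦(1 : ℤ)⟧') :=
    isColimitCofanMkObjOfIsColimit (shiftFunctor D (1 : ℤ)) _ _ h₁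
  have h₂' : IsColimit (Cofan.mk (X₂⟦(1 : ℤ)⟧) fun j => (ι₂ j)⟦(1 : ℤ)⟧') :=
    isColimitCofanMkObjOfIsColimit (shiftFunctor D (1 : ℤ)) _ _ h₂
  obtain ⟨Z, f₂, f₃, hT'⟩ := distinguished_cocone_triangle f
  -- the comparison maps
  have hc : ∀ j, ∃ c : (T j).obj₃ ⟶ Z, (T j).mor₂ ≫ c = ι₂ j ≫ f₂ ∧
      (T j).mor₃ ≫ (ι₁ j)⟦(1 : ℤ)⟧' = c ≫ f₃ := fun j =>
    complete_distinguished_triangle_morphism (T j) (Triangle.mk f f₂ f₃) (hT j) hT'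
      (ι₁ j) (ι₂ j) (hf j).symm
  choose cj hcj₂ hcj₃ using hc
  let c : X₃ ⟶ Z := Cofan.IsColimit.desc h₃ cj
  have hιc : ∀ j, ι₃ j ≫ c = cj j := fun j => Cofan.IsColimit.fac h₃ cj j
  have hgc : g ≫ c = f₂ := by
    apply Cofan.IsColimit.hom_ext h₂
    intro j
    show ι₂ j ≫ g ≫ c = ι₂ j ≫ f₂
    rw [reassoc_of% (hg j), hιc, hcj₂]
  have hch : c ≫ f₃ = h := by
    apply Cofan.IsColimit.hom_ext h₃
    intro j
    show ι₃ j ≫ c ≫ f₃ = ι₃ j ≫ h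
    rw [reassoc_of% (hιc j), ← hcj₃, hh]
  have hfg : f ≫ g = 0 := by
    apply Cofan.IsColimit.hom_ext h₁
    intro j
    show ι₁ j ≫ f ≫ g = ι₁ j ≫ 0
    rw [reassoc_of% (hf j), hg, comp_zero, ← Category.assoc,
      comp_distTriang_mor_zero₁₂ _ (hT j), zero_comp]
  suffices IsIso c by
    refine isomorphic_distinguished _ hT' _ ?_
    exact Triangle.isoMk _ _ (Iso.refl _) (Iso.refl _) (asIso c)
      (by simp) (by simpa using hgc) (by simpa using hch.symm)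
  refine isIso_of_coyoneda_map_bijective _ (fun A => ⟨?_, ?_⟩)
  · -- injectivity
    intro u₁ u₂ hu
    dsimp only at hu
    rw [← sub_eq_zero]
    have hu0 : c ≫ (u₁ - u₂) = 0 := by rw [Preadditive.comp_sub, hu, sub_self]
    generalize u₁ - u₂ = u at hu0
    have h1 : f₂ ≫ u = 0 := by rw [← hgc, Category.assoc, hu0, comp_zero]
    obtain ⟨v, hv⟩ : ∃ v : X₁⟦(1 : ℤ)⟧ ⟶ A, u = f₃ ≫ v :=
      Triangle.yoneda_exact₃ _ hT' u h1
    have h2 : ∀ j, (T j).mor₃ ≫ (ι₁ j)⟦(1 : ℤ)⟧' ≫ v = 0 := by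
      intro j
      rw [← Category.assoc, hcj₃, Category.assoc, ← hv, ← hιc, Category.assoc, hu0, comp_zero]
    have h3 : ∀ j, ∃ w : (T j).obj₂⟦(1 : ℤ)⟧ ⟶ A,
        (ι₁ j)⟦(1 : ℤ)⟧' ≫ v = (T j).mor₁⟦(1 : ℤ)⟧' ≫ w := by
      intro j
      obtain ⟨w, hw⟩ := Triangle.yoneda_exact₃ _ (rot_of_distTriang _ (hT j))
        ((ι₁ j)⟦(1 : ℤ)⟧' ≫ v) (h2 j)
      refine ⟨-w, ?_⟩
      rw [hw]
      simp
    choose wj hwj using h3
    let w : X₂⟦(1 : ℤ)⟧ ⟶ A := Cofan.IsColimit.desc h₂' wj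
    have hw : ∀ j, (ι₂ j)⟦(1 : ℤ)⟧' ≫ w = wj j := fun j => Cofan.IsColimit.fac h₂' wj j
    have hvw : v = f⟦(1 : ℤ)⟧' ≫ w := by
      apply Cofan.IsColimit.hom_ext h₁'
      intro j
      show (ι₁ j)⟦(1 : ℤ)⟧' ≫ v = (ι₁ j)⟦(1 : ℤ)⟧' ≫ f⟦(1 : ℤ)⟧' ≫ w
      rw [← Functor.map_comp_assoc, hf, Functor.map_comp_assoc, hw, hwj]
    rw [hv, hvw, ← Category.assoc]
    have := comp_distTriang_mor_zero₃₁ _ hT'
    dsimp at this
    rw [this, zero_comp]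
  · -- surjectivity
    intro a
    obtain ⟨a', ha'⟩ : ∃ a' : Z ⟶ A, g ≫ a = f₂ ≫ a' :=
      Triangle.yoneda_exact₂ _ hT' (g ≫ a) (by
        show f ≫ g ≫ a = 0
        rw [reassoc_of% hfg, zero_comp])
    have h1 : ∀ j, ∃ b : (T j).obj₁⟦(1 : ℤ)⟧ ⟶ A, ι₃ j ≫ (a - c ≫ a') = (T j).mor₃ ≫ b := by
      intro j
      refine Triangle.yoneda_exact₃ _ (hT j) _ ?_
      rw [← Category.assoc, ← hg, Category.assoc, Preadditive.comp_sub, ha', reassoc_of% hgc,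
        sub_self, comp_zero]
    choose bj hbj using h1
    let b : X₁⟦(1 : ℤ)⟧ ⟶ A := Cofan.IsColimit.desc h₁' bj
    have hb : ∀ j, (ι₁ j)⟦(1 : ℤ)⟧' ≫ b = bj j := fun j => Cofan.IsColimit.fac h₁' bj j
    have h2 : a - c ≫ a' = h ≫ b := by
      apply Cofan.IsColimit.hom_ext h₃
      intro j
      show ι₃ j ≫ (a - c ≫ a') = ι₃ j ≫ h ≫ b
      rw [hbj, reassoc_of% (hh j), hb]
    refine ⟨a' + f₃ ≫ b, ?_⟩
    dsimp only
    rw [Preadditive.comp_add, reassoc_of% hch, ← h2]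
    abel

end Groth.Agent.H33
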