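import Mathlib
import Groth.Agent.H33.CoprodTriangle

/-!
# Verdier localization and coproducts (Bökstedt–Neeman)

Let `T` be a triangulated category with coproducts of shape `J`, `P` a triangulated subcategory
closed under these coproducts and `L : T ⥤ D` a localization functor for `P.trW`. Then `L` sends
coproducts to coproducts and `D` has coproducts of shape `J`.
-/

set_option autoImplicit false
universe w v u v' u'
open CategoryTheory CategoryTheory.Limits

namespace Groth.Agent.H33.LocCoprod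

open CategoryTheory.Pretriangulated

variable {T : Type u} [Category.{v} T] [Preadditive T] [HasZeroObject T] [HasShift T ℤ]
  [∀ n : ℤ, (shiftFunctor T n).Additive] [Pretriangulated T] [IsTriangulated T]
  (P : ObjectProperty T) [P.IsTriangulated]
  {D : Type u'} [Category.{v'} D] [Preadditive D] (L : T ⥤ D) [L.Additive] [L.IsLocalization P.trW]
  {J : Type w} [HasCoproductsOfShape J T]

include P in
/-- A morphism factoring through an object of `P` is killed by `L`. -/
lemma map_eq_zero_of_factor {X Y C : T} (hC : P C) (v : X ⟶ C) (b : C ⟶ Y) :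
    L.map (v ≫ b) = 0 := by
  obtain ⟨Z, s, h, hT⟩ := distinguished_cocone_triangle₁ v
  have hs : P.trW s := by
    rw [ObjectProperty.trW_iff]
    exact ⟨C, v, h, hT, hC⟩
  have : IsIso (L.map s) := Localization.inverts L P.trW s hs
  have hsv : s ≫ v = 0 := comp_distTriang_mor_zero₁₂ _ hT
  rw [← cancel_epi (L.map s), ← L.map_comp, comp_zero, reassoc_of% hsv, zero_comp, L.map_zero]

/-- A coproduct of morphisms in `P.trW` is in `P.trW`. -/
lemma trW_sigmaMap (hP : ∀ (C : J → T), (∀ j, P (C j)) → P (∐ C))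
    {X' X : J → T} (s : ∀ j, X' j ⟶ X j) (hs : ∀ j, P.trW (s j)) :
    P.trW (Limits.Sigma.map s) := by
  have h := fun j => (ObjectProperty.trW_iff P (s j)).1 (hs j)
  choose C v w hT hC using h
  have := Groth.Agent.H33.coproduct_distinguished (fun j => Triangle.mk (s j) (v j) (w j)) hT
    (Sigma.ι X') (Sigma.ι X) (Sigma.ι C) (coproductIsCoproduct X') (coproductIsCoproduct X)
    (coproductIsCoproduct C)
    (Limits.Sigma.map s) (Limits.Sigma.map v)
    (Sigma.desc (fun j => w j ≫ (Sigma.ι X' j)⟦(1 : ℤ)⟧'))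
    (fun j => Limits.Sigma.ι_map s j) (fun j => Limits.Sigma.ι_map v j)
    (fun j => Sigma.ι_desc _ j)
  exact ObjectProperty.trW.mk (P := P) this (hP C hC)

section

variable (hP : ∀ (C : J → T), (∀ j, P (C j)) → P (∐ C))
include hP

lemma exists_desc (X : J → T) (Y₀ : T) (f : ∀ j, L.obj (X j) ⟶ L.obj Y₀) :
    ∃ d : L.obj (∐ X) ⟶ L.obj Y₀, ∀ j, L.map (Sigma.ι X j) ≫ d = f j := by
  have h := fun j => Localization.exists_rightFraction L P.trW (f j)
  choose φ hφ using h
  let X' : J → T := fun j => (φ j).X'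
  let s : ∀ j, X' j ⟶ X j := fun j => (φ j).s
  let g : ∀ j, X' j ⟶ Y₀ := fun j => (φ j).f
  have hσ : P.trW (Limits.Sigma.map s) := trW_sigmaMap P hP s (fun j => (φ j).hs)
  have : IsIso (L.map (Limits.Sigma.map s)) := Localization.inverts L P.trW _ hσ
  refine ⟨inv (L.map (Limits.Sigma.map s)) ≫ L.map (Sigma.desc g), fun j => ?_⟩
  have : IsIso (L.map (s j)) := Localization.inverts L P.trW _ (φ j).hs
  have h1 : L.map (s j) ≫ f j = L.map (g j) := by
    rw [hφ j]; exact (φ j).map_s_comp_map L (Localization.inverts L P.trW)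
  rw [← cancel_epi (L.map (s j)), h1, ← L.map_comp_assoc]
  have h2 : s j ≫ Sigma.ι X j = Sigma.ι X' j ≫ Limits.Sigma.map s :=
    (Limits.Sigma.ι_map s j).symm
  rw [h2, L.map_comp_assoc, IsIso.hom_inv_id_assoc, ← L.map_comp, Sigma.ι_desc]

lemma eq_zero_of_comp_eq_zero (X : J → T) (Y₀ : T) (d : L.obj (∐ X) ⟶ L.obj Y₀)
    (hd : ∀ j, L.map (Sigma.ι X j) ≫ d = 0) : d = 0 := by
  obtain ⟨ψ, hψ⟩ := Localization.exists_leftFraction L P.trW d
  have : IsIso (L.map ψ.s) := Localization.inverts L P.trW _ ψ.hs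
  have h1 : d ≫ L.map ψ.s = L.map ψ.f := by
    rw [hψ]; exact ψ.map_comp_map_s L (Localization.inverts L P.trW)
  suffices L.map ψ.f = 0 by
    rw [← cancel_mono (L.map ψ.s), h1, this, zero_comp]
  have h2 : ∀ j, L.map (Sigma.ι X j ≫ ψ.f) = L.map 0 := fun j => by
    rw [L.map_comp, ← h1, reassoc_of% (hd j), zero_comp, L.map_zero]
  have h3 := fun j => (MorphismProperty.map_eq_iff_precomp L P.trW _ _).1 (h2 j)
  choose Z u hu hu' using h3
  have h4 := fun j => (ObjectProperty.trW_iff P (u j)).1 (hu j)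
  choose C v w hT hC using h4
  have h5 : ∀ j, ∃ b : C j ⟶ ψ.Y', Sigma.ι X j ≫ ψ.f = v j ≫ b := fun j =>
    Triangle.yoneda_exact₂ _ (hT j) (Sigma.ι X j ≫ ψ.f) ((hu' j).trans comp_zero)
  choose b hb using h5
  have h6 : ψ.f = Limits.Sigma.map v ≫ Sigma.desc b := by
    apply Sigma.hom_ext
    intro j
    rw [hb j, ← Category.assoc, Limits.Sigma.ι_map, Category.assoc, Sigma.ι_desc]
  rw [h6]
  exact map_eq_zero_of_factor P L (hP C hC) _ _

/-- `L` sends coproducts to coproducts. -/
noncomputable def isColimitMap (X : J → T) :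
    IsColimit (Cofan.mk (L.obj (∐ X)) (fun j => L.map (Sigma.ι X j))) := by
  have := Localization.essSurj L P.trW
  apply IsColimit.ofExistsUnique
  intro s
  let Y₀ := L.objPreimage s.pt
  let e : L.obj Y₀ ≅ s.pt := L.objObjPreimageIso s.pt
  obtain ⟨d, hd⟩ := exists_desc P L hP X Y₀ (fun j => s.ι.app ⟨j⟩ ≫ e.inv)
  refine ⟨d ≫ e.hom, ?_, ?_⟩
  · rintro ⟨j⟩
    show L.map (Sigma.ι X j) ≫ d ≫ e.hom = _
    rw [reassoc_of% (hd j), e.inv_hom_id]
    exact Category.comp_id _
  · intro (m : L.obj (∐ X) ⟶ s.pt) hm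
    have : (m ≫ e.inv - d) = 0 := by
      apply eq_zero_of_comp_eq_zero P L hP X Y₀
      intro j
      have h1 : L.map (Sigma.ι X j) ≫ m = s.ι.app ⟨j⟩ := hm ⟨j⟩
      rw [Preadditive.comp_sub, hd j, reassoc_of% h1, sub_self]
    rw [sub_eq_zero] at this
    rw [← this, Category.assoc, e.inv_hom_id]
    exact (Category.comp_id _).symm

include L in
theorem hasCoproductsOfShape : HasCoproductsOfShape J D := by
  have := Localization.essSurj L P.trW
  constructor
  intro F
  let X : J → T := fun j => L.objPreimage (F.obj ⟨j⟩)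
  let e : Discrete.functor (fun j => L.obj (X j)) ≅ F :=
    Discrete.natIso (fun j => L.objObjPreimageIso (F.obj j))
  have : HasColimit (Discrete.functor (fun j => L.obj (X j))) :=
    ⟨⟨⟨_, isColimitMap P L hP X⟩⟩⟩
  exact hasColimit_of_iso e.symm

end

end Groth.Agent.H33.LocCoprod
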