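import Groth.Agent.H33.DerAdjU
import Mathlib.CategoryTheory.Localization.Adjunction

/-!
# The adjunction on derived categories induced by an adjunction between exact functors
-/

set_option autoImplicit false

open CategoryTheory Limits

namespace Groth.Agent.H33.DerAdjExact

universe w₁ w₂ v₁ v₂ u₁ u₂

variable {A : Type u₁} [Category.{v₁} A] [Abelian A] [HasDerivedCategory.{w₁} A]
  {B : Type u₂} [Category.{v₂} B] [Abelian B] [HasDerivedCategory.{w₂} B]
  {L : A ⥤ B} {R : B ⥤ A} (adj : L ⊣ R) [L.Additive] [R.Additive]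
  [PreservesFiniteLimits L] [PreservesFiniteColimits L]
  [PreservesFiniteLimits R] [PreservesFiniteColimits R]

/-- If `L ⊣ R` are both exact, then `L.mapDerivedCategory ⊣ R.mapDerivedCategory`. -/
noncomputable def derivedAdj : L.mapDerivedCategory ⊣ R.mapDerivedCategory :=
  letI : CatCommSq (L.mapHomotopyCategory (ComplexShape.up ℤ)) DerivedCategory.Qh
      DerivedCategory.Qh L.mapDerivedCategory := ⟨L.mapDerivedCategoryFactorsh.symm⟩
  letI : CatCommSq (R.mapHomotopyCategory (ComplexShape.up ℤ)) DerivedCategory.Qh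
      DerivedCategory.Qh R.mapDerivedCategory := ⟨R.mapDerivedCategoryFactorsh.symm⟩
  (DerAdjU.homotopyAdj adj (ComplexShape.up ℤ)).localization DerivedCategory.Qh
    (HomotopyCategory.quasiIso A (ComplexShape.up ℤ)) DerivedCategory.Qh
    (HomotopyCategory.quasiIso B (ComplexShape.up ℤ)) L.mapDerivedCategory R.mapDerivedCategory

end Groth.Agent.H33.DerAdjExact
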