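import Groth.Agent.H33.DerComp
import Mathlib.Algebra.Homology.DerivedCategory.Basic
import Mathlib.Algebra.Homology.HomotopyCategory.KInjective
import Mathlib.CategoryTheory.Triangulated.Orthogonal

/-!
# A total right derived functor (computed by K-injective resolutions) of a triangulated functor
sends distinguished triangles to distinguished triangles
-/

set_option autoImplicit false

open CategoryTheory Limits Pretriangulated

namespace Groth.Agent.H33.DerTriangle

universe w₁ v₁ u₁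

open Groth.Agent.H5.KInjDeriv Groth.Agent.H33.DerComp

variable {A : Type u₁} [Category.{v₁} A] [Abelian A] [HasDerivedCategory.{w₁} A]

omit [HasDerivedCategory.{w₁} A] in
lemma kInj_iff_rightOrthogonal (X : HomotopyCategory A (ComplexShape.up ℤ)) :
    kInj A X ↔ (HomotopyCategory.subcategoryAcyclic A).rightOrthogonal X := by
  obtain ⟨K, rfl⟩ := HomotopyCategory.quotient_obj_surjective X
  exact CochainComplex.isKInjective_iff_rightOrthogonal K

omit [HasDerivedCategory.{w₁} A] in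
lemma kInj_of_distinguished (T : Triangle (HomotopyCategory A (ComplexShape.up ℤ)))
    (hT : T ∈ distTriang _) (h₁ : kInj A T.obj₁) (h₂ : kInj A T.obj₂) : kInj A T.obj₃ := by
  rw [kInj_iff_rightOrthogonal] at h₁ h₂ ⊢
  exact (HomotopyCategory.subcategoryAcyclic A).rightOrthogonal.ext_of_isTriangulatedClosed₃
    T hT h₁ h₂

variable (hKinjA : ∀ K : CochainComplex A ℤ, ∃ (I : CochainComplex A ℤ) (f : K ⟶ I),
    I.IsKInjective ∧ QuasiIso f)
  {D' : Type*} [Category D'] [HasZeroObject D'] [HasShift D' ℤ] [Preadditive D']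
  [∀ (n : ℤ), (shiftFunctor D' n).Additive] [Pretriangulated D']
  (F : HomotopyCategory A (ComplexShape.up ℤ) ⥤ D') [F.CommShift ℤ] [F.IsTriangulated]
  [F.HasRightDerivedFunctor (HomotopyCategory.quasiIso A (ComplexShape.up ℤ))]

include hKinjA in
/-- The total right derived functor of a triangulated functor sends a distinguished triangle to
a distinguished triangle, for a suitable third morphism. -/
theorem exists_distinguished (T : Triangle (DerivedCategory A)) (hT : T ∈ distTriang _) :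
    ∃ w : (RF F).obj T.obj₃ ⟶ ((RF F).obj T.obj₁)⟦(1 : ℤ)⟧,
      Triangle.mk ((RF F).map T.mor₁) ((RF F).map T.mor₂) w ∈ distTriang D' := by
  have hess := essSurj hKinjA
  let Ψ := (Φ A).functor ⋙ DerivedCategory.Qh (C := A)
  let I : KInj A := Ψ.objPreimage T.obj₁
  let e₁ : DerivedCategory.Qh.obj I.obj ≅ T.obj₁ := Ψ.objObjPreimageIso T.obj₁
  let J : KInj A := Ψ.objPreimage T.obj₂
  let e₂ : DerivedCategory.Qh.obj J.obj ≅ T.obj₂ := Ψ.objObjPreimageIso T.obj₂
  obtain ⟨u, hu⟩ := (Qh_map_bijective' I.obj J).2 (e₁.hom ≫ T.mor₁ ≫ e₂.inv)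
  obtain ⟨Z, g, h, hZ⟩ := distinguished_cocone_triangle u
  have hZK : kInj A Z := kInj_of_distinguished _ hZ I.property J.property
  let T₀ := Triangle.mk u g h
  have hT₀' : (DerivedCategory.Qh (C := A)).mapTriangle.obj T₀ ∈ distTriang _ :=
    (DerivedCategory.Qh (C := A)).map_distinguished _ hZ
  let eT : (DerivedCategory.Qh (C := A)).mapTriangle.obj T₀ ≅ T :=
    isoTriangleOfIso₁₂ _ _ hT₀' hT e₁ e₂ (by
      show DerivedCategory.Qh.map u ≫ e₂.hom = e₁.hom ≫ T.mor₁
      rw [hu, Category.assoc, Category.assoc, Iso.inv_hom_id, Category.comp_id])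
  let e₃ : DerivedCategory.Qh.obj Z ≅ T.obj₃ := Triangle.π₃.mapIso eT
  have he₃ : DerivedCategory.Qh.map g ≫ e₃.hom = e₂.hom ≫ T.mor₂ := eT.hom.comm₂
  have hFT₀ : F.mapTriangle.obj T₀ ∈ distTriang D' := F.map_distinguished _ hZ
  have i₁ : IsIso ((RFunit F).app I.obj) := isIso_RFunit_app hKinjA F I
  have i₂ : IsIso ((RFunit F).app J.obj) := isIso_RFunit_app hKinjA F J
  have i₃ : IsIso ((RFunit F).app Z) := isIso_RFunit_app hKinjA F ⟨Z, hZK⟩
  let α₁ : (RF F).obj T.obj₁ ≅ F.obj I.obj :=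
    (RF F).mapIso e₁.symm ≪≫ (asIso ((RFunit F).app I.obj)).symm
  let α₂ : (RF F).obj T.obj₂ ≅ F.obj J.obj :=
    (RF F).mapIso e₂.symm ≪≫ (asIso ((RFunit F).app J.obj)).symm
  let α₃ : (RF F).obj T.obj₃ ≅ F.obj Z :=
    (RF F).mapIso e₃.symm ≪≫ (asIso ((RFunit F).app Z)).symm
  have hα₁ : α₁.hom = (RF F).map e₁.inv ≫ inv ((RFunit F).app I.obj) := rfl
  have hα₂ : α₂.hom = (RF F).map e₂.inv ≫ inv ((RFunit F).app J.obj) := rfl
  have hα₃ : α₃.hom = (RF F).map e₃.inv ≫ inv ((RFunit F).app Z) := rfl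
  have c₁ : (RF F).map T.mor₁ ≫ α₂.hom = α₁.hom ≫ F.map u := by
    have hn : F.map u ≫ (RFunit F).app J.obj =
        (RFunit F).app I.obj ≫ (RF F).map (DerivedCategory.Qh.map u) := (RFunit F).naturality u
    rw [hα₁, hα₂, ← cancel_mono ((RFunit F).app J.obj)]
    simp only [Category.assoc, IsIso.inv_hom_id, Category.comp_id]
    rw [hn, IsIso.inv_hom_id_assoc, hu, ← Functor.map_comp, ← Functor.map_comp]
    congr 1
    rw [Iso.inv_hom_id_assoc]
  have c₂ : (RF F).map T.mor₂ ≫ α₃.hom = α₂.hom ≫ F.map g := by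
    have hn : F.map g ≫ (RFunit F).app Z =
        (RFunit F).app J.obj ≫ (RF F).map (DerivedCategory.Qh.map g) := (RFunit F).naturality g
    rw [hα₂, hα₃, ← cancel_mono ((RFunit F).app Z)]
    simp only [Category.assoc, IsIso.inv_hom_id, Category.comp_id]
    rw [hn, IsIso.inv_hom_id_assoc, ← Functor.map_comp, ← Functor.map_comp]
    congr 1
    rw [← cancel_mono e₃.hom, Category.assoc, Iso.inv_hom_id, Category.comp_id, Category.assoc,
      he₃, Iso.inv_hom_id_assoc]
  let m₃ : F.obj Z ⟶ (F.obj I.obj)⟦(1 : ℤ)⟧ := (F.mapTriangle.obj T₀).mor₃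
  have c₃ : (α₃.hom ≫ m₃ ≫ α₁.inv⟦(1 : ℤ)⟧') ≫ α₁.hom⟦(1 : ℤ)⟧' = α₃.hom ≫ m₃ := by
    simp only [Category.assoc]
    rw [← Functor.map_comp, Iso.inv_hom_id, CategoryTheory.Functor.map_id, Category.comp_id]
  refine ⟨α₃.hom ≫ m₃ ≫ α₁.inv⟦(1 : ℤ)⟧', ?_⟩
  exact isomorphic_distinguished _ hFT₀ _ (Triangle.isoMk _ _ α₁ α₂ α₃ c₁ c₂ c₃)

end Groth.Agent.H33.DerTriangle
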