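import Mathlib

/-!
# Objects killed by an element of a multiplicative subset in a linear triangulated category
-/

set_option autoImplicit false
universe w v u v' u'
open CategoryTheory CategoryTheory.Limits CategoryTheory.Pretriangulated
open ZeroObject

namespace Groth.Agent.H33.TorsionLoc

variable {A : Type w} [CommRing A] (S : Submonoid A)
  {T : Type u} [Category.{v} T] [Preadditive T] [Linear A T] [HasZeroObject T] [HasShift T ℤ]
  [∀ n : ℤ, (shiftFunctor T n).Additive] [∀ n : ℤ, (shiftFunctor T n).Linear A]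
  [Pretriangulated T]

/-- Objects whose identity is killed by an element of `S`. -/
def killed : ObjectProperty T := fun Z => ∃ s ∈ S, s • 𝟙 Z = 0

variable {S}

lemma smul_id_comp {X Y : T} (a : A) (f : X ⟶ Y) : (a • 𝟙 X) ≫ f = a • f := by
  rw [Linear.smul_comp, Category.id_comp]

lemma comp_smul_id {X Y : T} (a : A) (f : X ⟶ Y) : f ≫ (a • 𝟙 Y) = a • f := by
  rw [Linear.comp_smul, Category.comp_id]

lemma shift_smul_id (X : T) (a : A) (n : ℤ) : (a • 𝟙 X)⟦n⟧' = a • 𝟙 (X⟦n⟧) := by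
  rw [Functor.map_smul, CategoryTheory.Functor.map_id]

instance : (killed S (T := T)).IsClosedUnderIsomorphisms where
  of_iso {X Y} e := by
    rintro ⟨s, hs, h⟩
    refine ⟨s, hs, ?_⟩
    have : s • 𝟙 Y = e.inv ≫ (s • 𝟙 X) ≫ e.hom := by
      rw [smul_id_comp, Linear.comp_smul, e.inv_hom_id]
    rw [this, h, zero_comp, comp_zero]

instance : (killed S (T := T)).IsStableUnderRetracts where
  of_retract {X Y} r := by
    rintro ⟨s, hs, h⟩
    refine ⟨s, hs, ?_⟩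
    have : s • 𝟙 X = r.i ≫ (s • 𝟙 Y) ≫ r.r := by
      rw [smul_id_comp, Linear.comp_smul, r.retract]
    rw [this, h, zero_comp, comp_zero]

instance : (killed S (T := T)).ContainsZero where
  exists_zero := ⟨0, isZero_zero T, 1, S.one_mem, (isZero_zero T).eq_of_src _ _⟩

instance : (killed S (T := T)).IsStableUnderShift ℤ where
  isStableUnderShiftBy n :=
    { le_shift := by
        rintro X ⟨s, hs, h⟩
        refine ⟨s, hs, ?_⟩
        rw [← shift_smul_id, h, Functor.map_zero] }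

lemma killed_ext₂ (Tr : Triangle T) (hT : Tr ∈ distTriang T) (h₁ : killed S Tr.obj₁)
    (h₃ : killed S Tr.obj₃) : killed S Tr.obj₂ := by
  obtain ⟨s, hs, h⟩ := h₁
  obtain ⟨s', hs', h'⟩ := h₃
  have h0 : (s' • 𝟙 Tr.obj₂) ≫ Tr.mor₂ = 0 := by
    rw [smul_id_comp, ← comp_smul_id, h', comp_zero]
  obtain ⟨b, hb⟩ := Triangle.coyoneda_exact₂ _ hT _ h0
  refine ⟨s * s', S.mul_mem hs hs', ?_⟩
  rw [mul_smul, hb, ← Linear.comp_smul, ← smul_id_comp s Tr.mor₁, h, zero_comp, comp_zero]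

instance : (killed S (T := T)).IsTriangulated where
  toIsTriangulatedClosed₂ := .mk' killed_ext₂

/-- the cone of `f • 𝟙 X` is killed by `f ^ 2` -/
lemma killed_cone (X : T) (f : A) (hf : f ∈ S) (Z : T) (g : X ⟶ Z) (h : Z ⟶ X⟦(1 : ℤ)⟧)
    (hT : Triangle.mk (f • 𝟙 X) g h ∈ distTriang T) : killed S Z := by
  have h1 : f • h = 0 := by
    have : h ≫ (f • 𝟙 X)⟦(1 : ℤ)⟧' = 0 := comp_distTriang_mor_zero₃₁ _ hT
    rw [shift_smul_id, comp_smul_id] at this
    exact this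
  have h2 : f • g = 0 := by
    have : (f • 𝟙 X) ≫ g = 0 := comp_distTriang_mor_zero₁₂ _ hT
    rw [smul_id_comp] at this
    exact this
  have h3 : (f • 𝟙 Z) ≫ h = 0 := by rw [smul_id_comp, h1]
  obtain ⟨a, ha⟩ : ∃ a : Z ⟶ X, f • 𝟙 Z = a ≫ g :=
    Triangle.coyoneda_exact₃ _ hT (f • 𝟙 Z) h3
  refine ⟨f * f, S.mul_mem hf hf, ?_⟩
  rw [mul_smul, ha, ← Linear.comp_smul, h2, comp_zero]

/-- if the cone of `t` is killed by `s` then `s • 𝟙` factors through `t` on the left -/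
lemma exists_factor_left {Y Y' C : T} (t : Y ⟶ Y') (c : Y' ⟶ C) (h : C ⟶ Y⟦(1 : ℤ)⟧)
    (hT : Triangle.mk t c h ∈ distTriang T) (s : A) (hs : s • 𝟙 C = 0) :
    ∃ r : Y' ⟶ Y, s • 𝟙 Y' = r ≫ t := by
  have h0 : (s • 𝟙 Y') ≫ c = 0 := by
    rw [smul_id_comp, ← comp_smul_id, hs, comp_zero]
  exact Triangle.coyoneda_exact₂ _ hT _ h0

/-- if the cone of `t` is killed by `s` then `s • 𝟙` factors through `t` on the right -/
lemma exists_factor_right {Y Y' C : T} (t : Y ⟶ Y') (c : Y' ⟶ C) (h : C ⟶ Y⟦(1 : ℤ)⟧)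
    (hT : Triangle.mk t c h ∈ distTriang T) (s : A) (hs : s • 𝟙 C = 0) :
    ∃ r : Y' ⟶ Y, s • 𝟙 Y = t ≫ r := by
  have hT' := inv_rot_of_distTriang _ hT
  have key : ∀ (m : C⟦(-1 : ℤ)⟧ ⟶ Y), m ≫ (s • 𝟙 Y) = 0 := fun m => by
    rw [comp_smul_id, ← smul_id_comp, ← shift_smul_id, hs, Functor.map_zero, zero_comp]
  exact Triangle.yoneda_exact₂ _ hT' (s • 𝟙 Y) (key _)

end Groth.Agent.H33.TorsionLoc
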