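import Mathlib
/-!
# Adapted classes of objects and right acyclicity (helper for S6625)
-/
set_option autoImplicit false
universe v v' u u'
open CategoryTheory Limits

namespace Groth.Agent.H33.Adapted

section General

variable {B : Type u'} [Category.{v'} B] [Abelian B]

/-- exactness of a composite `X₁ ↠ Z ⟶ X₂ ⟶ Z' ↪ X₃` -/
lemma exact_of_factor {X₁ Z X₂ Z' X₃ : B} (a : X₁ ⟶ Z) (i : Z ⟶ X₂) (p : X₂ ⟶ Z') (j : Z' ⟶ X₃)
    [Epi a] [Mono j] (w : i ≫ p = 0) (h : (ShortComplex.mk i p w).Exact) :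
    (ShortComplex.mk (a ≫ i) (p ≫ j) (by rw [Category.assoc, reassoc_of% w, zero_comp,
      comp_zero])).Exact := by
  let S₁ : ShortComplex B := ShortComplex.mk (a ≫ i) p (by rw [Category.assoc, w, comp_zero])
  let φ : S₁ ⟶ ShortComplex.mk i p w :=
    { τ₁ := a, τ₂ := 𝟙 _, τ₃ := 𝟙 _ }
  have : Epi φ.τ₁ := by dsimp [φ]; infer_instance
  have : IsIso φ.τ₂ := by dsimp [φ]; infer_instance
  have : Mono φ.τ₃ := by dsimp [φ]; infer_instance
  have h₁ : S₁.Exact := (ShortComplex.exact_iff_of_epi_of_isIso_of_mono φ).2 h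
  let φ' : S₁ ⟶ ShortComplex.mk (a ≫ i) (p ≫ j) (by rw [Category.assoc, reassoc_of% w,
      zero_comp, comp_zero]) :=
    { τ₁ := 𝟙 _, τ₂ := 𝟙 _, τ₃ := j }
  have : Epi φ'.τ₁ := by dsimp [φ']; infer_instance
  have : IsIso φ'.τ₂ := by dsimp [φ']; infer_instance
  have : Mono φ'.τ₃ := by dsimp [φ']; infer_instance
  exact (ShortComplex.exact_iff_of_epi_of_isIso_of_mono φ').1 h₁

/-- flexible form of `exact_of_factor` -/
lemma exact_of_factor' {X₁ Z X₂ Z' X₃ : B} (f : X₁ ⟶ X₂) (g : X₂ ⟶ X₃) (w' : f ≫ g = 0)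
    (a : X₁ ⟶ Z) (i : Z ⟶ X₂) (p : X₂ ⟶ Z') (j : Z' ⟶ X₃)
    (_ : Epi a) (_ : Mono j) (w : i ≫ p = 0) (h : (ShortComplex.mk i p w).Exact)
    (hf : f = a ≫ i) (hg : g = p ≫ j) :
    (ShortComplex.mk f g w').Exact := by
  subst hf hg
  exact exact_of_factor a i p j w h

end General

variable {A : Type u} [Category.{v} A] [Abelian A]

/-- The short complex `ker f ⟶ X ⟶ ker g` attached to `f ≫ g = 0`. -/
noncomputable abbrev kerSC {X Y Z : A} (f : X ⟶ Y) (g : Y ⟶ Z) (w : f ≫ g = 0) : ShortComplex A :=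
  ShortComplex.mk (kernel.ι f) (kernel.lift g f w) (by
    rw [← cancel_mono (kernel.ι g)]
    simp)

lemma kerSC_shortExact {X Y Z : A} (f : X ⟶ Y) (g : Y ⟶ Z) (w : f ≫ g = 0)
    (h : (ShortComplex.mk f g w).Exact) : (kerSC f g w).ShortExact := by
  have : Mono (kerSC f g w).f := by dsimp [kerSC]; infer_instance
  have : Epi (kerSC f g w).g := by
    dsimp [kerSC]
    exact (ShortComplex.exact_iff_epi_kernel_lift _).1 h
  refine ShortComplex.ShortExact.mk' ?_ ‹_› ‹_›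
  apply ShortComplex.exact_of_f_is_kernel
  refine KernelFork.IsLimit.ofι' _ _ (fun {W} k hk ↦ ?_)
  dsimp at k hk ⊢
  have hk' : k ≫ f = 0 := by
    have := hk =≫ kernel.ι g
    rw [Category.assoc, kernel.lift_ι, zero_comp] at this
    exact this
  exact ⟨kernel.lift f k hk', kernel.lift_ι _ _ _⟩

section QuasiIsoZero

variable {C : Type*} [Category C] [Abelian C]

lemma quasiIsoAt_zero_iff {S T : CochainComplex C ℤ} (φ : S ⟶ T)
    (hS₁ : IsZero (S.X (-1))) (hS₂ : IsZero (S.X 1)) (hT : IsZero (T.X (-1))) :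
    QuasiIsoAt φ 0 ↔ (ShortComplex.mk (φ.f 0) (T.d 0 1) (by
      rw [φ.comm, hS₂.eq_of_tgt (S.d 0 1) 0, zero_comp])).Exact ∧ Mono (φ.f 0) := by
  rw [quasiIsoAt_iff' _ (-1) 0 1 (by simp) (by simp)]
  exact ShortComplex.quasiIso_iff_of_zeros _ (hS₁.eq_of_src _ _) (hS₂.eq_of_tgt _ _)
    (hT.eq_of_src _ _)

end QuasiIsoZero

section Resolution

variable {B : Type u'} [Category.{v'} B] [Abelian B] (F : A ⥤ B) [F.Additive]
  (I : ObjectProperty A)
  (h2 : ∀ S : ShortComplex A, S.ShortExact → I S.X₁ → I S.X₂ → I S.X₃ ∧ (S.map F).ShortExact)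

include h2 in
lemma h2' (S : ShortComplex A) (hS : S.ShortExact) (h₁ : I.isoClosure S.X₁)
    (h₂ : I.isoClosure S.X₂) : I S.X₃ ∧ (S.map F).ShortExact := by
  obtain ⟨Y₁, hY₁, ⟨e₁⟩⟩ := h₁
  obtain ⟨Y₂, hY₂, ⟨e₂⟩⟩ := h₂
  let S' : ShortComplex A := ShortComplex.mk (e₁.inv ≫ S.f ≫ e₂.hom) (e₂.inv ≫ S.g) (by simp)
  let e : S ≅ S' := ShortComplex.isoMk e₁ e₂ (Iso.refl _) (by simp [S']) (by simp [S'])
  have hS' : S'.ShortExact := ShortComplex.shortExact_of_iso e hS
  obtain ⟨h3, h4⟩ := h2 S' hS' hY₁ hY₂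
  exact ⟨h3, ShortComplex.shortExact_of_iso ((F.mapShortComplex.mapIso e).symm) h4⟩

variable (L : CochainComplex A ℤ) [L.IsStrictlyGE 0] (hL : ∀ n, I (L.X n)) {X : A} (hX : I X)
  (ε : (CochainComplex.singleFunctor A 0).obj X ⟶ L) [QuasiIso ε]

/-- The short complex `Zⁿ ⟶ Lⁿ ⟶ Zⁿ⁺¹`. -/
noncomputable abbrev T (n : ℤ) : ShortComplex A :=
  kerSC (L.d n (n + 1)) (L.d (n + 1) (n + 1 + 1)) (L.d_comp_d _ _ _)

omit [L.IsStrictlyGE 0] in
include ε in
lemma exactAt_of_ne (m : ℤ) (hm : m ≠ 0) : L.ExactAt m :=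
  (exactAt_iff_of_quasiIsoAt ε m).1
    (HomologicalComplex.exactAt_single_obj _ _ _ _ hm)

omit [L.IsStrictlyGE 0] in
include ε in
lemma T_shortExact (n : ℤ) (hn : 0 ≤ n) : (T L n).ShortExact := by
  apply kerSC_shortExact
  exact (L.exactAt_iff' n (n + 1) (n + 1 + 1) (by simp) (by simp)).1
    (exactAt_of_ne L ε _ (by lia))

/-- the comparison map from `X` to the kernel of `d⁰` -/
noncomputable def toKer : ((CochainComplex.singleFunctor A 0).obj X).X 0 ⟶ kernel (L.d 0 (0 + 1)) :=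
  kernel.lift _ (ε.f 0) (by
    have hz : IsZero (((CochainComplex.singleFunctor A 0).obj X).X (0 + 1)) :=
      HomologicalComplex.isZero_single_obj_X _ _ _ _ (by simp)
    have : ε.f (0 + 1) = 0 := hz.eq_of_src _ _
    rw [ε.comm, this, comp_zero])

omit [L.IsStrictlyGE 0] [QuasiIso ε] in
@[reassoc (attr := simp)]
lemma toKer_ι : toKer L ε ≫ kernel.ι (L.d 0 (0 + 1)) = ε.f 0 := kernel.lift_ι _ _ _

instance : IsIso (toKer L ε) := by
  have h := (quasiIsoAt_zero_iff ε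
    (HomologicalComplex.isZero_single_obj_X _ _ _ _ (by simp))
    (HomologicalComplex.isZero_single_obj_X _ _ _ _ (by simp))
    (L.isZero_of_isStrictlyGE 0 (-1))).1 inferInstance
  obtain ⟨hex, hmono⟩ := h
  have : Mono (toKer L ε) := mono_of_mono_fac (toKer_ι L ε)
  have : Epi (toKer L ε) := (ShortComplex.exact_iff_epi_kernel_lift _).1 hex
  exact isIso_of_mono_of_epi _

include hX ε in
lemma isoClosure_kernel_zero : I.isoClosure (kernel (L.d 0 (0 + 1))) :=
  ⟨X, hX, ⟨(asIso (toKer L ε)).symm ≪≫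
    HomologicalComplex.singleObjXSelf (ComplexShape.up ℤ) 0 X⟩⟩

include h2 hL hX ε in
lemma isoClosure_kernel (n : ℤ) (hn : 0 ≤ n) : I.isoClosure (kernel (L.d n (n + 1))) := by
  induction n, hn using Int.leInduction with
  | base => exact isoClosure_kernel_zero I L hX ε
  | succ n hn ih =>
    exact I.le_isoClosure _ (h2' F I h2 (T L n) (T_shortExact L ε n hn) ih
      (I.le_isoClosure _ (hL n))).1

include h2 hL hX ε in
lemma map_T_shortExact (n : ℤ) (hn : 0 ≤ n) : ((T L n).map F).ShortExact :=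
  (h2' F I h2 (T L n) (T_shortExact L ε n hn) (isoClosure_kernel F I h2 L hL hX ε n hn)
    (I.le_isoClosure _ (hL n))).2

omit [L.IsStrictlyGE 0] in
lemma d_eq (n : ℤ) : L.d n (n + 1) = (T L n).g ≫ (T L (n + 1)).f :=
  (kernel.lift_ι _ _ _).symm

include h2 hL hX ε in
lemma map_exactAt_succ (n : ℤ) (hn : 0 ≤ n) :
    ((F.mapHomologicalComplex (ComplexShape.up ℤ)).obj L).ExactAt (n + 1) := by
  rw [HomologicalComplex.exactAt_iff' _ n (n + 1) (n + 1 + 1) (by simp) (by simp)]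
  have h₀ := map_T_shortExact F I h2 L hL hX ε n hn
  have h₁ := map_T_shortExact F I h2 L hL hX ε (n + 1) (by lia)
  have h₂ := map_T_shortExact F I h2 L hL hX ε (n + 1 + 1) (by lia)
  have e1 : Epi (F.map (T L n).g) := h₀.epi_g
  have e2 : Mono (F.map (T L (n + 1 + 1)).f) := h₂.mono_f
  exact exact_of_factor' _ _ _ (F.map (T L n).g) (F.map (T L (n + 1)).f)
    (F.map (T L (n + 1)).g) (F.map (T L (n + 1 + 1)).f) e1 e2 _ h₁.exact
    (by
      change F.map (L.d n (n + 1)) = _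
      rw [d_eq, F.map_comp]
      rfl)
    (by
      change F.map (L.d (n + 1) (n + 1 + 1)) = _
      rw [d_eq, F.map_comp]
      rfl)

include h2 hL hX ε in
lemma map_quasiIsoAt_zero : QuasiIsoAt ((F.mapHomologicalComplex (ComplexShape.up ℤ)).map ε) 0 := by
  rw [quasiIsoAt_zero_iff _
    (F.map_isZero (HomologicalComplex.isZero_single_obj_X _ _ _ _ (by simp)))
    (F.map_isZero (HomologicalComplex.isZero_single_obj_X _ _ _ _ (by simp)))
    (F.map_isZero (L.isZero_of_isStrictlyGE 0 (-1)))]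
  have h₀ := map_T_shortExact F I h2 L hL hX ε 0 le_rfl
  have h₁ := map_T_shortExact F I h2 L hL hX ε (0 + 1) (by lia)
  have e1 : Mono (F.map (T L 0).f) := h₀.mono_f
  have e2 : Mono (F.map (T L (0 + 1)).f) := h₁.mono_f
  have e3 : IsIso (F.map (toKer L ε)) := inferInstance
  have e4 : Epi (F.map (toKer L ε)) := inferInstance
  have hf : F.map (ε.f 0) = F.map (toKer L ε) ≫ F.map (T L 0).f := by
    rw [← F.map_comp]
    congr 1
    exact (toKer_ι L ε).symm
  constructor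
  · refine exact_of_factor' _ _ _ (F.map (toKer L ε)) (F.map (T L 0).f)
      (F.map (T L 0).g) (F.map (T L (0 + 1)).f) e4 e2 _ h₀.exact hf ?_
    change F.map (L.d 0 (0 + 1)) = _
    rw [d_eq, F.map_comp]
    rfl
  · change Mono (F.map (ε.f 0))
    rw [hf]
    infer_instance

include h2 hL hX ε in
/-- `F` maps a resolution of `X ∈ I` by objects of `I` to a resolution of `F X`. -/
theorem quasiIso_map : QuasiIso ((F.mapHomologicalComplex (ComplexShape.up ℤ)).map ε) := by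
  rw [quasiIso_iff]
  intro n
  have hs : ∀ m : ℤ, m ≠ 0 → ((F.mapHomologicalComplex (ComplexShape.up ℤ)).obj
      ((CochainComplex.singleFunctor A 0).obj X)).ExactAt m := fun m hm ↦
    ShortComplex.exact_of_isZero_X₂ _
      (F.map_isZero (HomologicalComplex.isZero_single_obj_X _ _ _ _ hm))
  rcases lt_trichotomy n 0 with hn | rfl | hn
  · rw [quasiIsoAt_iff_exactAt _ _ (hs n (by lia))]
    exact ShortComplex.exact_of_isZero_X₂ _ (F.map_isZero (L.isZero_of_isStrictlyGE 0 n))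
  · exact map_quasiIsoAt_zero F I h2 L hL hX ε
  · obtain ⟨m, rfl⟩ : ∃ m : ℤ, n = m + 1 := ⟨n - 1, by lia⟩
    rw [quasiIsoAt_iff_exactAt _ _ (hs _ (by lia))]
    exact map_exactAt_succ F I h2 L hL hX ε m (by lia)

end Resolution

end Groth.Agent.H33.Adapted
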