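import Mathlib
/-! Helper for S6624: right acyclicity via injective resolutions. -/
set_option autoImplicit false
universe w w' v v' u u'
open CategoryTheory CategoryTheory.Limits

namespace Groth.Agent.H33.RAcyc

variable {A : Type u} [Category.{v} A] [Abelian A] [HasDerivedCategory.{w} A] [EnoughInjectives A]
    {B : Type u'} [Category.{v'} B] [Abelian B] [HasDerivedCategory.{w'} B]
    (F : A ⥤ B) [F.Additive] {X : A} (I : InjectiveResolution X)

/-- the single complex as object of `CochainComplex.Plus` -/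
noncomputable abbrev singlePlus (X : A) : CochainComplex.Plus A :=
  ⟨(CochainComplex.singleFunctor A 0).obj X, 0, inferInstance⟩

noncomputable abbrev resPlus : CochainComplex.Plus A :=
  ⟨I.cochainComplex, 0, inferInstance⟩

noncomputable abbrev ιPlus : singlePlus X ⟶ resPlus I := ObjectProperty.homMk I.ι'

lemma isIso_plusQh_map_quotient_map_iff {K L : CochainComplex.Plus B} (f : K ⟶ L) :
    IsIso (DerivedCategory.Plus.Qh.map ((HomotopyCategory.Plus.quotient B).map f)) ↔
      QuasiIso f.hom := by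
  rw [← isIso_iff_of_reflects_iso _ DerivedCategory.Plus.ι]
  change IsIso (DerivedCategory.Qh.map ((HomotopyCategory.quotient _ _).map f.hom)) ↔ _
  rw [DerivedCategory.isIso_Qh_map_iff, HomotopyCategory.quotient_map_mem_quasiIso_iff]
  rfl

lemma isIso_unit_iff :
    IsIso (F.rightDerivedFunctorPlusUnit.app ((HomotopyCategory.Plus.singleFunctor A 0).obj X)) ↔
      QuasiIso ((F.mapHomologicalComplex (ComplexShape.up ℤ)).map I.ι') := by
  let φ := (HomotopyCategory.Plus.quotient A).map (ιPlus I)
  have h1 : IsIso (DerivedCategory.Plus.Qh.map φ) := by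
    rw [isIso_plusQh_map_quotient_map_iff]
    change QuasiIso I.ι'
    infer_instance
  have h2 : IsIso (F.rightDerivedFunctorPlusUnit.app
      ((HomotopyCategory.Plus.quotient A).obj (resPlus I))) := inferInstance
  have nat := F.rightDerivedFunctorPlusUnit.naturality φ
  have h3 : IsIso (F.rightDerivedFunctorPlus.map (DerivedCategory.Plus.Qh.map φ)) := inferInstance
  have h4 : IsIso (F.rightDerivedFunctorPlusUnit.app
        ((HomotopyCategory.Plus.singleFunctor A 0).obj X)) ↔
      IsIso (DerivedCategory.Plus.Qh.map (F.mapHomotopyCategoryPlus.map φ)) := by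
    dsimp at nat
    constructor
    · intro h
      have : IsIso (F.rightDerivedFunctorPlusUnit.app
        ((HomotopyCategory.Plus.quotient A).obj (singlePlus X))) := h
      have h5 : IsIso (DerivedCategory.Plus.Qh.map (F.mapHomotopyCategoryPlus.map φ) ≫
        F.rightDerivedFunctorPlusUnit.app ((HomotopyCategory.Plus.quotient A).obj (resPlus I))) := by
        rw [nat]; exact IsIso.comp_isIso' this h3
      exact IsIso.of_isIso_comp_right _ (F.rightDerivedFunctorPlusUnit.app
        ((HomotopyCategory.Plus.quotient A).obj (resPlus I)))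
    · intro h
      have h5 : IsIso (F.rightDerivedFunctorPlusUnit.app
        ((HomotopyCategory.Plus.quotient A).obj (singlePlus X)) ≫
        F.rightDerivedFunctorPlus.map (DerivedCategory.Plus.Qh.map φ)) := by
        rw [← nat]; exact IsIso.comp_isIso' h h2
      exact @IsIso.of_isIso_comp_right _ _ _ _ _ _ (F.rightDerivedFunctorPlus.map (DerivedCategory.Plus.Qh.map φ)) h3 h5
  rw [h4]
  exact isIso_plusQh_map_quotient_map_iff (F.mapCochainComplexPlus.map (ιPlus I))

end Groth.Agent.H33.RAcyc

namespace Groth.Agent.H33.RAcyc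

variable {A : Type u} [Category.{v} A] [Abelian A]
    {B : Type u'} [Category.{v'} B] [Abelian B]
    (F : A ⥤ B) [F.Additive] {X : A} (I : InjectiveResolution X)

lemma w₁ : F.map (I.ι'.f 0) ≫ F.map (I.cochainComplex.d 0 1) = 0 := by
  rw [← F.map_comp, I.ι'.comm 0 1]
  have hz : IsZero (((CochainComplex.singleFunctor A 0).obj X).X 1) := by
    apply HomologicalComplex.isZero_single_obj_X; simp
  rw [hz.eq_of_tgt (((CochainComplex.singleFunctor A 0).obj X).d 0 1) 0, zero_comp, F.map_zero]

lemma w₂ : F.map (I.ι.f 0) ≫ F.map (I.cocomplex.d 0 1) = 0 := by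
  rw [← F.map_comp, I.ι_f_zero_comp_complex_d, F.map_zero]

lemma quasiIsoAt_zero_iff₁ :
    QuasiIsoAt ((F.mapHomologicalComplex (ComplexShape.up ℤ)).map I.ι') 0 ↔
      (ShortComplex.mk _ _ (w₁ F I)).Exact ∧ Mono (F.map (I.ι'.f 0)) := by
  rw [quasiIsoAt_iff' _ (-1) 0 1 (by simp) (by simp)]
  have hz : IsZero (((CochainComplex.singleFunctor A 0).obj X).X 1) := by
    apply HomologicalComplex.isZero_single_obj_X; simp
  have hz' : IsZero (I.cochainComplex.X (-1)) :=
    CochainComplex.isZero_of_isStrictlyGE _ 0 _ (by lia)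
  exact ShortComplex.quasiIso_iff_of_zeros _
    ((F.map_isZero (HomologicalComplex.isZero_single_obj_X _ _ _ _ (by simp))).eq_of_src _ _)
    ((F.map_isZero hz).eq_of_tgt _ _)
    ((F.map_isZero hz').eq_of_src _ _)

lemma isIso_toRightDerivedZero'_iff :
    IsIso (I.toRightDerivedZero' F) ↔
      (ShortComplex.mk _ _ (w₂ F I)).Exact ∧ Mono (F.map (I.ι.f 0)) := by
  dsimp [InjectiveResolution.toRightDerivedZero']
  exact CochainComplex.isIso_liftCycles_iff _ _ _

end Groth.Agent.H33.RAcyc

namespace Groth.Agent.H33.RAcyc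

variable {A : Type u} [Category.{v} A] [Abelian A]
    {B : Type u'} [Category.{v'} B] [Abelian B]
    (F : A ⥤ B) [F.Additive] {X : A} (I : InjectiveResolution X)

set_option backward.isDefEq.respectTransparency false in
noncomputable def scIso₀ :
    ShortComplex.mk _ _ (w₁ F I) ≅ ShortComplex.mk _ _ (w₂ F I) :=
  ShortComplex.isoMk (F.mapIso (HomologicalComplex.singleObjXSelf (ComplexShape.up ℤ) 0 X))
    (F.mapIso (I.cochainComplexXIso 0 0 rfl)) (F.mapIso (I.cochainComplexXIso 1 1 rfl))
    (by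
      change F.map _ ≫ F.map _ = F.map _ ≫ F.map _
      rw [← F.map_comp, ← F.map_comp]
      congr 1
      rw [I.ι'_f_zero]
      simp)
    (by
      change F.map _ ≫ F.map _ = F.map _ ≫ F.map _
      rw [← F.map_comp, ← F.map_comp]
      congr 1
      rw [I.cochainComplex_d 0 1 0 1 rfl rfl]
      simp)

set_option backward.isDefEq.respectTransparency false in
lemma quasiIsoAt_zero_iff :
    QuasiIsoAt ((F.mapHomologicalComplex (ComplexShape.up ℤ)).map I.ι') 0 ↔
      IsIso (I.toRightDerivedZero' F) := by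
  rw [quasiIsoAt_zero_iff₁, isIso_toRightDerivedZero'_iff,
    ShortComplex.exact_iff_of_iso (scIso₀ F I)]
  have h : F.map (I.ι'.f 0) ≫ F.map (I.cochainComplexXIso 0 0 rfl).hom =
      F.map (HomologicalComplex.singleObjXSelf (ComplexShape.up ℤ) 0 X).hom ≫
      F.map (I.ι.f 0) := ((scIso₀ F I).hom.comm₁₂).symm
  have e1 : IsIso (F.map (I.cochainComplexXIso 0 0 rfl).hom) := inferInstance
  have e2 : IsIso (F.map (HomologicalComplex.singleObjXSelf (ComplexShape.up ℤ) 0 X).hom) :=
    inferInstance
  constructor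
  · rintro ⟨h1, h2⟩
    refine ⟨h1, ?_⟩
    have h3 : Mono (F.map (HomologicalComplex.singleObjXSelf (ComplexShape.up ℤ) 0 X).hom ≫
      F.map (I.ι.f 0)) := by rw [← h]; infer_instance
    exact (mono_comp_iff_of_isIso _ _).1 h3
  · rintro ⟨h1, h2⟩
    refine ⟨h1, ?_⟩
    have h3 : Mono (F.map (I.ι'.f 0) ≫ F.map (I.cochainComplexXIso 0 0 rfl).hom) := by
      rw [h]; infer_instance
    exact (mono_comp_iff_of_mono _ _).1 h3

end Groth.Agent.H33.RAcyc

namespace Groth.Agent.H33.RAcyc

variable {A : Type u} [Category.{v} A] [Abelian A]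
    {B : Type u'} [Category.{v'} B] [Abelian B]
    (F : A ⥤ B) [F.Additive] {X : A} (I : InjectiveResolution X)

set_option backward.isDefEq.respectTransparency false in
noncomputable def scIsoSucc (k : ℕ) :
    ((F.mapHomologicalComplex (ComplexShape.up ℤ)).obj I.cochainComplex).sc'
      (k : ℤ) ((k : ℤ) + 1) ((k : ℤ) + 2) ≅
    ((F.mapHomologicalComplex (ComplexShape.up ℕ)).obj I.cocomplex).sc' k (k + 1) (k + 2) :=
  ShortComplex.isoMk (F.mapIso (I.cochainComplexXIso k k rfl))
    (F.mapIso (I.cochainComplexXIso ((k : ℤ) + 1) (k + 1) (by simp)))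
    (F.mapIso (I.cochainComplexXIso ((k : ℤ) + 2) (k + 2) (by simp)))
    (by
      change F.map _ ≫ F.map _ = F.map _ ≫ F.map _
      rw [← F.map_comp, ← F.map_comp]
      congr 1
      rw [I.cochainComplex_d k ((k : ℤ) + 1) k (k + 1) rfl (by simp)]
      simp)
    (by
      change F.map _ ≫ F.map _ = F.map _ ≫ F.map _
      rw [← F.map_comp, ← F.map_comp]
      congr 1
      rw [I.cochainComplex_d ((k : ℤ) + 1) ((k : ℤ) + 2) (k + 1) (k + 2) (by simp) (by simp)]
      simp)

lemma exactAt_succ_iff (k : ℕ) :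
    ((F.mapHomologicalComplex (ComplexShape.up ℤ)).obj I.cochainComplex).ExactAt ((k : ℤ) + 1) ↔
      ((F.mapHomologicalComplex (ComplexShape.up ℕ)).obj I.cocomplex).ExactAt (k + 1) := by
  rw [HomologicalComplex.exactAt_iff' _ (k : ℤ) ((k : ℤ) + 1) ((k : ℤ) + 2) (by simp)
    (by simp; lia),
    HomologicalComplex.exactAt_iff' _ k (k + 1) (k + 2) (by simp) (by simp),
    ShortComplex.exact_iff_of_iso (scIsoSucc F I k)]

lemma exactAt_succ_iff' [HasInjectiveResolutions A] (k : ℕ) :
    ((F.mapHomologicalComplex (ComplexShape.up ℤ)).obj I.cochainComplex).ExactAt ((k : ℤ) + 1) ↔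
      IsZero ((F.rightDerived (k + 1)).obj X) := by
  rw [exactAt_succ_iff, HomologicalComplex.exactAt_iff_isZero_homology]
  exact (I.isoRightDerivedObj F (k + 1)).symm.isZero_iff

end Groth.Agent.H33.RAcyc


namespace Groth.Agent.H33.RAcyc

variable {A : Type u} [Category.{v} A] [Abelian A]
    {B : Type u'} [Category.{v'} B] [Abelian B]
    (F : A ⥤ B) [F.Additive] {X : A} (I : InjectiveResolution X)

lemma exactAt_single (n : ℤ) (hn : n ≠ 0) :
    ((F.mapHomologicalComplex (ComplexShape.up ℤ)).obj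
      ((CochainComplex.singleFunctor A 0).obj X)).ExactAt n :=
  ShortComplex.exact_of_isZero_X₂ _
    (F.map_isZero (HomologicalComplex.isZero_single_obj_X _ _ _ _ hn))

lemma exactAt_neg (n : ℤ) (hn : n < 0) :
    ((F.mapHomologicalComplex (ComplexShape.up ℤ)).obj I.cochainComplex).ExactAt n :=
  ShortComplex.exact_of_isZero_X₂ _
    (F.map_isZero (CochainComplex.isZero_of_isStrictlyGE _ 0 _ hn))

variable [HasInjectiveResolutions A]

lemma quasiIso_map_ι'_iff :
    QuasiIso ((F.mapHomologicalComplex (ComplexShape.up ℤ)).map I.ι') ↔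
      IsIso (I.toRightDerivedZero' F) ∧ ∀ k : ℕ, IsZero ((F.rightDerived (k + 1)).obj X) := by
  rw [quasiIso_iff]
  constructor
  · intro h
    refine ⟨(quasiIsoAt_zero_iff F I).1 (h 0), fun k ↦ (exactAt_succ_iff' F I k).1 ?_⟩
    exact (quasiIsoAt_iff_exactAt _ _ (exactAt_single F _ (by lia))).1 (h _)
  · rintro ⟨h0, h1⟩ n
    rcases lt_trichotomy n 0 with hn | rfl | hn
    · exact (quasiIsoAt_iff_exactAt _ _ (exactAt_single F _ (by lia))).2 (exactAt_neg F I n hn)
    · exact (quasiIsoAt_zero_iff F I).2 h0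
    · obtain ⟨k, rfl⟩ : ∃ k : ℕ, n = (k : ℤ) + 1 := ⟨(n - 1).toNat, by lia⟩
      exact (quasiIsoAt_iff_exactAt _ _ (exactAt_single F _ (by lia))).2
        ((exactAt_succ_iff' F I k).2 (h1 k))

set_option backward.isDefEq.respectTransparency false in
lemma isIso_toRightDerivedZero_app_iff :
    IsIso (F.toRightDerivedZero.app X) ↔ IsIso (I.toRightDerivedZero' F) := by
  rw [I.toRightDerivedZero_eq F]
  have h : IsIso ((CochainComplex.isoHomologyπ₀
      ((F.mapHomologicalComplex (ComplexShape.up ℕ)).obj I.cocomplex)).hom ≫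
      (I.isoRightDerivedObj F 0).inv) :=
    IsIso.comp_isIso' inferInstance inferInstance
  exact isIso_comp_right_iff _ _

end Groth.Agent.H33.RAcyc
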