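import Mathlib
/-!
# Right resolutions by objects of a class `I`

Classical degree-by-degree construction: for a class `I` of objects of an abelian category such
that every object embeds into an object of `I`, any bounded below complex `K` admits a termwise
monomorphic quasi-isomorphism `K ⟶ L` with all `L.X n` in `I`.
-/
set_option autoImplicit false
universe v u
open CategoryTheory Limits

namespace Groth.Agent.H33.IRes

variable {A : Type u} [Category.{v} A] [Abelian A]

section Pushout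

variable {X₁ X₂ X₃ X₄ : A} {t : X₁ ⟶ X₂} {l : X₁ ⟶ X₃} {r : X₂ ⟶ X₄} {b : X₃ ⟶ X₄}

/-- In an abelian category, a pushout square with a monomorphic leg is a pullback square. -/
lemma isPullback_of_isPushout_of_mono_left (h : IsPushout t l r b) [Mono l] :
    IsPullback t l r b := by
  have w : biprod.lift t (-l) ≫ biprod.desc r b = 0 := by
    rw [biprod.lift_desc, Preadditive.neg_comp, h.w, add_neg_cancel]
  have hS : (ShortComplex.mk (biprod.lift t (-l)) (biprod.desc r b) w).Exact :=
    h.exact_shortComplex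
  have : Mono (ShortComplex.mk (biprod.lift t (-l)) (biprod.desc r b) w).f := by
    dsimp
    rw [Preadditive.mono_iff_cancel_zero]
    intro Z u hu
    have h2 := hu =≫ biprod.snd
    rw [Category.assoc, biprod.lift_snd, zero_comp, Preadditive.comp_neg, neg_eq_zero] at h2
    exact zero_of_comp_mono l h2
  have hk : ∀ s : PullbackCone r b, biprod.lift s.fst (-s.snd) ≫ biprod.desc r b = 0 := by
    intro s
    rw [biprod.lift_desc, Preadditive.neg_comp, s.condition, add_neg_cancel]
  refine ⟨h.toCommSq, ⟨PullbackCone.IsLimit.mk _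
    (fun s ↦ hS.lift (biprod.lift s.fst (-s.snd)) (hk s)) ?_ ?_ ?_⟩⟩
  · intro s
    have := hS.lift_f (biprod.lift s.fst (-s.snd)) (hk s) =≫ biprod.fst
    dsimp at this
    rw [Category.assoc, biprod.lift_fst, biprod.lift_fst] at this
    exact this
  · intro s
    have := hS.lift_f (biprod.lift s.fst (-s.snd)) (hk s) =≫ biprod.snd
    dsimp at this
    rw [Category.assoc, biprod.lift_snd, biprod.lift_snd, Preadditive.comp_neg, neg_inj] at this
    exact this
  · intro s m hm₁ hm₂
    have h3 : m ≫ biprod.lift t (-l) = biprod.lift s.fst (-s.snd) := by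
      apply biprod.hom_ext
      · rw [Category.assoc, biprod.lift_fst, biprod.lift_fst, hm₁]
      · rw [Category.assoc, biprod.lift_snd, biprod.lift_snd, Preadditive.comp_neg, hm₂]
    have h4 := hS.lift_f (biprod.lift s.fst (-s.snd)) (hk s)
    dsimp at h4
    rw [← cancel_mono (biprod.lift t (-l)), h3, h4]

lemma isPullback_of_isPushout_of_mono_top (h : IsPushout t l r b) [Mono t] :
    IsPullback t l r b :=
  (isPullback_of_isPushout_of_mono_left h.flip).flip

end Pushout

/-- Chosen embeddings into objects of the class `I`. -/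
structure Emb (I : A → Prop) where
  obj : A → A
  ι : ∀ X, X ⟶ obj X
  mem : ∀ X, I (obj X)
  mono : ∀ X, Mono (ι X)

/-- Choice of embeddings. -/
noncomputable def Emb.ofExists {I : A → Prop}
    (hI : ∀ X : A, ∃ (Y : A) (ι : X ⟶ Y), I Y ∧ Mono ι) : Emb I where
  obj X := (hI X).choose
  ι X := (hI X).choose_spec.choose
  mem X := (hI X).choose_spec.choose_spec.1
  mono X := (hI X).choose_spec.choose_spec.2

variable {I : A → Prop} (E : Emb I) (K : CochainComplex A ℕ)

instance (X : A) : Mono (E.ι X) := E.mono X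

/-- The data at stage `k` of the construction. -/
structure Stage (I : A → Prop) (K : CochainComplex A ℕ) (k : ℕ) where
  L : A
  α : K.X k ⟶ L
  W : A
  q : L ⟶ W
  m : K.opcycles k ⟶ W
  comm : α ≫ q = K.pOpcycles k ≫ m
  hm : Mono m
  hq : Epi q
  hL : I L
  hα : Mono α

attribute [reassoc] Stage.comm

namespace Stage

variable {K} {k : ℕ} (s : Stage I K k)

instance : Mono s.m := s.hm
instance : Epi s.q := s.hq
instance : Mono s.α := s.hα

/-- The pushout used to define the next term. -/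
noncomputable abbrev P : A := pushout s.m (K.fromOpcycles k (k + 1))

/-- The pushout square. -/
lemma isPushout : IsPushout s.m (K.fromOpcycles k (k + 1))
    (pushout.inl s.m (K.fromOpcycles k (k + 1))) (pushout.inr s.m (K.fromOpcycles k (k + 1))) :=
  IsPushout.of_hasPushout _ _

lemma isPullback : IsPullback s.m (K.fromOpcycles k (k + 1))
    (pushout.inl s.m (K.fromOpcycles k (k + 1))) (pushout.inr s.m (K.fromOpcycles k (k + 1))) :=
  isPullback_of_isPushout_of_mono_top s.isPushout

/-- The map from the "opcycles" of `L` to the next term. -/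
noncomputable def r : s.W ⟶ E.obj s.P := pushout.inl _ _ ≫ E.ι _

/-- The next component of the morphism. -/
noncomputable def α' : K.X (k + 1) ⟶ E.obj s.P := pushout.inr _ _ ≫ E.ι _

instance : Mono (s.α' E) := by unfold α'; infer_instance

@[reassoc]
lemma fromOpcycles_α' : K.fromOpcycles k (k + 1) ≫ s.α' E = s.m ≫ s.r E := by
  simp [α', r, pushout.condition_assoc]

@[reassoc]
lemma d_α' : K.d k (k + 1) ≫ s.α' E = s.α ≫ s.q ≫ s.r E := by
  rw [← K.p_fromOpcycles k (k + 1), Category.assoc, fromOpcycles_α', s.comm_assoc]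

@[reassoc]
lemma d_α'_π : K.d k (k + 1) ≫ s.α' E ≫ cokernel.π (s.r E) = 0 := by
  rw [d_α'_assoc]
  simp

/-- The next map `m`. -/
noncomputable def m' : K.opcycles (k + 1) ⟶ cokernel (s.r E) :=
  K.descOpcycles (s.α' E ≫ cokernel.π (s.r E)) k (by simp) (s.d_α'_π E)

@[reassoc (attr := simp)]
lemma p_m' : K.pOpcycles (k + 1) ≫ s.m' E = s.α' E ≫ cokernel.π (s.r E) := by
  simp [m']

lemma fromOpcycles_pOpcycles : K.fromOpcycles k (k + 1) ≫ K.pOpcycles (k + 1) = 0 := by
  rw [← cancel_epi (K.pOpcycles k)]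
  simp

/-- Lifting property coming from the pullback square. -/
lemma exists_lift {T : A} (w : T ⟶ s.W) (x : T ⟶ K.X (k + 1)) (h : x ≫ s.α' E = w ≫ s.r E) :
    ∃ t : T ⟶ K.opcycles k, t ≫ s.m = w ∧ t ≫ K.fromOpcycles k (k + 1) = x := by
  have h2 : w ≫ pushout.inl s.m (K.fromOpcycles k (k + 1)) =
      x ≫ pushout.inr s.m (K.fromOpcycles k (k + 1)) := by
    rw [← cancel_mono (E.ι _)]
    simpa [α', r] using h.symm
  exact s.isPullback.exists_lift w x h2

lemma exact_r : (ShortComplex.mk _ _ (cokernel.condition (s.r E))).Exact :=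
  ShortComplex.exact_of_g_is_cokernel _ (cokernelIsCokernel _)

instance mono_m' : Mono (s.m' E) := by
  rw [Preadditive.mono_iff_cancel_zero]
  intro T z hz
  obtain ⟨T₁, π₁, _, x, hx⟩ := surjective_up_to_refinements_of_epi (K.pOpcycles (k + 1)) z
  have h1 : (x ≫ s.α' E) ≫ cokernel.π (s.r E) = 0 := by
    have := hx =≫ s.m' E
    rw [Category.assoc, hz, comp_zero, Category.assoc, p_m'] at this
    rw [Category.assoc, ← this]
  obtain ⟨T₂, π₂, _, w, hw⟩ := (s.exact_r E).exact_up_to_refinements (x ≫ s.α' E) h1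
  dsimp at w hw
  obtain ⟨t, ht₁, ht₂⟩ := s.exists_lift E w (π₂ ≫ x) (by rw [Category.assoc, hw])
  have h3 : π₂ ≫ π₁ ≫ z = 0 := by
    rw [hx, ← Category.assoc, ← ht₂, Category.assoc, fromOpcycles_pOpcycles, comp_zero]
  rw [← cancel_epi π₁, ← cancel_epi π₂, h3, comp_zero, comp_zero]

/-- The next stage. -/
noncomputable def next : Stage I K (k + 1) where
  L := E.obj s.P
  α := s.α' E
  W := cokernel (s.r E)
  q := cokernel.π _
  m := s.m' E
  comm := (s.p_m' E).symm
  hm := inferInstance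
  hq := inferInstance
  hL := E.mem _
  hα := inferInstance

/-- The map `r`, with target the `L` of the next stage. -/
noncomputable def r' : s.W ⟶ (s.next E).L := s.r E

@[reassoc (attr := simp)]
lemma r'_q : s.r' E ≫ (s.next E).q = 0 := cokernel.condition (s.r E)

lemma exact_r' : (ShortComplex.mk _ _ (s.r'_q E)).Exact := s.exact_r E

@[reassoc]
lemma next_d_α : K.d k (k + 1) ≫ (s.next E).α = s.α ≫ s.q ≫ s.r' E := s.d_α' E

lemma exists_lift' {T : A} (w : T ⟶ s.W) (x : T ⟶ K.X (k + 1))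
    (h : x ≫ (s.next E).α = w ≫ s.r' E) :
    ∃ t : T ⟶ K.opcycles k, t ≫ s.m = w ∧ t ≫ K.fromOpcycles k (k + 1) = x :=
  s.exists_lift E w x h

lemma mono_chase {T : A} (x₂ : T ⟶ K.X (k + 1)) (y₁ : T ⟶ s.L)
    (h : x₂ ≫ (s.next E).α = y₁ ≫ s.q ≫ s.r' E) :
    ∃ (T' : A) (π : T' ⟶ T) (_ : Epi π) (x₁ : T' ⟶ K.X k), π ≫ x₂ = x₁ ≫ K.d k (k + 1) := by
  obtain ⟨t, ht₁, ht₂⟩ := s.exists_lift' E (y₁ ≫ s.q) x₂ (by rw [h, Category.assoc])
  obtain ⟨T₁, π₁, _, x₁, hx₁⟩ := surjective_up_to_refinements_of_epi (K.pOpcycles k) t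
  refine ⟨T₁, π₁, inferInstance, x₁, ?_⟩
  rw [← ht₂, reassoc_of% hx₁, K.p_fromOpcycles]

lemma epi_chase {T : A} (y₂ : T ⟶ (s.next E).L)
    (h : y₂ ≫ (s.next E).q ≫ (s.next E).r' E = 0) :
    ∃ (T' : A) (π : T' ⟶ T) (_ : Epi π) (x₂ : T' ⟶ K.X (k + 1))
      (_ : x₂ ≫ K.d (k + 1) (k + 2) = 0) (y₁ : T' ⟶ s.L),
      π ≫ y₂ = x₂ ≫ (s.next E).α + y₁ ≫ s.q ≫ s.r' E := by
  obtain ⟨t, ht₁, ht₂⟩ := (s.next E).exists_lift' E (y₂ ≫ (s.next E).q) 0
    (by rw [zero_comp, Category.assoc, h])
  obtain ⟨T₁, π₁, _, x, hx⟩ := surjective_up_to_refinements_of_epi (K.pOpcycles (k + 1)) t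
  have hxd : x ≫ K.d (k + 1) (k + 2) = 0 := by
    rw [← K.p_fromOpcycles (k + 1) (k + 2), ← reassoc_of% hx, ht₂, comp_zero]
  have h1 : (π₁ ≫ y₂ - x ≫ (s.next E).α) ≫ (s.next E).q = 0 := by
    rw [Preadditive.sub_comp, Category.assoc, Category.assoc, (s.next E).comm, ← reassoc_of% hx,
      ← ht₁, sub_self]
  obtain ⟨T₂, π₂, _, w, hw⟩ := (s.exact_r' E).exact_up_to_refinements _ h1
  dsimp at w hw
  obtain ⟨T₃, π₃, _, y₁, hy₁⟩ := surjective_up_to_refinements_of_epi s.q w
  refine ⟨T₃, π₃ ≫ π₂ ≫ π₁, inferInstance, π₃ ≫ π₂ ≫ x, ?_, y₁, ?_⟩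
  · rw [Category.assoc, Category.assoc, hxd, comp_zero, comp_zero]
  · rw [← reassoc_of% hy₁, ← hw]
    simp only [Preadditive.comp_sub, Category.assoc]
    abel

end Stage

section Construction

variable (s₀ : Stage I K 0)

/-- The sequence of stages. -/
noncomputable def stage : ∀ k : ℕ, Stage I K k
  | 0 => s₀
  | k + 1 => (stage k).next E

/-- The objects of the resolution. -/
noncomputable def obj (k : ℕ) : A := (stage E K s₀ k).L

/-- The differential of the resolution. -/
noncomputable def d (k : ℕ) : obj E K s₀ k ⟶ obj E K s₀ (k + 1) :=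
  (stage E K s₀ k).q ≫ (stage E K s₀ k).r' E

lemma d_comp_d (k : ℕ) : d E K s₀ k ≫ d E K s₀ (k + 1) = 0 := by
  have h : ((stage E K s₀ k).q ≫ (stage E K s₀ k).r' E) ≫
    (((stage E K s₀ k).next E).q ≫ ((stage E K s₀ k).next E).r' E) = 0 := by
    rw [Category.assoc, Stage.r'_q_assoc, zero_comp, comp_zero]
  exact h

/-- The resolution, as a cochain complex indexed by `ℕ`. -/
noncomputable def cx : CochainComplex A ℕ :=
  CochainComplex.of (obj E K s₀) (d E K s₀) (d_comp_d E K s₀)

lemma cx_d (k : ℕ) : (cx E K s₀).d k (k + 1) = d E K s₀ k :=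
  CochainComplex.of_d _ _ _

/-- The morphism to the resolution. -/
noncomputable def hom : K ⟶ cx E K s₀ :=
  CochainComplex.ofHom (fun k ↦ (stage E K s₀ k).α) (fun k ↦ by
    rw [cx_d]
    exact ((stage E K s₀ k).next_d_α E).symm)

lemma hom_f (k : ℕ) : (hom E K s₀).f k = (stage E K s₀ k).α := rfl

instance (k : ℕ) : Mono ((hom E K s₀).f k) := (stage E K s₀ k).hα

lemma mem (k : ℕ) : I ((cx E K s₀).X k) := (stage E K s₀ k).hL

lemma mono_homologyMap_succ (k : ℕ) :
    Mono (HomologicalComplex.homologyMap (hom E K s₀) (k + 1)) := by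
  rw [HomologicalComplex.mono_homologyMap_iff_up_to_refinements _ k (k + 1) (k + 2)
    (by simp) (by simp)]
  intro T x₂ hx₂ y₁ hy₁
  rw [cx_d, hom_f] at hy₁
  exact (stage E K s₀ k).mono_chase E x₂ y₁ hy₁

lemma epi_homologyMap_succ (k : ℕ) :
    Epi (HomologicalComplex.homologyMap (hom E K s₀) (k + 1)) := by
  rw [HomologicalComplex.epi_homologyMap_iff_up_to_refinements _ k (k + 1) (k + 2)
    (by simp) (by simp)]
  intro T y₂ hy₂
  rw [cx_d] at hy₂
  have := (stage E K s₀ k).epi_chase E y₂ hy₂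
  rw [cx_d, hom_f]
  exact this

lemma quasiIsoAt_succ (k : ℕ) : QuasiIsoAt (hom E K s₀) (k + 1) := by
  rw [quasiIsoAt_iff_isIso_homologyMap]
  have := mono_homologyMap_succ E K s₀ k
  have := epi_homologyMap_succ E K s₀ k
  exact isIso_of_mono_of_epi _

end Construction

section Nat

open HomologicalComplex

/-- The initial stage, when `K.X 0` is zero. -/
noncomputable def stage₀ {Z : A} (_hZ : IsZero Z) (hIZ : I Z) (hK : IsZero (K.X 0)) :
    Stage I K 0 where
  L := Z
  α := 0
  W := Z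
  q := 𝟙 Z
  m := 0
  comm := hK.eq_of_src _ _
  hm := (IsZero.of_epi (K.pOpcycles 0) hK).mono _
  hq := inferInstance
  hL := hIZ
  hα := hK.mono _

include E in
/-- The `ℕ`-indexed version of the resolution theorem. -/
theorem exists_nat {Z : A} (hZ : IsZero Z) (hIZ : I Z) (hK : IsZero (K.X 0)) :
    ∃ (L : CochainComplex A ℕ) (α : K ⟶ L), IsZero (L.X 0) ∧ (∀ k, I (L.X k)) ∧
      (∀ k, Mono (α.f k)) ∧ QuasiIso α := by
  let s₀ := stage₀ K hZ hIZ hK
  refine ⟨cx E K s₀, hom E K s₀, hZ, mem E K s₀, fun k ↦ inferInstance, ?_⟩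
  rw [quasiIso_iff]
  rintro (_ | k)
  · rw [quasiIsoAt_iff_exactAt _ _ (ShortComplex.exact_of_isZero_X₂ _ hK)]
    exact ShortComplex.exact_of_isZero_X₂ _ hZ
  · exact quasiIsoAt_succ E K s₀ k

end Nat

section Replace

variable {ι : Type*} {c : ComplexShape ι}

/-- Replace the objects of a complex by isomorphic ones. -/
@[simps]
def replaceObj (L : HomologicalComplex A c) (X' : ι → A) (e : ∀ i, L.X i ≅ X' i) :
    HomologicalComplex A c where
  X := X'
  d i j := (e i).inv ≫ L.d i j ≫ (e j).hom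
  shape i j h := by simp [L.shape i j h]
  d_comp_d' i j k _ _ := by simp

/-- The isomorphism with the complex with replaced objects. -/
def replaceObjIso (L : HomologicalComplex A c) (X' : ι → A) (e : ∀ i, L.X i ≅ X' i) :
    L ≅ replaceObj L X' e :=
  HomologicalComplex.Hom.isoOfComponents e (by
    intro i j _
    show (e i).hom ≫ ((e i).inv ≫ L.d i j ≫ (e j).hom) = L.d i j ≫ (e j).hom
    rw [Iso.hom_inv_id_assoc])

end Replace

section Int

open HomologicalComplex

/-- auxiliary isomorphism for the replacement of zero objects -/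
noncomputable def isoAux (L : CochainComplex A ℕ) {Z : A} (hZ : IsZero Z) :
    ∀ o : Option ℕ, HomologicalComplex.extend.X L o ≅ o.elim Z L.X
  | some _ => Iso.refl _
  | none => (isZero_zero A).iso hZ

/-- **Right resolutions in a class of objects**: the main theorem. -/
theorem exists_resolution (I : A → Prop)
    (hI0 : ∃ Z : A, IsZero Z ∧ I Z) (hI : ∀ X : A, ∃ (Y : A) (ι : X ⟶ Y), I Y ∧ Mono ι)
    (K : CochainComplex A ℤ) (a : ℤ) [K.IsStrictlyGE a] :
    ∃ (L : CochainComplex A ℤ) (α : K ⟶ L), L.IsStrictlyGE a ∧ (∀ n, I (L.X n)) ∧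
      (∀ n, Mono (α.f n)) ∧ QuasiIso α := by
  obtain ⟨Z, hZ, hIZ⟩ := hI0
  let E := Emb.ofExists hI
  let e := ComplexShape.embeddingUpIntGE (a - 1)
  have : K.IsStrictlyGE (a - 1) := K.isStrictlyGE_of_ge (a - 1) a (by lia)
  have hb : e.BoundaryGE 0 := (ComplexShape.boundaryGE_embeddingUpIntGE_iff (a - 1) 0).2 rfl
  have he0 : e.f 0 = a - 1 := by
    show (ComplexShape.embeddingUpIntGE (a - 1)).f 0 = a - 1
    simp
  have hK0 : IsZero ((K.truncGE' e).X 0) :=
    IsZero.of_iso (IsZero.of_epi (K.pOpcycles (a - 1)) (K.isZero_of_isStrictlyGE a (a - 1)))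
      (K.truncGE'XIsoOpcycles e he0 hb)
  obtain ⟨Ln, αn, hL0, hLI, hmono, hqi⟩ := exists_nat E (K.truncGE' e) hZ hIZ hK0
  let X' : ℤ → A := fun n ↦ (e.r n).elim Z Ln.X
  let iso : ∀ n, (Ln.extend e).X n ≅ X' n := fun n ↦ isoAux Ln hZ (e.r n)
  let φ : HomologicalComplex.truncGE K e ⟶ Ln.extend e := extendMap αn e
  have hφ : QuasiIso φ := (quasiIso_extendMap_iff αn e).2 hqi
  have hπ : IsIso (HomologicalComplex.πTruncGE K e) :=
    (HomologicalComplex.isIso_πTruncGE_iff K e).2 inferInstance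
  have hφmono : ∀ n, Mono (φ.f n) := by
    intro n
    by_cases hn : ∃ k, e.f k = n
    · obtain ⟨k, hk⟩ := hn
      dsimp only [φ]
      rw [extendMap_f αn e hk]
      have := hmono k
      have h1 : Mono (αn.f k ≫ (extendXIso Ln e hk).inv) := mono_comp _ _
      have h2 : IsIso (extendXIso (truncGE' K e) e hk).hom := Iso.isIso_hom _
      have h3 : Mono (extendXIso (truncGE' K e) e hk).hom := IsIso.mono_of_iso _
      exact @mono_comp _ _ _ _ _ _ h3 _ h1
    · exact (isZero_extend_X _ _ _ (by simpa using hn)).mono _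
  refine ⟨replaceObj (Ln.extend e) X' iso,
    HomologicalComplex.πTruncGE K e ≫ φ ≫ (replaceObjIso (Ln.extend e) X' iso).hom, ?_, ?_, ?_, ?_⟩
  · rw [CochainComplex.isStrictlyGE_iff]
    intro i hi
    refine IsZero.of_iso ?_ (iso i).symm
    by_cases h : i = a - 1
    · subst h
      exact IsZero.of_iso hL0 (Ln.extendXIso e he0)
    · apply isZero_extend_X
      exact (ComplexShape.notMem_range_embeddingUpIntGE_iff (a - 1) i).2 (by lia)
  · intro n
    show I ((e.r n).elim Z Ln.X)
    cases e.r n with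
    | none => exact hIZ
    | some k => exact hLI k
  · intro n
    have : IsIso ((HomologicalComplex.πTruncGE K e).f n) := inferInstance
    have := hφmono n
    have : IsIso ((replaceObjIso (Ln.extend e) X' iso).hom.f n) := inferInstance
    rw [HomologicalComplex.comp_f, HomologicalComplex.comp_f]
    infer_instance
  · infer_instance

end Int

end Groth.Agent.H33.IRes
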