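import Groth.Agent.H33.RAcyc
import Groth.Agent.H33.IRes
import Groth.Agent.H33.Adapted
/-! Right acyclicity of objects of an adapted class (S6625). -/
set_option autoImplicit false
universe w w' v v' u u'
open CategoryTheory Limits ZeroObject

namespace Groth.Agent.H33.Adapted

variable {A : Type u} [Category.{v} A] [Abelian A]

open DerivedCategory in
lemma exists_retraction [HasDerivedCategory.{w} A] {J L : CochainComplex A ℤ} [J.IsKInjective]
    (q : J ⟶ L) [QuasiIso q] :
    ∃ r : L ⟶ J, Nonempty (Homotopy (q ≫ r) (𝟙 J)) := by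
  obtain ⟨g, hg⟩ := (CochainComplex.IsKInjective.Qh_map_bijective
    ((HomotopyCategory.quotient _ _).obj L) J).surjective
      ((quotientCompQhIso A).hom.app L ≫ inv (Q.map q) ≫ (quotientCompQhIso A).inv.app J)
  obtain ⟨r, rfl⟩ := (HomotopyCategory.quotient _ _).map_surjective g
  refine ⟨r, ⟨HomotopyCategory.homotopyOfEq _ _ ?_⟩⟩
  apply (CochainComplex.IsKInjective.Qh_map_bijective _ J).injective
  simp [hg, -NatTrans.naturality]

section

variable [HasDerivedCategory.{w} A] [EnoughInjectives A]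
    {B : Type u'} [Category.{v'} B] [Abelian B] [HasDerivedCategory.{w'} B]
    (F : A ⥤ B) [F.Additive] (I : ObjectProperty A)
    (h1 : ∀ X : A, ∃ (Y : A) (ι : X ⟶ Y), I Y ∧ Mono ι)
    (h2 : ∀ S : ShortComplex A, S.ShortExact → I S.X₁ → I S.X₂ → I S.X₃ ∧ (S.map F).ShortExact)

omit [HasDerivedCategory A] [EnoughInjectives A] [HasDerivedCategory B] in
include h1 h2 in
lemma exists_zero_mem : ∃ Z : A, IsZero Z ∧ I Z := by
  obtain ⟨Y, _, hY, _⟩ := h1 (0 : A)
  let S : ShortComplex A := ShortComplex.mk (𝟙 Y) (0 : Y ⟶ 0) (by simp)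
  have hS : S.ShortExact := by
    have : Mono S.f := by dsimp [S]; infer_instance
    have : Epi S.g := by dsimp [S]; exact (isZero_zero A).epi _
    exact ShortComplex.ShortExact.mk' ((S.exact_iff_epi rfl).2 (by dsimp [S]; infer_instance))
      ‹_› ‹_›
  exact ⟨0, isZero_zero A, (h2 S hS hY hY).1⟩

include h1 h2 in
theorem rightAcyclic (X : A) (hX : I X) :
    IsIso (F.rightDerivedFunctorPlusUnit.app ((HomotopyCategory.Plus.singleFunctor A 0).obj X)) := by
  let J := injectiveResolution X
  rw [RAcyc.isIso_unit_iff F J]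
  obtain ⟨L, q, hL, hLI, _, hq⟩ :=
    IRes.exists_resolution I (exists_zero_mem F I h1 h2) h1 J.cochainComplex 0
  have hFε : QuasiIso ((F.mapHomologicalComplex (ComplexShape.up ℤ)).map (J.ι' ≫ q)) :=
    quasiIso_map F I h2 L hLI hX (J.ι' ≫ q)
  have : J.cochainComplex.IsKInjective := CochainComplex.isKInjective_of_injective _ 0
  obtain ⟨r, ⟨h⟩⟩ := exists_retraction q
  rw [quasiIso_iff]
  intro n
  rw [quasiIsoAt_iff_isIso_homologyMap]
  let Φ := F.mapHomologicalComplex (ComplexShape.up ℤ)
  have hab : IsIso (HomologicalComplex.homologyMap (Φ.map J.ι') n ≫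
      HomologicalComplex.homologyMap (Φ.map q) n) := by
    rw [← HomologicalComplex.homologyMap_comp, ← Φ.map_comp]
    exact (quasiIsoAt_iff_isIso_homologyMap _ _).1 inferInstance
  have hbc : HomologicalComplex.homologyMap (Φ.map q) n ≫
      HomologicalComplex.homologyMap (Φ.map r) n = 𝟙 _ := by
    rw [← HomologicalComplex.homologyMap_comp, ← Φ.map_comp,
      (F.mapHomotopy h).homologyMap_eq n, Φ.map_id, HomologicalComplex.homologyMap_id]
  have hmono : Mono (HomologicalComplex.homologyMap (Φ.map q) n) := mono_of_mono_fac hbc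
  have hepi : Epi (HomologicalComplex.homologyMap (Φ.map q) n) :=
    epi_of_epi_fac (f := HomologicalComplex.homologyMap (Φ.map J.ι') n) rfl
  have hb : IsIso (HomologicalComplex.homologyMap (Φ.map q) n) := isIso_of_mono_of_epi _
  exact IsIso.of_isIso_comp_right _ (HomologicalComplex.homologyMap (Φ.map q) n)

end

end Groth.Agent.H33.Adapted
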