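import Groth.Agent.H33.BaerFamily
import Groth.Prelude.Def_CohCx

/-!
# The free abelian sheaves on representables detect isomorphisms
-/

set_option autoImplicit false
universe u

namespace Groth.Agent.H33.Baer

open CategoryTheory Category Limits Opposite

variable {C : Type u} [SmallCategory C] (J : GrothendieckTopology C)

/-- Morphisms out of the free abelian sheaf on `X` are sections over `X`. -/
noncomputable def freeEquiv (X : C) (B : Sheaf J AddCommGrpCat.{u}) :
    (CohCx.freeSheaf J X ⟶ B) ≃ B.obj.obj (op X) :=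
  ((sheafificationAdjunction J AddCommGrpCat.{u}).homEquiv _ _).trans <|
    ((Adjunction.whiskerRight Cᵒᵖ AddCommGrpCat.adj.{u}).homEquiv (yoneda.obj X) B.obj).trans
      yonedaEquiv

lemma freeEquiv_comp (X : C) {A B : Sheaf J AddCommGrpCat.{u}} (g : CohCx.freeSheaf J X ⟶ A)
    (p : A ⟶ B) : freeEquiv J X B (g ≫ p) = p.hom.app (op X) (freeEquiv J X A g) := by
  dsimp only [freeEquiv, Equiv.trans_apply]
  rw [Adjunction.homEquiv_naturality_right]
  erw [Adjunction.homEquiv_naturality_right]
  rw [yonedaEquiv_comp]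
  rfl

lemma detects_freeSheaf : Detects (fun X : C => CohCx.freeSheaf J X) := by
  intro A B p _ h
  have hbij : ∀ X : C, Function.Bijective (p.hom.app (op X)) := by
    intro X
    constructor
    · have h1 : Mono p.hom := (Sheaf.Hom.mono_iff_presheaf_mono J _ p).1 inferInstance
      have h2 : Mono (p.hom.app (op X)) := inferInstance
      exact (AddCommGrpCat.mono_iff_injective _).1 h2
    · intro b
      obtain ⟨g, hg⟩ := h X ((freeEquiv J X B).symm b)
      refine ⟨freeEquiv J X A g, ?_⟩
      rw [← freeEquiv_comp, hg, Equiv.apply_symm_apply]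
  have h3 : ∀ X : Cᵒᵖ, IsIso (p.hom.app X) := by
    intro X
    exact (ConcreteCategory.isIso_iff_bijective _).2 (hbij X.unop)
  have h4 : IsIso p.hom := NatIso.isIso_of_isIso_app _
  have h5 : IsIso ((sheafToPresheaf J AddCommGrpCat.{u}).map p) := h4
  exact isIso_of_fully_faithful (sheafToPresheaf J AddCommGrpCat.{u}) p

/-- Baer-type criterion for abelian sheaves on a small site. -/
theorem injective_of_extension_freeSheaf (I : Sheaf J AddCommGrpCat.{u})
    (h : ∀ (X : C) (S : Sheaf J AddCommGrpCat.{u}) (i : S ⟶ CohCx.freeSheaf J X) [Mono i]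
      (φ : S ⟶ I), ∃ ψ : CohCx.freeSheaf J X ⟶ I, i ≫ ψ = φ) :
    Injective I := by
  by_cases hC : Nonempty C
  · exact injective_of_extension.{u} hC (fun X : C => CohCx.freeSheaf J X) (detects_freeSheaf J) I h
  · rw [not_nonempty_iff] at hC
    constructor
    intro A B f i _
    refine ⟨0, ?_⟩
    apply Sheaf.hom_ext
    ext X
    exact (hC.false X.unop).elim

end Groth.Agent.H33.Baer
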