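import Mathlib.CategoryTheory.Preadditive.Biproducts

set_option autoImplicit false
universe v u
open CategoryTheory CategoryTheory.Limits

namespace Groth.Agent.H33

variable {V : Type u} [Category.{v} V] [Preadditive V] [HasBinaryBiproducts V]

/-- Biproduct-like data with three summands gives an isomorphism with an iterated biproduct. -/
theorem exists_iso_biprod₃ {X A B C : V}
    (iA : A ⟶ X) (iB : B ⟶ X) (iC : C ⟶ X) (pA : X ⟶ A) (pB : X ⟶ B) (pC : X ⟶ C)
    (hAA : iA ≫ pA = 𝟙 A) (hAB : iA ≫ pB = 0) (hAC : iA ≫ pC = 0)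
    (hBA : iB ≫ pA = 0) (hBB : iB ≫ pB = 𝟙 B) (hBC : iB ≫ pC = 0)
    (hCA : iC ≫ pA = 0) (hCB : iC ≫ pB = 0) (hCC : iC ≫ pC = 𝟙 C)
    (htot : pA ≫ iA + pB ≫ iB + pC ≫ iC = 𝟙 X) :
    ∃ e : X ≅ (A ⊞ B) ⊞ C, e.hom = biprod.lift (biprod.lift pA pB) pC ∧
      e.inv = biprod.desc (biprod.desc iA iB) iC := by
  refine ⟨⟨biprod.lift (biprod.lift pA pB) pC, biprod.desc (biprod.desc iA iB) iC, ?_, ?_⟩,
    rfl, rfl⟩
  · rw [biprod.lift_desc, biprod.lift_desc, htot]
  · apply biprod.hom_ext'
    · apply biprod.hom_ext'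
      · apply biprod.hom_ext
        · apply biprod.hom_ext
          · simp [hAA]
          · simp [hAB]
        · simp [hAC]
      · apply biprod.hom_ext
        · apply biprod.hom_ext
          · simp [hBA]
          · simp [hBB]
        · simp [hBC]
    · apply biprod.hom_ext
      · apply biprod.hom_ext
        · simp [hCA]
        · simp [hCB]
      · simp [hCC]

end Groth.Agent.H33
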