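import Mathlib

/-!
# Divided powers on the adic completion with respect to a principal ideal
-/

set_option autoImplicit false
universe u
open Finset AdicCompletion

namespace Groth.Agent.H33.DPComplete

variable {A : Type u} [CommRing A] {I : Ideal A} (γ : DividedPowers I) (c : A) (t : ℕ)
  (ht : Ideal.span {c} ^ t ≤ I)

include ht in
/-- Continuity of divided powers. -/
lemma dpow_congr (k n : ℕ) (u v : A) (hv : v ∈ I) (huv : u - v ∈ Ideal.span {c} ^ (k + t)) :
    u ∈ I ∧ Ideal.Quotient.mk (Ideal.span {c} ^ k) (γ.dpow n u) =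
      Ideal.Quotient.mk (Ideal.span {c} ^ k) (γ.dpow n v) := by
  rw [Ideal.span_singleton_pow, Ideal.mem_span_singleton'] at huv
  obtain ⟨z, hz⟩ := huv
  have hy : c ^ t * z ∈ I := by
    apply ht
    rw [Ideal.span_singleton_pow]
    exact Ideal.mul_mem_right _ _ (Ideal.mem_span_singleton_self _)
  have hu : u = v + c ^ k * (c ^ t * z) := by
    have : u = v + (u - v) := by ring
    rw [this, ← hz]; ring
  have hck : Ideal.Quotient.mk (Ideal.span {c} ^ k) (c ^ k) = 0 := by
    rw [Ideal.Quotient.eq_zero_iff_mem, Ideal.span_singleton_pow]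
    exact Ideal.mem_span_singleton_self _
  refine ⟨by rw [hu]; exact I.add_mem hv (I.mul_mem_left _ hy), ?_⟩
  rw [hu, γ.dpow_add hv (I.mul_mem_left _ hy), map_sum]
  rw [Finset.sum_eq_single (n, 0)]
  · rw [γ.dpow_zero (I.mul_mem_left _ hy), mul_one]
  · rintro ⟨i, j⟩ hij hne
    have hj : j ≠ 0 := by
      rintro rfl
      simp only [HasAntidiagonal.mem_antidiagonal, add_zero] at hij
      exact hne (by rw [hij])
    rw [γ.dpow_mul hy, map_mul, map_mul, map_pow, hck, zero_pow hj, zero_mul, mul_zero]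
  · intro h
    exact (h (by simp)).elim

lemma cauchy_sub_mem (a : AdicCauchySequence (Ideal.span {c}) A) {m n : ℕ} (h : m ≤ n) :
    a n - a m ∈ Ideal.span {c} ^ m :=
  Ideal.Quotient.eq.1 (AdicCompletion.Ideal.mk_eq_mk (Ideal.span {c}) h a)

include ht in
lemma mem_of_mem (a : AdicCauchySequence (Ideal.span {c}) A) (ha : a t ∈ I) (k : ℕ) :
    a (k + t) ∈ I := by
  have : a (k + t) = a t + (a (k + t) - a t) := by ring
  rw [this]
  exact I.add_mem ha (ht (cauchy_sub_mem c a (Nat.le_add_left t k)))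

/-- The sequence of divided powers of a Cauchy sequence (shifted by `t`). -/
def dseq (a : AdicCauchySequence (Ideal.span {c}) A) (ha : a t ∈ I) (n : ℕ) :
    AdicCauchySequence (Ideal.span {c}) A :=
  ⟨fun k => γ.dpow n (a (k + t)), by
    intro m n' hmn
    rw [SModEq.sub_mem, smul_eq_mul, Ideal.mul_top, ← Ideal.Quotient.eq]
    exact ((dpow_congr γ c t ht m n (a (n' + t)) (a (m + t)) (mem_of_mem c t ht a ha m)
      (cauchy_sub_mem c a (by lia))).2).symm⟩

@[simp]
lemma dseq_apply (a : AdicCauchySequence (Ideal.span {c}) A) (ha : a t ∈ I) (n k : ℕ) :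
    dseq γ c t ht a ha n k = γ.dpow n (a (k + t)) := rfl

/-- The projection to `A ⧸ I`. -/
noncomputable def proj : AdicCompletion (Ideal.span {c}) A →+* A ⧸ I :=
  (Ideal.Quotient.factor ht).comp (AdicCompletion.evalₐ (Ideal.span {c}) t).toRingHom

lemma proj_apply (x : AdicCompletion (Ideal.span {c}) A) :
    proj c t ht x = Ideal.Quotient.factor ht (AdicCompletion.evalₐ (Ideal.span {c}) t x) := rfl

lemma proj_mk (a : AdicCauchySequence (Ideal.span {c}) A) :
    proj c t ht (AdicCompletion.mkₐ (Ideal.span {c}) a) = Ideal.Quotient.mk I (a t) := by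
  rw [proj_apply, AdicCompletion.evalₐ_mkₐ, Ideal.Quotient.factor_mk]

lemma mem_ker_iff (a : AdicCauchySequence (Ideal.span {c}) A) :
    AdicCompletion.mkₐ (Ideal.span {c}) a ∈ RingHom.ker (proj c t ht) ↔ a t ∈ I := by
  rw [RingHom.mem_ker, proj_mk, Ideal.Quotient.eq_zero_iff_mem]

lemma mkₐ_surjective : Function.Surjective (AdicCompletion.mkₐ (Ideal.span {c}) (R := A)) :=
  AdicCompletion.mk_surjective (Ideal.span {c}) A

/-- A chosen Cauchy representative. -/
noncomputable def rep (x : AdicCompletion (Ideal.span {c}) A) :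
    AdicCauchySequence (Ideal.span {c}) A := (mkₐ_surjective c x).choose

lemma mk_rep (x : AdicCompletion (Ideal.span {c}) A) :
    AdicCompletion.mkₐ (Ideal.span {c}) (rep c x) = x := (mkₐ_surjective c x).choose_spec

open Classical in
/-- The divided power operations on the completion. -/
noncomputable def dp (n : ℕ) (x : AdicCompletion (Ideal.span {c}) A) :
    AdicCompletion (Ideal.span {c}) A :=
  if hx : rep c x t ∈ I then AdicCompletion.mkₐ (Ideal.span {c}) (dseq γ c t ht (rep c x) hx n)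
  else 0

lemma dp_of_not_mem (n : ℕ) (x : AdicCompletion (Ideal.span {c}) A)
    (hx : x ∉ RingHom.ker (proj c t ht)) : dp γ c t ht n x = 0 := by
  rw [dp, dif_neg]
  intro h
  apply hx
  rw [← mk_rep c x, mem_ker_iff]
  exact h

lemma mk_eq_of_mkₐ_eq {a b : AdicCauchySequence (Ideal.span {c}) A}
    (h : AdicCompletion.mkₐ (Ideal.span {c}) a = AdicCompletion.mkₐ (Ideal.span {c}) b) (k : ℕ) :
    a k - b k ∈ Ideal.span {c} ^ k := by
  rw [← Ideal.Quotient.eq, ← AdicCompletion.evalₐ_mkₐ, ← AdicCompletion.evalₐ_mkₐ, h]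

lemma evalₐ_dp (a : AdicCauchySequence (Ideal.span {c}) A) (ha : a t ∈ I) (n k : ℕ) :
    AdicCompletion.evalₐ (Ideal.span {c}) k (dp γ c t ht n (AdicCompletion.mkₐ (Ideal.span {c}) a)) =
      Ideal.Quotient.mk (Ideal.span {c} ^ k) (γ.dpow n (a (k + t))) := by
  have hb := mk_rep c (AdicCompletion.mkₐ (Ideal.span {c}) a)
  have hbt : rep c (AdicCompletion.mkₐ (Ideal.span {c}) a) t ∈ I := by
    have := mk_eq_of_mkₐ_eq c hb t
    have h2 : rep c (AdicCompletion.mkₐ (Ideal.span {c}) a) t =
        a t + (rep c (AdicCompletion.mkₐ (Ideal.span {c}) a) t - a t) := by ring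
    rw [h2]
    exact I.add_mem ha (ht this)
  rw [dp, dif_pos hbt, AdicCompletion.evalₐ_mkₐ]
  exact (dpow_congr γ c t ht k n _ _ (mem_of_mem c t ht a ha k) (mk_eq_of_mkₐ_eq c hb (k + t))).2

lemma dp_mk (a : AdicCauchySequence (Ideal.span {c}) A) (ha : a t ∈ I) (n : ℕ) :
    dp γ c t ht n (AdicCompletion.mkₐ (Ideal.span {c}) a) =
      AdicCompletion.mkₐ (Ideal.span {c}) (dseq γ c t ht a ha n) := by
  apply AdicCompletion.ext_evalₐ
  intro k
  rw [evalₐ_dp γ c t ht a ha, AdicCompletion.evalₐ_mkₐ]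
  rfl

/-- The divided power structure on the kernel of `A^ → A ⧸ I`. -/
noncomputable def dividedPowers : DividedPowers (RingHom.ker (proj c t ht)) where
  dpow := dp γ c t ht
  dpow_null {n x} hx := dp_of_not_mem γ c t ht n x hx
  dpow_zero {x} hx := by
    obtain ⟨a, rfl⟩ := mkₐ_surjective c x
    have ha := (mem_ker_iff c t ht a).1 hx
    apply AdicCompletion.ext_evalₐ
    intro k
    rw [evalₐ_dp γ c t ht a ha, γ.dpow_zero (mem_of_mem c t ht a ha k), map_one, map_one]
  dpow_one {x} hx := by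
    obtain ⟨a, rfl⟩ := mkₐ_surjective c x
    have ha := (mem_ker_iff c t ht a).1 hx
    apply AdicCompletion.ext_evalₐ
    intro k
    rw [evalₐ_dp γ c t ht a ha, γ.dpow_one (mem_of_mem c t ht a ha k), AdicCompletion.evalₐ_mkₐ]
    exact AdicCompletion.Ideal.mk_eq_mk (Ideal.span {c}) (Nat.le_add_right k t) a
  dpow_mem {n x} hn hx := by
    obtain ⟨a, rfl⟩ := mkₐ_surjective c x
    have ha := (mem_ker_iff c t ht a).1 hx
    rw [dp_mk γ c t ht a ha, mem_ker_iff, dseq_apply]
    exact γ.dpow_mem hn (mem_of_mem c t ht a ha t)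
  dpow_add {n x y} hx hy := by
    obtain ⟨a, rfl⟩ := mkₐ_surjective c x
    obtain ⟨b, rfl⟩ := mkₐ_surjective c y
    have ha := (mem_ker_iff c t ht a).1 hx
    have hb := (mem_ker_iff c t ht b).1 hy
    have hab : (a + b) t ∈ I := I.add_mem ha hb
    apply AdicCompletion.ext_evalₐ
    intro k
    rw [← map_add, evalₐ_dp γ c t ht (a + b) hab, map_sum]
    simp only [map_mul, evalₐ_dp γ c t ht a ha, evalₐ_dp γ c t ht b hb]
    rw [AdicCauchySequence.add_apply,
      γ.dpow_add (mem_of_mem c t ht a ha k) (mem_of_mem c t ht b hb k), map_sum]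
    simp only [map_mul]
  dpow_mul {n z x} hx := by
    obtain ⟨a, rfl⟩ := mkₐ_surjective c x
    obtain ⟨b, rfl⟩ := mkₐ_surjective c z
    have ha := (mem_ker_iff c t ht a).1 hx
    have hba : (b * a) t ∈ I := I.mul_mem_left _ ha
    apply AdicCompletion.ext_evalₐ
    intro k
    rw [← map_mul, evalₐ_dp γ c t ht (b * a) hba, map_mul, map_pow, evalₐ_dp γ c t ht a ha,
      AdicCompletion.evalₐ_mkₐ, AdicCompletion.mul_apply,
      γ.dpow_mul (mem_of_mem c t ht a ha k), map_mul, map_pow]
    congr 2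
    exact AdicCompletion.Ideal.mk_eq_mk (Ideal.span {c}) (Nat.le_add_right k t) b
  mul_dpow {m n x} hx := by
    obtain ⟨a, rfl⟩ := mkₐ_surjective c x
    have ha := (mem_ker_iff c t ht a).1 hx
    apply AdicCompletion.ext_evalₐ
    intro k
    rw [map_mul, map_mul, map_natCast]
    simp only [evalₐ_dp γ c t ht a ha]
    rw [← map_mul, γ.mul_dpow (mem_of_mem c t ht a ha k), map_mul, map_natCast]
  dpow_comp {m n x} hn hx := by
    obtain ⟨a, rfl⟩ := mkₐ_surjective c x
    have ha := (mem_ker_iff c t ht a).1 hx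
    have hd : dseq γ c t ht a ha n t ∈ I := by
      rw [dseq_apply]; exact γ.dpow_mem hn (mem_of_mem c t ht a ha t)
    apply AdicCompletion.ext_evalₐ
    intro k
    rw [dp_mk γ c t ht a ha n, evalₐ_dp γ c t ht _ hd, dseq_apply,
      γ.dpow_comp hn (mem_of_mem c t ht a ha (k + t)), map_mul, map_mul, map_natCast, map_natCast,
      evalₐ_dp γ c t ht a ha]
    congr 1
    exact (dpow_congr γ c t ht k (m * n) _ _ (mem_of_mem c t ht a ha k)
      (cauchy_sub_mem c a (by lia))).2

lemma isDPMorphism : γ.IsDPMorphism (dividedPowers γ c t ht)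
    (algebraMap A (AdicCompletion (Ideal.span {c}) A)) := by
  have hconst : ∀ x : A, algebraMap A (AdicCompletion (Ideal.span {c}) A) x =
      AdicCompletion.mkₐ (Ideal.span {c}) (algebraMap A (AdicCauchySequence (Ideal.span {c}) A) x) :=
    fun x => ((AdicCompletion.mkₐ (Ideal.span {c})).commutes x).symm
  have happly : ∀ (x : A) (k : ℕ),
      (algebraMap A (AdicCauchySequence (Ideal.span {c}) A) x) k = x := fun x k => rfl
  constructor
  · rw [Ideal.map_le_iff_le_comap]
    intro x hx
    rw [Ideal.mem_comap, hconst, mem_ker_iff, happly]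
    exact hx
  · intro n x hx
    show dp γ c t ht n _ = _
    apply AdicCompletion.ext_evalₐ
    intro k
    rw [hconst, evalₐ_dp γ c t ht _ (by rw [happly]; exact hx), happly, hconst,
      AdicCompletion.evalₐ_mkₐ]
    rfl

end Groth.Agent.H33.DPComplete
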