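import Mathlib
/-! Divided powers on ideals of additively torsion-free rings (helper for S6501). -/
set_option autoImplicit false
open Nat Finset

namespace Groth.Agent.H33.DPowTF

variable {A : Type*} [CommRing A]

/-- `x` has "divided powers in `I`". -/
def Good (I : Ideal A) (x : A) : Prop :=
  ∀ n : ℕ, ∃ a : A, x ^ n = (n ! : A) * a ∧ (1 ≤ n → a ∈ I)

lemma good_add (I : Ideal A) {x y : A} (hx : Good I x) (hy : Good I y) : Good I (x + y) := by
  intro n
  choose a ha ha' using hx
  choose b hb hb' using hy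
  refine ⟨∑ m ∈ antidiagonal n, a m.1 * b m.2, ?_, fun hn ↦ ?_⟩
  · rw [Commute.add_pow' (Commute.all x y), Finset.mul_sum]
    refine Finset.sum_congr rfl (fun m hm ↦ ?_)
    rw [HasAntidiagonal.mem_antidiagonal] at hm
    have key : ((n ! : ℕ) : A) = ((n.choose m.1 : ℕ) : A) * ((m.1 ! : ℕ) : A) * ((m.2 ! : ℕ) : A) := by
      rw [← hm]
      have := Nat.add_choose_mul_factorial_mul_factorial m.1 m.2
      rw [← Nat.choose_symm_add] at this
      have h2 := congrArg (Nat.cast : ℕ → A) this.symm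
      push_cast at h2
      exact h2
    rw [ha, hb, nsmul_eq_mul, key]
    ring
  · refine Ideal.sum_mem _ (fun m hm ↦ ?_)
    rw [HasAntidiagonal.mem_antidiagonal] at hm
    by_cases h1 : 1 ≤ m.1
    · exact I.mul_mem_right _ (ha' _ h1)
    · exact I.mul_mem_left _ (hb' _ (by lia))

lemma good_mul (I : Ideal A) (c : A) {x : A} (hx : Good I x) : Good I (c * x) := by
  intro n
  obtain ⟨a, ha, ha'⟩ := hx n
  exact ⟨c ^ n * a, by rw [mul_pow, ha]; ring, fun hn ↦ I.mul_mem_left _ (ha' hn)⟩

lemma good_zero (I : Ideal A) : Good I (0 : A) := by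
  intro n
  rcases Nat.eq_zero_or_pos n with rfl | hn
  · exact ⟨1, by simp, fun h ↦ by lia⟩
  · exact ⟨0, by simp [Nat.pos_iff_ne_zero.mp hn], fun _ ↦ I.zero_mem⟩

/-- The ideal of good elements of `I`. -/
def goodIdeal (I : Ideal A) : Ideal A where
  carrier := {x | x ∈ I ∧ Good I x}
  add_mem' hx hy := ⟨I.add_mem hx.1 hy.1, good_add I hx.2 hy.2⟩
  zero_mem' := ⟨I.zero_mem, good_zero I⟩
  smul_mem' c _ hx := ⟨I.mul_mem_left c hx.1, good_mul I c hx.2⟩

lemma good_of_mem_span {I : Ideal A} {S : Set A} (hS : Ideal.span S = I)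
    (h : ∀ x ∈ S, ∀ n : ℕ, 1 ≤ n → x ^ n ∈ Ideal.span {(n ! : A)} * I) {x : A} (hx : x ∈ I) :
    Good I x := by
  have hle : Ideal.span S ≤ goodIdeal I := by
    rw [Ideal.span_le]
    intro y hy
    refine ⟨hS ▸ Ideal.subset_span hy, fun n ↦ ?_⟩
    rcases Nat.eq_zero_or_pos n with rfl | hn
    · exact ⟨1, by simp, fun h ↦ by lia⟩
    · obtain ⟨z, hz, hz'⟩ := Ideal.mem_span_singleton_mul.1 (h y hy n hn)
      exact ⟨z, hz'.symm, fun _ ↦ hz⟩
  exact (hle (hS ▸ hx)).2

variable [IsAddTorsionFree A]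

lemma natCast_mul_cancel {n : ℕ} (hn : n ≠ 0) {a b : A} (h : (n : A) * a = (n : A) * b) :
    a = b := by
  apply nsmul_right_injective hn
  simpa [nsmul_eq_mul] using h

/-- The submonoid of positive natural numbers in `A`. -/
def posNat (A : Type*) [CommRing A] : Submonoid A where
  carrier := {a | ∃ n : ℕ, n ≠ 0 ∧ (n : A) = a}
  one_mem' := ⟨1, one_ne_zero, by simp⟩
  mul_mem' := by
    rintro _ _ ⟨m, hm, rfl⟩ ⟨n, hn, rfl⟩
    exact ⟨m * n, mul_ne_zero hm hn, by push_cast; rfl⟩

lemma posNat_le : posNat A ≤ nonZeroDivisors A := by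
  rintro _ ⟨n, hn, rfl⟩
  rw [mem_nonZeroDivisors_iff_right]
  intro z hz
  apply natCast_mul_cancel hn (a := z) (b := 0)
  rw [mul_comm, hz, mul_zero]

/-- The localization of `A` at the positive naturals. -/
abbrev Loc (A : Type*) [CommRing A] := Localization (posNat A)

lemma loc_injective : Function.Injective (algebraMap A (Loc A)) :=
  IsLocalization.injective _ posNat_le

omit [IsAddTorsionFree A] in
lemma isUnit_factorial (n : ℕ) : IsUnit ((n ! : ℕ) : Loc A) := by
  have := IsLocalization.map_units (Loc A) (⟨((n ! : ℕ) : A), ⟨n !, factorial_ne_zero n, rfl⟩⟩ : posNat A)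
  simpa using this

open Classical in
omit [IsAddTorsionFree A] in
/-- divided powers on any ideal of `Loc A`. -/
noncomputable def dpLoc (J : Ideal (Loc A)) : DividedPowers J where
  dpow           := DividedPowers.OfInvertibleFactorial.dpow J
  dpow_null hx   := DividedPowers.OfInvertibleFactorial.dpow_null hx
  dpow_zero hx   := DividedPowers.OfInvertibleFactorial.dpow_zero hx
  dpow_one hx    := DividedPowers.OfInvertibleFactorial.dpow_one hx
  dpow_mem hn hx := DividedPowers.OfInvertibleFactorial.dpow_mem hn hx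
  dpow_add {n} _ _ hx hy := DividedPowers.OfInvertibleFactorial.dpow_add_of_lt
    (isUnit_factorial _) (n.lt_succ_self) hx hy
  dpow_mul hx := DividedPowers.OfInvertibleFactorial.dpow_mul hx
  mul_dpow {m} k _ hx := DividedPowers.OfInvertibleFactorial.dpow_mul_of_add_lt
    (isUnit_factorial _) (m + k).lt_succ_self hx
  dpow_comp hk hx := DividedPowers.OfInvertibleFactorial.dpow_comp_of_mul_lt
    (isUnit_factorial _) hk (lt_add_one _) hx

open Classical in
/-- divided powers on `I` when all elements are good. -/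
noncomputable def dpOfGood (I : Ideal A) (h : ∀ x ∈ I, Good I x) : DividedPowers I :=
  DividedPowers.ofInjective I (I.map (algebraMap A (Loc A))) (algebraMap A (Loc A)) loc_injective
    (dpLoc _) rfl (by
      intro n x hx
      obtain ⟨a, ha, ha'⟩ := h x hx n
      refine ⟨a, fun hn ↦ ha' (Nat.one_le_iff_ne_zero.mpr hn), ?_⟩
      change _ = DividedPowers.OfInvertibleFactorial.dpow _ n _
      rw [DividedPowers.OfInvertibleFactorial.dpow_eq_of_mem (Ideal.mem_map_of_mem _ hx),
        ← map_pow, ha, map_mul, map_natCast, Ring.inverse_mul_cancel_left _ _ (isUnit_factorial n)])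

lemma subsingleton_dp (I : Ideal A) : Subsingleton (DividedPowers I) := by
  refine ⟨fun h h' ↦ DividedPowers.ext h h' (fun n x hx ↦ ?_)⟩
  apply natCast_mul_cancel (factorial_ne_zero n)
  rw [h.factorial_mul_dpow_eq_pow hx, h'.factorial_mul_dpow_eq_pow hx]

end Groth.Agent.H33.DPowTF
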