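import Mathlib.CategoryTheory.Functor.KanExtension.Basic

/-!
# Left Kan extensions and precomposition with a functor `G` such that `G ⋙ -` is fully faithful

This generalizes `Functor.isLeftKanExtension_iff_precomp` (stated in Mathlib for equivalences `G`)
to functors `G` such that `(whiskeringLeft _ _ _).obj G` is fully faithful (e.g. localization
functors, quotient functors).
-/

set_option autoImplicit false

open CategoryTheory Functor

namespace Groth.Agent.H33.KanPrecomp

variable {C C' D H : Type*} [Category C] [Category C'] [Category D] [Category H]
  (L : C ⥤ D) (F : C ⥤ H) (F' : D ⥤ H) (G : C' ⥤ C)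
  [((whiskeringLeft C' C H).obj G).Full] [((whiskeringLeft C' C H).obj G).Faithful]

set_option backward.isDefEq.respectTransparency false in
lemma isEquivalence_precomp : (LeftExtension.precomp L F G).IsEquivalence := by
  apply StructuredArrow.isEquivalenceMap₂

/-- If `G ⋙ -` is fully faithful, then a left extension of `F` along `L` is universal iff
the corresponding left extension of `G ⋙ F` along `G ⋙ L` is. -/
noncomputable def isUniversalPrecompEquiv (e : LeftExtension L F) :
    e.IsUniversal ≃ ((LeftExtension.precomp L F G).obj e).IsUniversal := by
  have := isEquivalence_precomp L F G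
  apply Limits.IsInitial.isInitialIffObj (LeftExtension.precomp L F G)

variable {F L}

set_option backward.isDefEq.respectTransparency.types false in
set_option backward.defeqAttrib.useBackward true in
lemma isLeftKanExtension_iff_precomp (α : F ⟶ L ⋙ F') :
    F'.IsLeftKanExtension α ↔ F'.IsLeftKanExtension
      (whiskerLeft G α ≫ (associator _ _ _).inv) := by
  let eq : (LeftExtension.mk _ α).IsUniversal ≃ (LeftExtension.mk _
      (whiskerLeft G α ≫ (associator _ _ _).inv)).IsUniversal :=
    (isUniversalPrecompEquiv L F G _).trans
    (Limits.IsInitial.equivOfIso (StructuredArrow.isoMk (Iso.refl _)))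
  constructor
  · exact fun _ => ⟨⟨eq (isUniversalOfIsLeftKanExtension _ _)⟩⟩
  · exact fun _ => ⟨⟨eq.symm (isUniversalOfIsLeftKanExtension _ _)⟩⟩

end Groth.Agent.H33.KanPrecomp
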