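import Groth.Agent.H33.DerAdjU
import Groth.Agent.H33.KanPrecomp

/-!
# Derived adjunction, for an abstract right derived functor defined at the level of complexes
-/

set_option autoImplicit false

open CategoryTheory Limits

namespace Groth.Agent.H33.DerAdjU

universe w₁ w₂ v₁ v₂ u₁ u₂

open Groth.Agent.H5.KInjDeriv

variable {A : Type u₁} [Category.{v₁} A] [Abelian A] [HasDerivedCategory.{w₁} A]
  {B : Type u₂} [Category.{v₂} B] [Abelian B] [HasDerivedCategory.{w₂} B]
  {L : A ⥤ B} {R : B ⥤ A} (adj : L ⊣ R) [L.Additive] [R.Additive]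
  [PreservesFiniteLimits L] [PreservesFiniteColimits L]
  (hKinj : ∀ K : CochainComplex B ℤ, ∃ (I : CochainComplex B ℤ) (f : K ⟶ I),
    I.IsKInjective ∧ QuasiIso f)

instance (C : Type*) [Category C] [Preadditive C] {ι : Type*} (c : ComplexShape ι)
    (H : Type*) [Category H] :
    ((Functor.whiskeringLeft _ _ H).obj (HomotopyCategory.quotient C c)).Full :=
  Quotient.full_whiskeringLeft_functor _ _

instance (C : Type*) [Category C] [Preadditive C] {ι : Type*} (c : ComplexShape ι)
    (H : Type*) [Category H] :
    ((Functor.whiskeringLeft _ _ H).obj (HomotopyCategory.quotient C c)).Faithful :=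
  Quotient.faithful_whiskeringLeft_functor _ _

include adj hKinj in
/-- If `L ⊣ R` with `L` exact and the target of `L` has enough K-injectives, then
`L.mapDerivedCategory` is left adjoint to any right derived functor of `R` (defined at the level
of cochain complexes). -/
theorem nonempty_adj_of_isRightDerivedFunctor (RG : DerivedCategory B ⥤ DerivedCategory A)
    (α : R.mapHomologicalComplex (ComplexShape.up ℤ) ⋙ DerivedCategory.Q ⟶
      DerivedCategory.Q ⋙ RG)
    [RG.IsRightDerivedFunctor α (HomologicalComplex.quasiIso B (ComplexShape.up ℤ))] :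
    Nonempty (L.mapDerivedCategory ⊣ RG) := by
  have := hasRightDerivedFunctor hKinj
    (R.mapHomotopyCategory (ComplexShape.up ℤ) ⋙ DerivedCategory.Qh)
  have h1 : (RR R).IsLeftKanExtension (RRunit R) :=
    Functor.IsRightDerivedFunctor.isLeftKanExtension _ _
      (HomotopyCategory.quasiIso B (ComplexShape.up ℤ))
  rw [KanPrecomp.isLeftKanExtension_iff_precomp _
    (HomotopyCategory.quotient B (ComplexShape.up ℤ))] at h1
  have h2 : RG.IsLeftKanExtension α :=
    Functor.IsRightDerivedFunctor.isLeftKanExtension _ _
      (HomologicalComplex.quasiIso B (ComplexShape.up ℤ))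
  let e : RG ≅ RR R := @Functor.leftKanExtensionUnique _ _ _ _ _ _ RG
    (DerivedCategory.Q (C := B))
    (R.mapHomologicalComplex (ComplexShape.up ℤ) ⋙ DerivedCategory.Q) α h2 (RR R)
    (Functor.whiskerLeft (HomotopyCategory.quotient B (ComplexShape.up ℤ)) (RRunit R) ≫
      (Functor.associator _ _ _).inv) h1
  exact ⟨(derivedAdj adj hKinj).ofNatIsoRight e.symm⟩

end Groth.Agent.H33.DerAdjU
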