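import Groth.Agent.H33.DerAdjU

/-!
# Composition of a total right derived functor (computed by K-injective resolutions) with
other functors
-/

set_option autoImplicit false

open CategoryTheory Limits

namespace Groth.Agent.H33.DerComp

universe w₁ w₂ v₁ v₂ u₁ u₂

open Groth.Agent.H5.KInjDeriv

variable {A : Type u₁} [Category.{v₁} A] [Abelian A] [HasDerivedCategory.{w₁} A]
  (hKinjA : ∀ K : CochainComplex A ℤ, ∃ (I : CochainComplex A ℤ) (f : K ⟶ I),
    I.IsKInjective ∧ QuasiIso f)
  {D' D'' : Type*} [Category D'] [Category D'']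
  (F : HomotopyCategory A (ComplexShape.up ℤ) ⥤ D')
  [F.HasRightDerivedFunctor (HomotopyCategory.quasiIso A (ComplexShape.up ℤ))]

/-- abbreviation for the total right derived functor -/
noncomputable abbrev RF : DerivedCategory A ⥤ D' :=
  F.totalRightDerived DerivedCategory.Qh (HomotopyCategory.quasiIso A (ComplexShape.up ℤ))

/-- abbreviation for the unit of the total right derived functor -/
noncomputable abbrev RFunit : F ⟶ DerivedCategory.Qh ⋙ RF F :=
  F.totalRightDerivedUnit DerivedCategory.Qh (HomotopyCategory.quasiIso A (ComplexShape.up ℤ))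

include hKinjA in
lemma isIso_RFunit_app (I : KInj A) : IsIso ((RFunit F).app ((Φ A).functor.obj I)) := by
  have := isRightDerivabilityStructure hKinjA
  exact (derives F).isIso_of_isRightDerivedFunctor (RFunit F) I

include hKinjA in
/-- Post-composition: `RF ⋙ G` is the right derived functor of `F ⋙ G`. -/
lemma isRightDerivedFunctor_postcomp (G : D' ⥤ D'') :
    (RF F ⋙ G).IsRightDerivedFunctor
      (Functor.whiskerRight (RFunit F) G ≫ (Functor.associator _ _ _).hom)
      (HomotopyCategory.quasiIso A (ComplexShape.up ℤ)) := by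
  have := isRightDerivabilityStructure hKinjA
  refine (derives (F ⋙ G)).isRightDerivedFunctor_of_isIso _ (fun I => ?_)
  have := isIso_RFunit_app hKinjA F I
  dsimp
  rw [Category.comp_id]
  infer_instance

variable {B : Type u₂} [Category.{v₂} B] [Abelian B] [HasDerivedCategory.{w₂} B]
  (hKinjB : ∀ K : CochainComplex B ℤ, ∃ (I : CochainComplex B ℤ) (f : K ⟶ I),
    I.IsKInjective ∧ QuasiIso f)
  (T : B ⥤ A) [T.Additive] [PreservesFiniteLimits T] [PreservesFiniteColimits T]
  (hT : ∀ I : CochainComplex B ℤ, I.IsKInjective →
    CochainComplex.IsKInjective ((T.mapHomologicalComplex (ComplexShape.up ℤ)).obj I))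

/-- The unit for the pre-composition. -/
noncomputable def precompUnit :
    T.mapHomotopyCategory (ComplexShape.up ℤ) ⋙ F ⟶
      DerivedCategory.Qh ⋙ T.mapDerivedCategory ⋙ RF F :=
  Functor.whiskerLeft (T.mapHomotopyCategory (ComplexShape.up ℤ)) (RFunit F) ≫
    (Functor.associator _ _ _).inv ≫
    Functor.whiskerRight T.mapDerivedCategoryFactorsh.inv (RF F) ≫
    (Functor.associator _ _ _).hom

include hKinjA hKinjB hT in
/-- Pre-composition with an exact functor preserving K-injectives: `T_D ⋙ RF` is the right
derived functor of `T_K ⋙ F`. -/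
lemma isRightDerivedFunctor_precomp :
    (T.mapDerivedCategory ⋙ RF F).IsRightDerivedFunctor (precompUnit F T)
      (HomotopyCategory.quasiIso B (ComplexShape.up ℤ)) := by
  have := isRightDerivabilityStructure hKinjB
  refine (derives (T.mapHomotopyCategory (ComplexShape.up ℤ) ⋙ F)).isRightDerivedFunctor_of_isIso
    _ (fun I => ?_)
  have hI : CochainComplex.IsKInjective
      ((T.mapHomologicalComplex (ComplexShape.up ℤ)).obj I.obj.as) := hT _ I.property
  have := isIso_RFunit_app hKinjA F
    ⟨(HomotopyCategory.quotient A (ComplexShape.up ℤ)).obj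
      ((T.mapHomologicalComplex (ComplexShape.up ℤ)).obj I.obj.as), hI⟩
  dsimp [precompUnit]
  simp only [Category.comp_id, Category.id_comp]
  have h' : IsIso ((RFunit F).app
      ((T.mapHomotopyCategory (ComplexShape.up ℤ)).obj ((Φ B).functor.obj I))) := this
  infer_instance

end Groth.Agent.H33.DerComp
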