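import Mathlib

set_option autoImplicit false
universe w v u
open CategoryTheory CategoryTheory.Limits

namespace Groth.Agent.H33.ExtEfface

open DerivedCategory Abelian

variable {C : Type u} [Category.{v} C] [Abelian C]

/-- The inclusion of the top term of a complex which is `≤ 0`. -/
noncomputable def topIncl (X' : CochainComplex C ℤ) [X'.IsStrictlyLE 0] :
    (HomologicalComplex.single C (ComplexShape.up ℤ) 0).obj (X'.X 0) ⟶ X' :=
  HomologicalComplex.mkHomFromSingle (𝟙 _) (fun k _ => by
    apply (X'.isZero_of_isStrictlyLE 0 k (by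
      have : (ComplexShape.up ℤ).Rel 0 k := by assumption
      simp at this; lia)).eq_of_tgt)

/-- degree-zero component of a map to a single complex -/
noncomputable def topMap {X' : CochainComplex C ℤ} {L : C}
    (s : X' ⟶ (HomologicalComplex.single C (ComplexShape.up ℤ) 0).obj L) : X'.X 0 ⟶ L :=
  s.f 0 ≫ (HomologicalComplex.singleObjXSelf (ComplexShape.up ℤ) 0 L).hom

lemma comp_single_map_cokernel {X' : CochainComplex C ℤ} {L : C}
    (s : X' ⟶ (HomologicalComplex.single C (ComplexShape.up ℤ) 0).obj L) :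
    s ≫ (HomologicalComplex.single C (ComplexShape.up ℤ) 0).map (cokernel.π (topMap s)) = 0 := by
  apply HomologicalComplex.to_single_hom_ext
  have h : s.f 0 ≫ (HomologicalComplex.singleObjXSelf (ComplexShape.up ℤ) 0 L).hom ≫
      cokernel.π (topMap s) = 0 := by
    rw [← Category.assoc]; exact cokernel.condition (topMap s)
  rw [HomologicalComplex.comp_f, HomologicalComplex.single_map_f_self, reassoc_of% h]
  simp

lemma topIncl_comp {X' : CochainComplex C ℤ} [X'.IsStrictlyLE 0] {L : C}
    (s : X' ⟶ (HomologicalComplex.single C (ComplexShape.up ℤ) 0).obj L) :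
    topIncl X' ≫ s = (HomologicalComplex.single C (ComplexShape.up ℤ) 0).map (topMap s) := by
  apply HomologicalComplex.to_single_hom_ext
  rw [HomologicalComplex.comp_f, HomologicalComplex.single_map_f_self]
  simp [topIncl, topMap]

lemma epi_topMap [HasDerivedCategory.{w} C] {X' : CochainComplex C ℤ} {L : C}
    (s : X' ⟶ (HomologicalComplex.single C (ComplexShape.up ℤ) 0).obj L) [IsIso (Q.map s)] :
    Epi (topMap s) := by
  apply Abelian.epi_of_cokernel_π_eq_zero
  have h1 : Q.map ((HomologicalComplex.single C (ComplexShape.up ℤ) 0).map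
      (cokernel.π (topMap s))) = 0 := by
    rw [← cancel_epi (Q.map s), ← Q.map_comp, comp_single_map_cokernel, Q.map_zero, comp_zero]
  have h2 : (DerivedCategory.singleFunctor C 0).map (cokernel.π (topMap s)) = 0 := h1
  exact (DerivedCategory.singleFunctor C 0).map_injective (by rw [h2, Functor.map_zero])

lemma key [HasDerivedCategory.{w} C] {L M : C} {n : ℤ} (hn : 1 ≤ n)
    (y : Q.obj ((HomologicalComplex.single C (ComplexShape.up ℤ) 0).obj L) ⟶
      (Q.obj ((HomologicalComplex.single C (ComplexShape.up ℤ) 0).obj M))⟦n⟧) :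
    ∃ (L' : C) (p : L' ⟶ L), Epi p ∧
      Q.map ((HomologicalComplex.single C (ComplexShape.up ℤ) 0).map p) ≫ y = 0 := by
  obtain ⟨X', hX', s, hs, g, fac⟩ := right_fac_of_isStrictlyLE
    (X := (HomologicalComplex.single C (ComplexShape.up ℤ) 0).obj L)
    (Y := ((HomologicalComplex.single C (ComplexShape.up ℤ) 0).obj M)⟦n⟧)
    (y ≫ (Q.commShiftIso n).inv.app
      ((HomologicalComplex.single C (ComplexShape.up ℤ) 0).obj M)) 0
  refine ⟨X'.X 0, topMap s, epi_topMap s, ?_⟩
  have hg : topIncl X' ≫ g = 0 := by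
    apply HomologicalComplex.from_single_hom_ext
    apply IsZero.eq_of_tgt
    exact HomologicalComplex.isZero_single_obj_X (ComplexShape.up ℤ) 0 M (0 + n) (by lia)
  have hy : y = (inv (Q.map s) ≫ Q.map g) ≫ (Q.commShiftIso n).hom.app
      ((HomologicalComplex.single C (ComplexShape.up ℤ) 0).obj M) := by
    have h1 := (Q.commShiftIso n).inv_hom_id_app
      ((HomologicalComplex.single C (ComplexShape.up ℤ) 0).obj M)
    rw [← fac, Category.assoc, h1]
    exact (Category.comp_id y).symm
  rw [hy, ← topIncl_comp, Q.map_comp]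
  simp only [Category.assoc, IsIso.hom_inv_id_assoc]
  rw [← Q.map_comp_assoc, hg, Q.map_zero, zero_comp]

theorem exists_epi_comp_eq_zero [HasExt.{w} C] {L M : C} {n : ℕ} (hn : 1 ≤ n) (y : Ext.{w} L M n) :
    ∃ (L' : C) (p : L' ⟶ L), Epi p ∧ (Ext.mk₀ p).comp y (zero_add n) = 0 := by
  let _ := HasDerivedCategory.standard C
  obtain ⟨L', p, hp, h⟩ := key (C := C) (L := L) (M := M) (n := (n : ℤ)) (by exact_mod_cast hn) y.hom
  refine ⟨L', p, hp, ?_⟩
  apply Ext.ext
  rw [Ext.comp_hom, Ext.mk₀_hom, ShiftedHom.mk₀_comp, Ext.zero_hom]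
  exact h

end Groth.Agent.H33.ExtEfface
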