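import Mathlib.Algebra.Homology.HomotopyCategory.Plus

set_option autoImplicit false
universe v u
open CategoryTheory CategoryTheory.Limits ZeroObject

namespace Groth.Agent.H33

open CategoryTheory.Pretriangulated HomotopyCategory

variable {V : Type u} [Category.{v} V] [Preadditive V] [HasZeroObject V] [HasBinaryBiproducts V]

set_option backward.defeqAttrib.useBackward true in
set_option backward.isDefEq.respectTransparency false in
/-- A property of cochain complexes which holds for zero, is stable under shifts and mapping
cones defines a triangulated subcategory of the homotopy category. -/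
theorem isTriangulated_of_complexProperty (Pc : CochainComplex V ℤ → Prop)
    (h0 : Pc 0) (hshift : ∀ (K : CochainComplex V ℤ) (n : ℤ), Pc K → Pc (K⟦n⟧))
    (hcone : ∀ {K L : CochainComplex V ℤ} (f : K ⟶ L), Pc K → Pc L →
      Pc (CochainComplex.mappingCone f)) :
    ObjectProperty.IsTriangulated
      (fun K : HomotopyCategory V (ComplexShape.up ℤ) => Pc K.as) := by
  let P : ObjectProperty (HomotopyCategory V (ComplexShape.up ℤ)) := fun K => Pc K.as
  have hP : ∀ K : CochainComplex V ℤ, P ((HomotopyCategory.quotient _ _).obj K) ↔ Pc K :=
    fun K => Iff.rfl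
  have : P.ContainsZero :=
    ⟨⟨(HomotopyCategory.quotient _ _).obj 0, Functor.map_isZero _ (isZero_zero _), h0⟩⟩
  have : P.IsStableUnderShift ℤ :=
    { isStableUnderShiftBy := fun n =>
        { le_shift := fun K hK => by
            obtain ⟨K, rfl⟩ := K.quotient_obj_surjective
            rw [ObjectProperty.prop_shift_iff, shift_quotient_obj, hP]
            exact hshift K n hK } }
  have : P.IsTriangulatedClosed₃ :=
    { ext₃' := fun T hT h₁ h₂ => by
        obtain ⟨f, hf⟩ := (HomotopyCategory.quotient _ _).map_surjective
          (X := T.obj₁.as) (Y := T.obj₂.as) T.mor₁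
        refine ⟨_, ?_,
          ⟨Triangle.π₃.mapIso (isoTriangleOfIso₁₂ T _ hT (mappingCone_triangleh_distinguished f)
            (Iso.refl _) (Iso.refl _) ?_)⟩⟩
        · exact hcone f h₁ h₂
        · simp [hf] }
  exact { toIsTriangulatedClosed₂ := .of_isTriangulatedClosed₃ }

end Groth.Agent.H33
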