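import Mathlib.CategoryTheory.Triangulated.Pretriangulated
import Mathlib.CategoryTheory.Limits.Shapes.Products
import Mathlib.Algebra.BigOperators.Intervals
import Groth.Prelude.Def_DerLim

/-!
# Homotopy colimits of subsequences

Tools for comparing the homotopy colimit of a sequential system with that of a subsequence.
-/

universe v u

open CategoryTheory CategoryTheory.Limits CategoryTheory.Pretriangulated

namespace Groth.Agent.H33.Hocolim

section Triangulated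

variable {C : Type u} [Category.{v} C] [Preadditive C] [HasZeroObject C] [HasShift C ℤ]
  [∀ n : ℤ, (shiftFunctor C n).Additive] [Pretriangulated C]

/-- An endomorphism of a distinguished triangle whose first two components are
"homotopic to the identity" has an invertible third component. -/
lemma isIso_of_homotopic_id (T : Triangle C) (hT : T ∈ distTriang C)
    (α : T.obj₁ ⟶ T.obj₁) (β : T.obj₂ ⟶ T.obj₂) (γ : T.obj₃ ⟶ T.obj₃)
    (hβ : T.mor₂ ≫ γ = β ≫ T.mor₂) (hα : T.mor₃ ≫ α⟦(1 : ℤ)⟧' = γ ≫ T.mor₃)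
    (h : T.obj₂ ⟶ T.obj₁) (h1 : α = 𝟙 _ - T.mor₁ ≫ h) (h2 : β = 𝟙 _ - h ≫ T.mor₁) :
    IsIso γ := by
  have hN1 : T.mor₂ ≫ (𝟙 _ - γ) = 0 := by
    rw [Preadditive.comp_sub, Category.comp_id, hβ, h2, Preadditive.sub_comp, Category.id_comp,
      Category.assoc, comp_distTriang_mor_zero₁₂ T hT, comp_zero, sub_zero, sub_self]
  obtain ⟨t, ht⟩ := Triangle.yoneda_exact₃ T hT (𝟙 _ - γ) hN1
  have hN2 : (𝟙 _ - γ) ≫ T.mor₃ = 0 := by
    rw [Preadditive.sub_comp, Category.id_comp, ← hα, h1, Functor.map_sub,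
      CategoryTheory.Functor.map_id, Preadditive.comp_sub, Category.comp_id, Functor.map_comp,
      reassoc_of% (comp_distTriang_mor_zero₃₁ T hT), zero_comp, sub_zero, sub_self]
  have hNN : (𝟙 _ - γ) ≫ (𝟙 _ - γ) = 0 := by
    calc (𝟙 _ - γ) ≫ (𝟙 _ - γ) = (𝟙 _ - γ) ≫ T.mor₃ ≫ t := by rw [← ht]
      _ = 0 := by rw [reassoc_of% hN2, zero_comp]
  generalize hN : 𝟙 _ - γ = N at hNN
  have hγ : γ = 𝟙 _ - N := by rw [← hN]; abel
  refine ⟨⟨𝟙 _ + N, ?_, ?_⟩⟩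
  · rw [hγ, Preadditive.sub_comp, Preadditive.comp_add, Preadditive.comp_add, hNN,
      Category.id_comp, Category.comp_id, Category.id_comp]
    abel
  · rw [hγ, Preadditive.add_comp, Preadditive.comp_sub, Preadditive.comp_sub, hNN,
      Category.id_comp, Category.comp_id, Category.id_comp]
    abel

/-- Two distinguished triangles whose first morphisms are "homotopy equivalent" as two-term
complexes have isomorphic third objects, compatibly with the second morphisms. -/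
lemma exists_iso_of_homotopyEquiv (T T' : Triangle C) (hT : T ∈ distTriang C)
    (hT' : T' ∈ distTriang C)
    (u : T'.obj₁ ⟶ T.obj₁) (v : T'.obj₂ ⟶ T.obj₂) (a : T.obj₁ ⟶ T'.obj₁) (b : T.obj₂ ⟶ T'.obj₂)
    (huv : T'.mor₁ ≫ v = u ≫ T.mor₁) (hab : T.mor₁ ≫ b = a ≫ T'.mor₁)
    (h : T.obj₂ ⟶ T.obj₁) (h' : T'.obj₂ ⟶ T'.obj₁)
    (h1 : a ≫ u = 𝟙 _ - T.mor₁ ≫ h) (h2 : b ≫ v = 𝟙 _ - h ≫ T.mor₁)
    (h3 : u ≫ a = 𝟙 _ - T'.mor₁ ≫ h') (h4 : v ≫ b = 𝟙 _ - h' ≫ T'.mor₁) :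
    ∃ e : T'.obj₃ ≅ T.obj₃, T'.mor₂ ≫ e.hom = v ≫ T.mor₂ := by
  obtain ⟨φ, hφ1, hφ2⟩ := complete_distinguished_triangle_morphism T' T hT' hT u v huv
  obtain ⟨ψ, hψ1, hψ2⟩ := complete_distinguished_triangle_morphism T T' hT hT' a b hab
  have i1 : IsIso (φ ≫ ψ) := by
    refine isIso_of_homotopic_id T' hT' (u ≫ a) (v ≫ b) (φ ≫ ψ) ?_ ?_ h' h3 h4
    · rw [reassoc_of% hφ1, hψ1, Category.assoc]
    · rw [Functor.map_comp, reassoc_of% hφ2, hψ2, Category.assoc]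
  have i2 : IsIso (ψ ≫ φ) := by
    refine isIso_of_homotopic_id T hT (a ≫ u) (b ≫ v) (ψ ≫ φ) ?_ ?_ h h1 h2
    · rw [reassoc_of% hψ1, hφ1, Category.assoc]
    · rw [Functor.map_comp, reassoc_of% hψ2, hφ2, Category.assoc]
  have r1 : φ ≫ (ψ ≫ inv (φ ≫ ψ)) = 𝟙 _ := by
    rw [← Category.assoc, IsIso.hom_inv_id]
  have r2 : (inv (ψ ≫ φ) ≫ ψ) ≫ φ = 𝟙 _ := by
    rw [Category.assoc, IsIso.inv_hom_id]
  have r3 : inv (ψ ≫ φ) ≫ ψ = ψ ≫ inv (φ ≫ ψ) := by
    calc inv (ψ ≫ φ) ≫ ψ = (inv (ψ ≫ φ) ≫ ψ) ≫ φ ≫ (ψ ≫ inv (φ ≫ ψ)) := by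
          rw [r1, Category.comp_id]
      _ = ψ ≫ inv (φ ≫ ψ) := by rw [← Category.assoc, r2, Category.id_comp]
  exact ⟨⟨φ, ψ ≫ inv (φ ≫ ψ), r1, by rw [← r3, r2]⟩, hφ1⟩

end Triangulated

section System

variable {D : Type u} [Category.{v} D] [Preadditive D] (K : ℕ → D) (tr : ∀ m k : ℕ, K m ⟶ K k)
  [HasCoproduct K]

/-- The endomorphism `1 - shift` of `∐ K`. -/
noncomputable def d : (∐ K) ⟶ ∐ K := 𝟙 _ - DerLim.shiftMap K (fun m => tr m (m + 1))

lemma ι_d (m : ℕ) :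
    Sigma.ι K m ≫ d K tr = Sigma.ι K m - tr m (m + 1) ≫ Sigma.ι K (m + 1) := by
  simp [d, DerLim.shiftMap]

/-- The transition maps form a system. -/
structure IsSys : Prop where
  self : ∀ m, tr m m = 𝟙 _
  comp : ∀ m k l, m ≤ k → k ≤ l → tr m k ≫ tr k l = tr m l

variable {K tr}

lemma tele (hs : IsSys K tr) (m N : ℕ) (h : m ≤ N) :
    (∑ k ∈ Finset.Ico m N, tr m k ≫ Sigma.ι K k) ≫ d K tr =
      Sigma.ι K m - tr m N ≫ Sigma.ι K N := by
  induction N, h using Nat.le_induction with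
  | base => simp [hs.self]
  | succ N h ih =>
    rw [Finset.sum_Ico_succ_top h, Preadditive.add_comp, ih, Category.assoc, ι_d,
      Preadditive.comp_sub, ← Category.assoc (tr m N), hs.comp m N (N + 1) h (Nat.le_succ N)]
    abel

variable (K tr) in
/-- The telescoping homotopy. -/
noncomputable def H (M : ℕ → ℕ) : (∐ K) ⟶ ∐ K :=
  Sigma.desc (fun m => ∑ k ∈ Finset.Ico m (M m), tr m k ≫ Sigma.ι K k)

@[reassoc (attr := simp)]
lemma ι_H (M : ℕ → ℕ) (m : ℕ) :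
    Sigma.ι K m ≫ H K tr M = ∑ k ∈ Finset.Ico m (M m), tr m k ≫ Sigma.ι K k := by
  simp [H]

lemma H_d (hs : IsSys K tr) (M : ℕ → ℕ) (hM : ∀ m, m ≤ M m) :
    H K tr M ≫ d K tr = 𝟙 _ - Sigma.desc (fun m => tr m (M m) ≫ Sigma.ι K (M m)) := by
  refine Sigma.hom_ext _ _ (fun m => ?_)
  rw [ι_H_assoc, tele hs m (M m) (hM m), Preadditive.comp_sub, Category.comp_id,
    Sigma.ι_desc]

lemma d_H (hs : IsSys K tr) (M : ℕ → ℕ) (hM : ∀ m, m ≤ M m) (hM' : ∀ m, M m ≤ M (m + 1)) :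
    d K tr ≫ H K tr M =
      𝟙 _ - Sigma.desc (fun m => ∑ k ∈ Finset.Ico (M m) (M (m + 1)), tr m k ≫ Sigma.ι K k) := by
  refine Sigma.hom_ext _ _ (fun m => ?_)
  rw [← Category.assoc, ι_d, Preadditive.sub_comp, ι_H, Category.assoc, ι_H,
    Preadditive.comp_sub, Category.comp_id, Sigma.ι_desc, Preadditive.comp_sum]
  have e1 : ∑ k ∈ Finset.Ico (m + 1) (M (m + 1)), tr m (m + 1) ≫ tr (m + 1) k ≫ Sigma.ι K k =
      ∑ k ∈ Finset.Ico (m + 1) (M (m + 1)), tr m k ≫ Sigma.ι K k := by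
    refine Finset.sum_congr rfl (fun k hk => ?_)
    rw [Finset.mem_Ico] at hk
    rw [← Category.assoc, hs.comp m (m + 1) k (Nat.le_succ m) hk.1]
  have hlt : m < M (m + 1) := lt_of_lt_of_le (Nat.lt_succ_self m) (hM (m + 1))
  have e2 := Finset.sum_Ico_consecutive (fun k => tr m k ≫ Sigma.ι K k) (hM m) (hM' m)
  have e3 := Finset.sum_eq_sum_Ico_succ_bot hlt (fun k => tr m k ≫ Sigma.ι K k)
  rw [e1]
  rw [hs.self, Category.id_comp] at e3
  rw [e3] at e2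
  rw [sub_eq_sub_iff_add_eq_add]
  exact e2

end System

section Main

variable {D : Type u} [Category.{v} D] [Preadditive D] [HasZeroObject D] [HasShift D ℤ]
  [∀ n : ℤ, (shiftFunctor D n).Additive] [Pretriangulated D]

variable (K : ℕ → D) (tr : ∀ m k : ℕ, K m ⟶ K k) (n : ℕ → ℕ)

/-- The subsequence of objects. -/
abbrev K' : ℕ → D := fun i => K (n i)

/-- The transition maps of the subsequence. -/
abbrev tr' : ∀ i j : ℕ, K' K n i ⟶ K' K n j := fun i j => tr (n i) (n j)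

variable {K tr n}

omit [HasZeroObject D] [HasShift D ℤ] [∀ n : ℤ, (shiftFunctor D n).Additive] [Pretriangulated D] in
lemma isSys' (hs : IsSys K tr) (hn : StrictMono n) : IsSys (K' K n) (tr' K tr n) :=
  ⟨fun _ => hs.self _, fun _ _ _ hij hjl => hs.comp _ _ _ (hn.monotone hij) (hn.monotone hjl)⟩

theorem hocolim_subseq (hs : IsSys K tr) (hn : StrictMono n)
    [HasCoproduct K] [HasCoproduct (fun i => K (n i))]
    (L : D) (ι : ∀ m, K m ⟶ L) (hL : DerLim.IsHocolim K (fun m => tr m (m + 1)) L ι)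
    (L' : D) (ι' : ∀ i, K (n i) ⟶ L')
    (hL' : DerLim.IsHocolim (fun i => K (n i)) (fun i => tr (n i) (n (i + 1))) L' ι') :
    ∃ e : L' ≅ L, ∀ i, ι' i ≫ e.hom = ι (n i) := by
  obtain ⟨c, hc⟩ := hL
  obtain ⟨c', hc'⟩ := hL'
  have hs' := isSys' hs hn
  have hnm : ∀ m, m ≤ n m := fun m => hn.le_apply
  have hn1 : ∀ m, n m ≤ n (m + 1) := fun m => hn.monotone (Nat.le_succ m)
  let b : (∐ K) ⟶ ∐ (K' K n) := Sigma.desc (fun m => tr m (n m) ≫ Sigma.ι (K' K n) m)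
  let v : (∐ (K' K n)) ⟶ ∐ K := Sigma.desc (fun i => Sigma.ι K (n i))
  let u : (∐ (K' K n)) ⟶ ∐ K :=
    Sigma.desc (fun i => ∑ k ∈ Finset.Ico (n i) (n (i + 1)), tr (n i) k ≫ Sigma.ι K k)
  have hb : ∀ m, Sigma.ι K m ≫ b = tr m (n m) ≫ Sigma.ι (K' K n) m := fun m => by simp [b]
  have hv : ∀ i, Sigma.ι (K' K n) i ≫ v = Sigma.ι K (n i) := fun i => by simp [v]
  have hu : ∀ i, Sigma.ι (K' K n) i ≫ u =
      ∑ k ∈ Finset.Ico (n i) (n (i + 1)), tr (n i) k ≫ Sigma.ι K k := fun i => by simp [u]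
  have C1 : d K tr ≫ b = b ≫ d (K' K n) (tr' K tr n) := by
    refine Sigma.hom_ext _ _ (fun m => ?_)
    have l : Sigma.ι K m ≫ d K tr ≫ b = tr m (n m) ≫ Sigma.ι (K' K n) m -
        tr m (n (m + 1)) ≫ Sigma.ι (K' K n) (m + 1) := by
      rw [← Category.assoc, ι_d, Preadditive.sub_comp, hb, Category.assoc, hb, ← Category.assoc,
        hs.comp m (m + 1) (n (m + 1)) (Nat.le_succ m) (hnm (m + 1))]
    have r : Sigma.ι K m ≫ b ≫ d (K' K n) (tr' K tr n) = tr m (n m) ≫ Sigma.ι (K' K n) m -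
        tr m (n (m + 1)) ≫ Sigma.ι (K' K n) (m + 1) := by
      rw [← Category.assoc, hb, Category.assoc, ι_d, Preadditive.comp_sub, ← Category.assoc,
        hs.comp m (n m) (n (m + 1)) (hnm m) (hn1 m)]
    rw [l, r]
  have C2 : d (K' K n) (tr' K tr n) ≫ v = u ≫ d K tr := by
    refine Sigma.hom_ext _ _ (fun i => ?_)
    rw [← Category.assoc, ι_d, Preadditive.sub_comp, hv, Category.assoc, hv, ← Category.assoc,
      hu, tele hs (n i) (n (i + 1)) (hn1 i)]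
  have C3 : b ≫ v = 𝟙 _ - H K tr n ≫ d K tr := by
    rw [H_d hs n hnm, sub_sub_cancel]
    refine Sigma.hom_ext _ _ (fun m => ?_)
    rw [← Category.assoc, hb, Category.assoc, hv, Sigma.ι_desc]
  have C4 : b ≫ u = 𝟙 _ - d K tr ≫ H K tr n := by
    rw [d_H hs n hnm hn1, sub_sub_cancel]
    refine Sigma.hom_ext _ _ (fun m => ?_)
    rw [← Category.assoc, hb, Category.assoc, hu, Sigma.ι_desc, Preadditive.comp_sum]
    refine Finset.sum_congr rfl (fun k hk => ?_)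
    rw [Finset.mem_Ico] at hk
    rw [← Category.assoc, hs.comp m (n m) k (hnm m) hk.1]
  have C5 : v ≫ b = 𝟙 _ - H (K' K n) (tr' K tr n) n ≫ d (K' K n) (tr' K tr n) := by
    rw [H_d hs' n hnm, sub_sub_cancel]
    refine Sigma.hom_ext _ _ (fun i => ?_)
    rw [← Category.assoc, hv, hb, Sigma.ι_desc]
  have C6 : u ≫ b = 𝟙 _ - d (K' K n) (tr' K tr n) ≫ H (K' K n) (tr' K tr n) n := by
    rw [d_H hs' n hnm hn1, sub_sub_cancel]
    refine Sigma.hom_ext _ _ (fun i => ?_)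
    rw [← Category.assoc, hu, Sigma.ι_desc, Preadditive.sum_comp]
    refine Finset.sum_congr rfl (fun k hk => ?_)
    rw [Finset.mem_Ico] at hk
    rw [Category.assoc, hb, ← Category.assoc, hs.comp (n i) k (n k) hk.1 (hnm k)]
  obtain ⟨e, he⟩ : ∃ e : L' ≅ L, Sigma.desc ι' ≫ e.hom = v ≫ Sigma.desc ι :=
    exists_iso_of_homotopyEquiv
      (Triangle.mk (d K tr) (Sigma.desc ι) c)
      (Triangle.mk (d (K' K n) (tr' K tr n)) (Sigma.desc ι') c') hc hc' u v b b C2 C1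
      (H K tr n) (H (K' K n) (tr' K tr n) n) C4 C3 C6 C5
  refine ⟨e, fun i => ?_⟩
  calc ι' i ≫ e.hom = Sigma.ι (K' K n) i ≫ Sigma.desc ι' ≫ e.hom := by rw [Sigma.ι_desc_assoc]
    _ = Sigma.ι (K' K n) i ≫ v ≫ Sigma.desc ι := by rw [he]
    _ = ι (n i) := by rw [← Category.assoc, hv, Sigma.ι_desc]

end Main

end Groth.Agent.H33.Hocolim
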