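import Mathlib
import Groth.Agent.H33.IRes
/-!
# Relative right resolutions by objects of a class `I`

Given a morphism `f : K ⟶ Y` of bounded below complexes, we construct a factorisation
`K ⟶ L ⟶ Y` where `K ⟶ L` is a termwise monomorphic quasi-isomorphism and `L ⟶ Y` is
termwise the projection `Y.X k ⊞ J ⟶ Y.X k` with `J` in the class `I`.
-/
set_option autoImplicit false
universe v u
open CategoryTheory Limits

namespace Groth.Agent.H33.IResRel

open Groth.Agent.H33.IRes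

variable {A : Type u} [Category.{v} A] [Abelian A]

variable {I : A → Prop} (E : Emb I) {K Y : CochainComplex A ℕ} (f : K ⟶ Y)

/-- The data at stage `k` of the construction. -/
structure Stage (I : A → Prop) {K Y : CochainComplex A ℕ} (f : K ⟶ Y) (k : ℕ) where
  L : A
  α : K.X k ⟶ L
  W : A
  q : L ⟶ W
  m : K.opcycles k ⟶ W
  comm : α ≫ q = K.pOpcycles k ≫ m
  hm : Mono m
  hq : Epi q
  hα : Mono α
  J : A
  hJ : I J
  iso : L ≅ Y.X k ⊞ J
  hpr : α ≫ iso.hom ≫ biprod.fst = f.f k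
  y : W ⟶ Y.X (k + 1)
  hy : q ≫ y = (iso.hom ≫ biprod.fst) ≫ Y.d k (k + 1)

attribute [reassoc] Stage.comm Stage.hpr Stage.hy

namespace Stage

variable {f} {k : ℕ} (s : Stage I f k)

instance : Mono s.m := s.hm
instance : Epi s.q := s.hq
instance : Mono s.α := s.hα

/-- The projection to `Y`. -/
noncomputable abbrev pr : s.L ⟶ Y.X k := s.iso.hom ≫ biprod.fst

/-- The pushout used to define the next term. -/
noncomputable abbrev P : A := pushout s.m (K.fromOpcycles k (k + 1))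

/-- The pushout square. -/
lemma isPushout : IsPushout s.m (K.fromOpcycles k (k + 1))
    (pushout.inl s.m (K.fromOpcycles k (k + 1))) (pushout.inr s.m (K.fromOpcycles k (k + 1))) :=
  IsPushout.of_hasPushout _ _

lemma isPullback : IsPullback s.m (K.fromOpcycles k (k + 1))
    (pushout.inl s.m (K.fromOpcycles k (k + 1))) (pushout.inr s.m (K.fromOpcycles k (k + 1))) :=
  isPullback_of_isPushout_of_mono_top s.isPushout

lemma y_d : s.y ≫ Y.d (k + 1) (k + 2) = 0 := by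
  rw [← cancel_epi s.q, s.hy_assoc]
  simp

lemma m_y : s.m ≫ s.y = K.fromOpcycles k (k + 1) ≫ f.f (k + 1) := by
  rw [← cancel_epi (K.pOpcycles k), ← s.comm_assoc, s.hy]
  simp only [Category.assoc]
  rw [s.hpr_assoc, K.p_fromOpcycles_assoc, f.comm]

/-- The map from the pushout to `Y`. -/
noncomputable def η : s.P ⟶ Y.X (k + 1) := pushout.desc s.y (f.f (k + 1)) s.m_y

@[reassoc (attr := simp)]
lemma inl_η : pushout.inl s.m (K.fromOpcycles k (k + 1)) ≫ s.η = s.y :=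
  pushout.inl_desc _ _ _

@[reassoc (attr := simp)]
lemma inr_η : pushout.inr s.m (K.fromOpcycles k (k + 1)) ≫ s.η = f.f (k + 1) :=
  pushout.inr_desc _ _ _

/-- The next term. -/
noncomputable abbrev Lnext : A := Y.X (k + 1) ⊞ E.obj s.P

/-- The embedding of the pushout in the next term. -/
noncomputable def emb : s.P ⟶ s.Lnext E := biprod.lift s.η (E.ι s.P)

@[reassoc (attr := simp)]
lemma emb_fst : s.emb E ≫ biprod.fst = s.η := by simp [emb]

@[reassoc (attr := simp)]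
lemma emb_snd : s.emb E ≫ biprod.snd = E.ι s.P := by simp [emb]

instance : Mono (s.emb E) := mono_of_mono_fac (s.emb_snd E)

/-- The map from the "opcycles" of `L` to the next term. -/
noncomputable def r : s.W ⟶ s.Lnext E := pushout.inl _ _ ≫ s.emb E

/-- The next component of the morphism. -/
noncomputable def α' : K.X (k + 1) ⟶ s.Lnext E := pushout.inr _ _ ≫ s.emb E

instance : Mono (s.α' E) := by unfold α'; infer_instance

@[reassoc (attr := simp)]
lemma r_fst : s.r E ≫ biprod.fst = s.y := by simp [r]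

@[reassoc (attr := simp)]
lemma α'_fst : s.α' E ≫ biprod.fst = f.f (k + 1) := by simp [α']

@[reassoc]
lemma fromOpcycles_α' : K.fromOpcycles k (k + 1) ≫ s.α' E = s.m ≫ s.r E := by
  simp [α', r, pushout.condition_assoc]

@[reassoc]
lemma d_α' : K.d k (k + 1) ≫ s.α' E = s.α ≫ s.q ≫ s.r E := by
  rw [← K.p_fromOpcycles k (k + 1), Category.assoc, fromOpcycles_α', s.comm_assoc]

@[reassoc]
lemma d_α'_π : K.d k (k + 1) ≫ s.α' E ≫ cokernel.π (s.r E) = 0 := by
  rw [d_α'_assoc]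
  simp

/-- The next map `m`. -/
noncomputable def m' : K.opcycles (k + 1) ⟶ cokernel (s.r E) :=
  K.descOpcycles (s.α' E ≫ cokernel.π (s.r E)) k (by simp) (s.d_α'_π E)

@[reassoc (attr := simp)]
lemma p_m' : K.pOpcycles (k + 1) ≫ s.m' E = s.α' E ≫ cokernel.π (s.r E) := by
  simp [m']

omit s in
lemma fromOpcycles_pOpcycles : K.fromOpcycles k (k + 1) ≫ K.pOpcycles (k + 1) = 0 := by
  rw [← cancel_epi (K.pOpcycles k)]
  simp

/-- Lifting property coming from the pullback square. -/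
lemma exists_lift {T : A} (w : T ⟶ s.W) (x : T ⟶ K.X (k + 1)) (h : x ≫ s.α' E = w ≫ s.r E) :
    ∃ t : T ⟶ K.opcycles k, t ≫ s.m = w ∧ t ≫ K.fromOpcycles k (k + 1) = x := by
  have h2 : w ≫ pushout.inl s.m (K.fromOpcycles k (k + 1)) =
      x ≫ pushout.inr s.m (K.fromOpcycles k (k + 1)) := by
    rw [← cancel_mono (s.emb E)]
    simpa [α', r] using h.symm
  exact s.isPullback.exists_lift w x h2

lemma exact_r : (ShortComplex.mk _ _ (cokernel.condition (s.r E))).Exact :=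
  ShortComplex.exact_of_g_is_cokernel _ (cokernelIsCokernel _)

instance mono_m' : Mono (s.m' E) := by
  rw [Preadditive.mono_iff_cancel_zero]
  intro T z hz
  obtain ⟨T₁, π₁, _, x, hx⟩ := surjective_up_to_refinements_of_epi (K.pOpcycles (k + 1)) z
  have h1 : (x ≫ s.α' E) ≫ cokernel.π (s.r E) = 0 := by
    have := hx =≫ s.m' E
    rw [Category.assoc, hz, comp_zero, Category.assoc, p_m'] at this
    rw [Category.assoc, ← this]
  obtain ⟨T₂, π₂, _, w, hw⟩ := (s.exact_r E).exact_up_to_refinements (x ≫ s.α' E) h1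
  dsimp at w hw
  obtain ⟨t, ht₁, ht₂⟩ := s.exists_lift E w (π₂ ≫ x) (by rw [Category.assoc, hw])
  have h3 : π₂ ≫ π₁ ≫ z = 0 := by
    rw [hx, ← Category.assoc, ← ht₂, Category.assoc, fromOpcycles_pOpcycles, comp_zero]
  rw [← cancel_epi π₁, ← cancel_epi π₂, h3, comp_zero, comp_zero]

lemma r_fst_d : s.r E ≫ biprod.fst ≫ Y.d (k + 1) (k + 2) = 0 := by
  rw [r_fst_assoc, y_d]

/-- The next stage. -/
noncomputable def next : Stage I f (k + 1) where
  L := s.Lnext E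
  α := s.α' E
  W := cokernel (s.r E)
  q := cokernel.π _
  m := s.m' E
  comm := (s.p_m' E).symm
  hm := inferInstance
  hq := inferInstance
  hα := inferInstance
  J := E.obj s.P
  hJ := E.mem _
  iso := Iso.refl _
  hpr := by simp
  y := cokernel.desc (s.r E) (biprod.fst ≫ Y.d (k + 1) (k + 2)) (s.r_fst_d E)
  hy := by simp

/-- The map `r`, with target the `L` of the next stage. -/
noncomputable def r' : s.W ⟶ (s.next E).L := s.r E

@[reassoc (attr := simp)]
lemma r'_q : s.r' E ≫ (s.next E).q = 0 := cokernel.condition (s.r E)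

@[reassoc (attr := simp)]
lemma r'_pr : s.r' E ≫ (s.next E).pr = s.y := by
  show s.r E ≫ ((Iso.refl _).hom ≫ biprod.fst) = s.y
  rw [Iso.refl_hom, Category.id_comp, r_fst]

lemma exact_r' : (ShortComplex.mk _ _ (s.r'_q E)).Exact := s.exact_r E

@[reassoc]
lemma next_d_α : K.d k (k + 1) ≫ (s.next E).α = s.α ≫ s.q ≫ s.r' E := s.d_α' E

lemma exists_lift' {T : A} (w : T ⟶ s.W) (x : T ⟶ K.X (k + 1))
    (h : x ≫ (s.next E).α = w ≫ s.r' E) :
    ∃ t : T ⟶ K.opcycles k, t ≫ s.m = w ∧ t ≫ K.fromOpcycles k (k + 1) = x :=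
  s.exists_lift E w x h

lemma mono_chase {T : A} (x₂ : T ⟶ K.X (k + 1)) (y₁ : T ⟶ s.L)
    (h : x₂ ≫ (s.next E).α = y₁ ≫ s.q ≫ s.r' E) :
    ∃ (T' : A) (π : T' ⟶ T) (_ : Epi π) (x₁ : T' ⟶ K.X k), π ≫ x₂ = x₁ ≫ K.d k (k + 1) := by
  obtain ⟨t, ht₁, ht₂⟩ := s.exists_lift' E (y₁ ≫ s.q) x₂ (by rw [h, Category.assoc])
  obtain ⟨T₁, π₁, _, x₁, hx₁⟩ := surjective_up_to_refinements_of_epi (K.pOpcycles k) t
  refine ⟨T₁, π₁, inferInstance, x₁, ?_⟩
  rw [← ht₂, reassoc_of% hx₁, K.p_fromOpcycles]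

lemma epi_chase {T : A} (y₂ : T ⟶ (s.next E).L)
    (h : y₂ ≫ (s.next E).q ≫ (s.next E).r' E = 0) :
    ∃ (T' : A) (π : T' ⟶ T) (_ : Epi π) (x₂ : T' ⟶ K.X (k + 1))
      (_ : x₂ ≫ K.d (k + 1) (k + 2) = 0) (y₁ : T' ⟶ s.L),
      π ≫ y₂ = x₂ ≫ (s.next E).α + y₁ ≫ s.q ≫ s.r' E := by
  obtain ⟨t, ht₁, ht₂⟩ := (s.next E).exists_lift' E (y₂ ≫ (s.next E).q) 0
    (by rw [zero_comp, Category.assoc, h])
  obtain ⟨T₁, π₁, _, x, hx⟩ := surjective_up_to_refinements_of_epi (K.pOpcycles (k + 1)) t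
  have hxd : x ≫ K.d (k + 1) (k + 2) = 0 := by
    rw [← K.p_fromOpcycles (k + 1) (k + 2), ← reassoc_of% hx, ht₂, comp_zero]
  have h1 : (π₁ ≫ y₂ - x ≫ (s.next E).α) ≫ (s.next E).q = 0 := by
    rw [Preadditive.sub_comp, Category.assoc, Category.assoc, (s.next E).comm, ← reassoc_of% hx,
      ← ht₁, sub_self]
  obtain ⟨T₂, π₂, _, w, hw⟩ := (s.exact_r' E).exact_up_to_refinements _ h1
  dsimp at w hw
  obtain ⟨T₃, π₃, _, y₁, hy₁⟩ := surjective_up_to_refinements_of_epi s.q w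
  refine ⟨T₃, π₃ ≫ π₂ ≫ π₁, inferInstance, π₃ ≫ π₂ ≫ x, ?_, y₁, ?_⟩
  · rw [Category.assoc, Category.assoc, hxd, comp_zero, comp_zero]
  · rw [← reassoc_of% hy₁, ← hw]
    simp only [Preadditive.comp_sub, Category.assoc]
    abel

end Stage

section Construction

variable (s₀ : Stage I f 0)

/-- The sequence of stages. -/
noncomputable def stage : ∀ k : ℕ, Stage I f k
  | 0 => s₀
  | k + 1 => (stage k).next E

/-- The objects of the resolution. -/
noncomputable def obj (k : ℕ) : A := (stage E f s₀ k).L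

/-- The differential of the resolution. -/
noncomputable def d (k : ℕ) : obj E f s₀ k ⟶ obj E f s₀ (k + 1) :=
  (stage E f s₀ k).q ≫ (stage E f s₀ k).r' E

lemma d_comp_d (k : ℕ) : d E f s₀ k ≫ d E f s₀ (k + 1) = 0 := by
  have h : ((stage E f s₀ k).q ≫ (stage E f s₀ k).r' E) ≫
    (((stage E f s₀ k).next E).q ≫ ((stage E f s₀ k).next E).r' E) = 0 := by
    rw [Category.assoc, Stage.r'_q_assoc, zero_comp, comp_zero]
  exact h

/-- The resolution, as a cochain complex indexed by `ℕ`. -/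
noncomputable def cx : CochainComplex A ℕ :=
  CochainComplex.of (obj E f s₀) (d E f s₀) (d_comp_d E f s₀)

lemma cx_d (k : ℕ) : (cx E f s₀).d k (k + 1) = d E f s₀ k :=
  CochainComplex.of_d _ _ _

/-- The morphism to the resolution. -/
noncomputable def hom : K ⟶ cx E f s₀ :=
  CochainComplex.ofHom (fun k ↦ (stage E f s₀ k).α) (fun k ↦ by
    rw [cx_d]
    exact ((stage E f s₀ k).next_d_α E).symm)

lemma hom_f (k : ℕ) : (hom E f s₀).f k = (stage E f s₀ k).α := rfl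

instance (k : ℕ) : Mono ((hom E f s₀).f k) := (stage E f s₀ k).hα

/-- The projection of the resolution to `Y`. -/
noncomputable def proj : cx E f s₀ ⟶ Y where
  f k := (stage E f s₀ k).pr
  comm' := by
    rintro k _ rfl
    rw [cx_d]
    have h : ((stage E f s₀ k).q ≫ (stage E f s₀ k).r' E) ≫ ((stage E f s₀ k).next E).pr =
        (stage E f s₀ k).pr ≫ Y.d k (k + 1) := by
      rw [Category.assoc, Stage.r'_pr, (stage E f s₀ k).hy]
    exact h.symm

lemma proj_f (k : ℕ) : (proj E f s₀).f k = (stage E f s₀ k).pr := rfl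

@[reassoc (attr := simp)]
lemma hom_proj : hom E f s₀ ≫ proj E f s₀ = f := by
  ext k
  rw [HomologicalComplex.comp_f, hom_f, proj_f]
  exact (stage E f s₀ k).hpr

lemma mono_homologyMap_succ (k : ℕ) :
    Mono (HomologicalComplex.homologyMap (hom E f s₀) (k + 1)) := by
  rw [HomologicalComplex.mono_homologyMap_iff_up_to_refinements _ k (k + 1) (k + 2)
    (by simp) (by simp)]
  intro T x₂ hx₂ y₁ hy₁
  rw [cx_d, hom_f] at hy₁
  exact (stage E f s₀ k).mono_chase E x₂ y₁ hy₁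

lemma epi_homologyMap_succ (k : ℕ) :
    Epi (HomologicalComplex.homologyMap (hom E f s₀) (k + 1)) := by
  rw [HomologicalComplex.epi_homologyMap_iff_up_to_refinements _ k (k + 1) (k + 2)
    (by simp) (by simp)]
  intro T y₂ hy₂
  rw [cx_d] at hy₂
  have := (stage E f s₀ k).epi_chase E y₂ hy₂
  rw [cx_d, hom_f]
  exact this

lemma quasiIsoAt_succ (k : ℕ) : QuasiIsoAt (hom E f s₀) (k + 1) := by
  rw [quasiIsoAt_iff_isIso_homologyMap]
  have := mono_homologyMap_succ E f s₀ k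
  have := epi_homologyMap_succ E f s₀ k
  exact isIso_of_mono_of_epi _

end Construction

section Nat

open HomologicalComplex

lemma isZero_biprod {X₁ X₂ : A} (h₁ : IsZero X₁) (h₂ : IsZero X₂) : IsZero (X₁ ⊞ X₂) := by
  rw [IsZero.iff_id_eq_zero]
  apply biprod.hom_ext
  · exact h₁.eq_of_tgt _ _
  · exact h₂.eq_of_tgt _ _

/-- The initial stage, when `K.X 0` and `Y.X 0` are zero. -/
noncomputable def stage₀ {Z : A} (hZ : IsZero Z) (hIZ : I Z) (hK : IsZero (K.X 0))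
    (hY : IsZero (Y.X 0)) : Stage I f 0 where
  L := Z
  α := 0
  W := Z
  q := 𝟙 Z
  m := 0
  comm := hK.eq_of_src _ _
  hm := (IsZero.of_epi (K.pOpcycles 0) hK).mono _
  hq := inferInstance
  hα := hK.mono _
  J := Z
  hJ := hIZ
  iso := hZ.iso (isZero_biprod hY hZ)
  hpr := hK.eq_of_src _ _
  y := 0
  hy := hZ.eq_of_src _ _

include E in
/-- The `ℕ`-indexed version of the relative resolution theorem. -/
theorem exists_nat_rel {Z : A} (hZ : IsZero Z) (hIZ : I Z) (hK : IsZero (K.X 0))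
    (hY : IsZero (Y.X 0)) :
    ∃ (L : CochainComplex A ℕ) (α : K ⟶ L) (q : L ⟶ Y), IsZero (L.X 0) ∧
      (∀ k, Mono (α.f k)) ∧ QuasiIso α ∧ α ≫ q = f ∧
      ∀ k, ∃ (J : A) (iso : L.X k ≅ Y.X k ⊞ J), I J ∧ q.f k = iso.hom ≫ biprod.fst := by
  let s₀ := stage₀ f hZ hIZ hK hY
  refine ⟨cx E f s₀, hom E f s₀, proj E f s₀, hZ, fun k ↦ inferInstance, ?_, hom_proj E f s₀,
    fun k ↦ ⟨(stage E f s₀ k).J, (stage E f s₀ k).iso, (stage E f s₀ k).hJ, rfl⟩⟩
  rw [quasiIso_iff]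
  rintro (_ | k)
  · rw [quasiIsoAt_iff_exactAt _ _ (ShortComplex.exact_of_isZero_X₂ _ hK)]
    exact ShortComplex.exact_of_isZero_X₂ _ hZ
  · exact quasiIsoAt_succ E f s₀ k

end Nat

section Int

open HomologicalComplex

/-- A morphism which is a projection `B ⊞ J ⟶ B` up to isomorphisms is a split epimorphism,
with kernel isomorphic to `J`. -/
lemma split_of_eq {L B B' J : A} (g : L ⟶ B') (u : L ≅ B ⊞ J) (w : B ≅ B')
    (hg : g = u.hom ≫ biprod.fst ≫ w.hom) :
    (∃ s : B' ⟶ L, s ≫ g = 𝟙 _) ∧ Nonempty (kernel g ≅ J) := by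
  refine ⟨⟨w.inv ≫ biprod.inl ≫ u.inv, by simp [hg]⟩, ⟨?_⟩⟩
  have h0 : kernel.ι g ≫ u.hom ≫ biprod.fst = 0 := by
    rw [← cancel_mono w.hom, zero_comp, Category.assoc, Category.assoc, ← hg, kernel.condition]
  refine ⟨kernel.ι g ≫ u.hom ≫ biprod.snd, kernel.lift g (biprod.inr ≫ u.inv) (by simp [hg]),
    ?_, by simp⟩
  rw [← cancel_mono (kernel.ι g)]
  simp only [Category.assoc, kernel.lift_ι, Category.id_comp]
  rw [← cancel_mono u.hom]
  simp only [Category.assoc, Iso.inv_hom_id, Category.comp_id]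
  apply biprod.hom_ext
  · simp [h0]
  · simp

/-- **Relative right resolutions in a class of objects**. -/
theorem exists_rel_resolution (I : ObjectProperty A) [I.IsClosedUnderIsomorphisms]
    (hI0 : ∃ Z : A, IsZero Z ∧ I Z) (hIprod : ∀ X Y : A, I X → I Y → I (X ⊞ Y))
    (hI : ∀ X : A, ∃ (Y : A) (ι : X ⟶ Y), I Y ∧ Mono ι)
    (X Y : CochainComplex A ℤ) (a : ℤ) [X.IsStrictlyGE a] [Y.IsStrictlyGE a]
    (hY : ∀ i, I (Y.X i)) (f : X ⟶ Y) :
    ∃ (Y' : CochainComplex A ℤ) (ι : X ⟶ Y') (q : Y' ⟶ Y), Y'.IsStrictlyGE a ∧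
      (∀ i, I (Y'.X i)) ∧ (∀ i, Mono (ι.f i)) ∧ QuasiIso ι ∧ ι ≫ q = f ∧
      ∀ i, (∃ s : Y.X i ⟶ Y'.X i, s ≫ q.f i = 𝟙 _) ∧ I (kernel (q.f i)) := by
  obtain ⟨Z, hZ, hIZ⟩ := hI0
  have hIzero : ∀ T : A, IsZero T → I T := fun T hT => I.prop_of_iso (hZ.iso hT) hIZ
  let E : Emb (fun T => I T) := Emb.ofExists hI
  let e := ComplexShape.embeddingUpIntGE (a - 1)
  have : X.IsStrictlyGE (a - 1) := X.isStrictlyGE_of_ge (a - 1) a (by lia)
  have : Y.IsStrictlyGE (a - 1) := Y.isStrictlyGE_of_ge (a - 1) a (by lia)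
  have hb : e.BoundaryGE 0 := (ComplexShape.boundaryGE_embeddingUpIntGE_iff (a - 1) 0).2 rfl
  have hnb : ∀ k : ℕ, k ≠ 0 → ¬ e.BoundaryGE k := fun k hk h =>
    hk ((ComplexShape.boundaryGE_embeddingUpIntGE_iff (a - 1) k).1 h)
  have he0 : e.f 0 = a - 1 := by
    show (ComplexShape.embeddingUpIntGE (a - 1)).f 0 = a - 1
    simp
  have hX0 : IsZero ((X.truncGE' e).X 0) :=
    IsZero.of_iso (IsZero.of_epi (X.pOpcycles (a - 1)) (X.isZero_of_isStrictlyGE a (a - 1)))
      (X.truncGE'XIsoOpcycles e he0 hb)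
  have hY0 : IsZero ((Y.truncGE' e).X 0) :=
    IsZero.of_iso (IsZero.of_epi (Y.pOpcycles (a - 1)) (Y.isZero_of_isStrictlyGE a (a - 1)))
      (Y.truncGE'XIsoOpcycles e he0 hb)
  have hYn : ∀ k : ℕ, I ((Y.truncGE' e).X k) := by
    intro k
    by_cases hk : k = 0
    · subst hk
      exact hIzero _ hY0
    · exact I.prop_of_iso (Y.truncGE'XIso e rfl (hnb k hk)).symm (hY _)
  obtain ⟨Ln, αn, qn, hL0, hmono, hqi, hfac, hsplit⟩ :=
    exists_nat_rel E (truncGE'Map f e) hZ hIZ hX0 hY0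
  let φ : (X.truncGE' e).extend e ⟶ Ln.extend e := extendMap αn e
  let ψ : Ln.extend e ⟶ (Y.truncGE' e).extend e := extendMap qn e
  let πX : X ⟶ (X.truncGE' e).extend e := HomologicalComplex.πTruncGE X e
  let πY : Y ⟶ (Y.truncGE' e).extend e := HomologicalComplex.πTruncGE Y e
  have hφ : QuasiIso φ := (quasiIso_extendMap_iff αn e).2 hqi
  have hπX : IsIso πX :=
    (HomologicalComplex.isIso_πTruncGE_iff X e).2 inferInstance
  have hπY : IsIso πY :=
    (HomologicalComplex.isIso_πTruncGE_iff Y e).2 inferInstance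
  have hφmono : ∀ n, Mono (φ.f n) := by
    intro n
    by_cases hn : ∃ k, e.f k = n
    · obtain ⟨k, hk⟩ := hn
      dsimp only [φ]
      rw [extendMap_f αn e hk]
      have := hmono k
      have h1 : Mono (αn.f k ≫ (extendXIso Ln e hk).inv) := mono_comp _ _
      have h2 : IsIso (extendXIso (truncGE' X e) e hk).hom := Iso.isIso_hom _
      have h3 : Mono (extendXIso (truncGE' X e) e hk).hom := IsIso.mono_of_iso _
      exact @mono_comp _ _ _ _ _ _ h3 _ h1
    · exact (isZero_extend_X _ _ _ (by simpa using hn)).mono _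
  have hφψ : φ ≫ ψ = extendMap (truncGE'Map f e) e := by
    dsimp only [φ, ψ]
    rw [← extendMap_comp, hfac]
  have hnat : πX ≫ extendMap (truncGE'Map f e) e = f ≫ πY :=
    HomologicalComplex.πTruncGE_naturality f e
  have hzeroL : ∀ i : ℤ, i < a → IsZero ((Ln.extend e).X i) := by
    intro i hi
    by_cases h : i = a - 1
    · subst h
      exact IsZero.of_iso hL0 (Ln.extendXIso e he0)
    · apply isZero_extend_X
      exact (ComplexShape.notMem_range_embeddingUpIntGE_iff (a - 1) i).2 (by lia)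
  refine ⟨Ln.extend e, πX ≫ φ, ψ ≫ inv πY, ?_, ?_, ?_, ?_, ?_, ?_⟩
  · rw [CochainComplex.isStrictlyGE_iff]
    intro i hi
    exact hzeroL i hi
  · intro i
    by_cases hn : ∃ k, e.f k = i
    · obtain ⟨k, hk⟩ := hn
      obtain ⟨J, iso, hJ, -⟩ := hsplit k
      exact I.prop_of_iso ((Ln.extendXIso e hk) ≪≫ iso).symm (hIprod _ _ (hYn k) hJ)
    · exact hIzero _ (isZero_extend_X _ _ _ (by simpa using hn))
  · intro n
    have : IsIso (πX.f n) := inferInstance
    have := hφmono n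
    rw [HomologicalComplex.comp_f]
    infer_instance
  · infer_instance
  · rw [Category.assoc, reassoc_of% hφψ, ← Category.assoc, IsIso.comp_inv_eq]
    exact hnat
  · intro i
    by_cases hi : i < a
    · have hz : IsZero (Y.X i) := Y.isZero_of_isStrictlyGE a i hi
      refine ⟨⟨0, hz.eq_of_src _ _⟩, hIzero _ ?_⟩
      exact IsZero.of_mono (kernel.ι _) (hzeroL i hi)
    · obtain ⟨k, hk⟩ : ∃ k : ℕ, e.f k = i := by
        obtain ⟨k, hk⟩ := Int.le.dest (show a - 1 ≤ i by lia)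
        exact ⟨k, by simpa [e] using hk⟩
      have hk0 : k ≠ 0 := by
        rintro rfl
        rw [he0] at hk
        lia
      obtain ⟨J, iso, hJ, hq⟩ := hsplit k
      have hp : IsIso (πY.f i) := inferInstance
      have hinv : (inv πY).f i = inv (πY.f i) := by
        rw [← cancel_epi (πY.f i), IsIso.hom_inv_id,
          ← HomologicalComplex.comp_f, IsIso.hom_inv_id, HomologicalComplex.id_f]
      let w : (Y.truncGE' e).X k ≅ Y.X i :=
        ((Y.truncGE' e).extendXIso e hk).symm ≪≫ (asIso (πY.f i)).symm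
      have h1 : ψ.f i = (extendXIso Ln e hk).hom ≫ (iso.hom ≫ biprod.fst) ≫
          ((Y.truncGE' e).extendXIso e hk).inv := by
        dsimp only [ψ]
        rw [extendMap_f qn e hk, hq]
      have key : (ψ ≫ inv πY).f i =
          ((Ln.extendXIso e hk) ≪≫ iso).hom ≫ biprod.fst ≫ w.hom := by
        rw [HomologicalComplex.comp_f, hinv, h1]
        simp [w]
      obtain ⟨hs, ⟨hker⟩⟩ := split_of_eq _ _ _ key
      exact ⟨hs, I.prop_of_iso hker.symm hJ⟩

end Int

section Tower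

variable (I : ObjectProperty A) (K : CochainComplex A ℤ)

/-- A level of the tower of resolutions of the truncations of `K`. -/
structure Level (n : ℕ) where
  Q : CochainComplex A ℤ
  π : K.truncGE (-(n : ℤ)) ⟶ Q
  qi : QuasiIso π
  mono : ∀ i, Mono (π.f i)
  ge : Q.IsStrictlyGE (-(n : ℤ))
  mem : ∀ i, I (Q.X i)

variable {I K} [I.IsClosedUnderIsomorphisms]
  (hI0 : ∃ Z : A, IsZero Z ∧ I Z) (hIprod : ∀ X Y : A, I X → I Y → I (X ⊞ Y))
  (hI : ∀ X : A, ∃ (Y : A) (ι : X ⟶ Y), I Y ∧ Mono ι)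

omit [I.IsClosedUnderIsomorphisms] in
include hI0 hI in
lemma exists_level_zero : Nonempty (Level I K 0) := by
  obtain ⟨L, α, hL, hmem, hmono, hqi⟩ :=
    exists_resolution (fun T => I T) hI0 hI (K.truncGE (-((0 : ℕ) : ℤ))) (-((0 : ℕ) : ℤ))
  exact ⟨⟨L, α, hqi, hmono, hL, hmem⟩⟩

include hI0 hIprod hI in
lemma exists_level_succ (n : ℕ) (l : Level I K n) :
    ∃ (l' : Level I K (n + 1)) (p : l'.Q ⟶ l.Q),
      (∀ i, (∃ s : l.Q.X i ⟶ l'.Q.X i, s ≫ p.f i = 𝟙 _) ∧ I (kernel (p.f i))) ∧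
      K.πTruncGE (-((n + 1 : ℕ) : ℤ)) ≫ l'.π ≫ p = K.πTruncGE (-(n : ℤ)) ≫ l.π := by
  have := l.ge
  have hge : l.Q.IsStrictlyGE (-((n + 1 : ℕ) : ℤ)) :=
    l.Q.isStrictlyGE_of_ge (-((n + 1 : ℕ) : ℤ)) (-(n : ℤ)) (by push_cast; lia)
  let g : K ⟶ l.Q := K.πTruncGE (-(n : ℤ)) ≫ l.π
  let f : K.truncGE (-((n + 1 : ℕ) : ℤ)) ⟶ l.Q :=
    CochainComplex.truncGEMap g (-((n + 1 : ℕ) : ℤ)) ≫ inv (l.Q.πTruncGE (-((n + 1 : ℕ) : ℤ)))
  have hf : K.πTruncGE (-((n + 1 : ℕ) : ℤ)) ≫ f = g := by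
    dsimp only [f]
    rw [← Category.assoc, CochainComplex.πTruncGE_naturality, Category.assoc, IsIso.hom_inv_id,
      Category.comp_id]
  obtain ⟨Y', ι, q, hY', hmem, hmono, hqi, hfac, hsplit⟩ :=
    exists_rel_resolution I hI0 hIprod hI (K.truncGE (-((n + 1 : ℕ) : ℤ))) l.Q
      (-((n + 1 : ℕ) : ℤ)) l.mem f
  refine ⟨⟨Y', ι, hqi, hmono, hY', hmem⟩, q, hsplit, ?_⟩
  show K.πTruncGE (-((n + 1 : ℕ) : ℤ)) ≫ ι ≫ q = g
  rw [hfac, hf]

variable (K) in
/-- The chosen levels. -/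
noncomputable def level : ∀ n : ℕ, Level I K n
  | 0 => (exists_level_zero hI0 hI).some
  | n + 1 => (exists_level_succ hI0 hIprod hI n (level n)).choose

variable (K) in
/-- The transition maps. -/
noncomputable def trans (n : ℕ) :
    (level K hI0 hIprod hI (n + 1)).Q ⟶ (level K hI0 hIprod hI n).Q :=
  (exists_level_succ hI0 hIprod hI n (level K hI0 hIprod hI n)).choose_spec.choose

variable (K) in
lemma trans_spec (n : ℕ) :
    (∀ i, (∃ s : (level K hI0 hIprod hI n).Q.X i ⟶ (level K hI0 hIprod hI (n + 1)).Q.X i,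
      s ≫ (trans K hI0 hIprod hI n).f i = 𝟙 _) ∧
        I (kernel ((trans K hI0 hIprod hI n).f i))) ∧
    K.πTruncGE (-((n + 1 : ℕ) : ℤ)) ≫ (level K hI0 hIprod hI (n + 1)).π ≫
        trans K hI0 hIprod hI n =
      K.πTruncGE (-(n : ℤ)) ≫ (level K hI0 hIprod hI n).π :=
  (exists_level_succ hI0 hIprod hI n (level K hI0 hIprod hI n)).choose_spec.choose_spec

include hI0 hIprod hI in
/-- The special inverse system of right resolutions. -/
theorem exists_tower (K : CochainComplex A ℤ) :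
    ∃ (Q : ℕ → CochainComplex A ℤ) (p : ∀ n, Q (n + 1) ⟶ Q n)
      (π : ∀ n : ℕ, K.truncGE (-(n : ℤ)) ⟶ Q n),
      (∀ n, QuasiIso (π n) ∧ ∀ i, Mono ((π n).f i)) ∧
      (∀ n, ∃ a : ℤ, (Q n).IsStrictlyGE a) ∧ (∀ n i, I ((Q n).X i)) ∧
      (∀ n i, (∃ s : (Q n).X i ⟶ (Q (n + 1)).X i, s ≫ (p n).f i = 𝟙 _) ∧
        I (kernel ((p n).f i))) ∧
      (∀ n : ℕ, K.πTruncGE (-((n + 1 : ℕ) : ℤ)) ≫ π (n + 1) ≫ p n =
        K.πTruncGE (-(n : ℤ)) ≫ π n) :=
  ⟨fun n => (level K hI0 hIprod hI n).Q, trans K hI0 hIprod hI,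
    fun n => (level K hI0 hIprod hI n).π,
    fun n => ⟨(level K hI0 hIprod hI n).qi, (level K hI0 hIprod hI n).mono⟩,
    fun n => ⟨_, (level K hI0 hIprod hI n).ge⟩,
    fun n => (level K hI0 hIprod hI n).mem,
    fun n => (trans_spec K hI0 hIprod hI n).1,
    fun n => (trans_spec K hI0 hIprod hI n).2⟩

end Tower

end Groth.Agent.H33.IResRel
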