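import Mathlib

/-!
# Splitting of idempotents and extensions in pretriangulated categories
-/

set_option autoImplicit false
universe v u
open CategoryTheory CategoryTheory.Limits CategoryTheory.Pretriangulated

namespace Groth.Agent.H33.IdemExt

section ring

variable {R : Type*} [Ring R]

lemma ring_aux (e f : R) (he : e * e = e) (hf : f * f = f) (hd : (e - f) * (e - f) = 0) :
    (e * f + (1 - e) * (1 - f)) * (f * e + (1 - f) * (1 - e)) = 1 := by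
  have h : (e * f + (1 - e) * (1 - f)) * (f * e + (1 - f) * (1 - e)) =
      1 - (e - f) * (e - f) + 2 * (e * e - e) + (f * f - f) + e * (f * f - f) * e
        - e * (f * f - f) * (1 - e) - (1 - e) * (f * f - f) * e
        + (1 - e) * (f * f - f) * (1 - e) := by
    noncomm_ring
  rw [h, hd, he, hf]
  simp

lemma ring_aux' (e f : R) (he : e * e = e) (hf : f * f = f) (hd : (e - f) * (e - f) = 0) :
    (f * e + (1 - f) * (1 - e)) * (e * f + (1 - e) * (1 - f)) = 1 := by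
  apply ring_aux f e hf he
  have : (f - e) * (f - e) = (e - f) * (e - f) := by noncomm_ring
  rw [this, hd]

lemma ring_aux₂ (e f : R) (he : e * e = e) :
    e * (e * f + (1 - e) * (1 - f)) = e * f := by
  have : e * (e * f + (1 - e) * (1 - f)) = e * e * f + (e - e * e) * (1 - f) := by noncomm_ring
  rw [this, he]; simp

lemma ring_aux₃ (e f : R) (hf : f * f = f) :
    (e * f + (1 - e) * (1 - f)) * f = e * f := by
  have : (e * f + (1 - e) * (1 - f)) * f = e * (f * f) + (1 - e) * (f - f * f) := by noncomm_ring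
  rw [this, hf]; simp

end ring

variable {C : Type u} [Category.{v} C] [Preadditive C]

/-- An endomorphism splits (as an idempotent). -/
def Splits {X : C} (e : X ⟶ X) : Prop :=
  ∃ (Y : C) (i : Y ⟶ X) (r : X ⟶ Y), i ≫ r = 𝟙 Y ∧ r ≫ i = e

/-- If `e` and `f` are idempotents with `(e - f)² = 0` and `f` splits, then `e` splits. -/
lemma splits_of_sq_zero {X : C} (e f : X ⟶ X) (he : e ≫ e = e) (hf : f ≫ f = f)
    (hd : (e - f) ≫ (e - f) = 0) (hs : Splits f) : Splits e := by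
  obtain ⟨Y, i, r, hir, hri⟩ := hs
  -- work in the ring `End X`, where `x * y = y ≫ x`
  let E : End X := e
  let F : End X := f
  have hE : E * E = E := he
  have hF : F * F = F := hf
  have hD : (E - F) * (E - F) = 0 := hd
  let U : End X := E * F + (1 - E) * (1 - F)
  let U' : End X := F * E + (1 - F) * (1 - E)
  have h1 : U * U' = 1 := ring_aux E F hE hF hD
  have h2 : U' * U = 1 := ring_aux' E F hE hF hD
  have h3 : E * U = U * F := by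
    rw [ring_aux₂ E F hE, ring_aux₃ E F hF]
  -- translate back: `x * y = y ≫ x`
  have h1' : (U' : X ⟶ X) ≫ (U : X ⟶ X) = 𝟙 X := h1
  have h2' : (U : X ⟶ X) ≫ (U' : X ⟶ X) = 𝟙 X := h2
  have h3' : (U : X ⟶ X) ≫ e = f ≫ (U : X ⟶ X) := h3
  refine ⟨Y, i ≫ (U : X ⟶ X), (U' : X ⟶ X) ≫ r, ?_, ?_⟩
  · rw [Category.assoc, reassoc_of% h2', hir]
  · have : e = (U' : X ⟶ X) ≫ f ≫ (U : X ⟶ X) := by
      rw [← h3', reassoc_of% h1']
    rw [this, ← hri]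
    simp only [Category.assoc]

variable [HasZeroObject C] [HasShift C ℤ] [∀ n : ℤ, (shiftFunctor C n).Additive] [Pretriangulated C]

/-- Extension lemma: if an idempotent endomorphism of a distinguished triangle splits on the
first and third objects, it splits on the middle one. -/
theorem splits_of_triangle (T : Triangle C) (hT : T ∈ distTriang C)
    (e₁ : T.obj₁ ⟶ T.obj₁) (e₂ : T.obj₂ ⟶ T.obj₂) (e₃ : T.obj₃ ⟶ T.obj₃)
    (he₂ : e₂ ≫ e₂ = e₂)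
    (c₁ : T.mor₁ ≫ e₂ = e₁ ≫ T.mor₁) (c₂ : T.mor₂ ≫ e₃ = e₂ ≫ T.mor₂)
    (c₃ : T.mor₃ ≫ e₁⟦(1 : ℤ)⟧' = e₃ ≫ T.mor₃)
    (h₁ : Splits e₁) (h₃ : Splits e₃) : Splits e₂ := by
  obtain ⟨Y₁, i₁, r₁, hir₁, hri₁⟩ := h₁
  obtain ⟨Y₃, i₃, r₃, hir₃, hri₃⟩ := h₃
  obtain ⟨Y, a, b, hTY⟩ := distinguished_cocone_triangle₂ (i₃ ≫ T.mor₃ ≫ r₁⟦(1 : ℤ)⟧')
  have comm : (i₃ ≫ T.mor₃ ≫ r₁⟦(1 : ℤ)⟧') ≫ i₁⟦(1 : ℤ)⟧' = i₃ ≫ T.mor₃ := by
    simp only [Category.assoc, ← Functor.map_comp, hri₁]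
    rw [c₃, ← hri₃, Category.assoc, reassoc_of% hir₃]
  have comm' : T.mor₃ ≫ r₁⟦(1 : ℤ)⟧' = r₃ ≫ i₃ ≫ T.mor₃ ≫ r₁⟦(1 : ℤ)⟧' := by
    rw [reassoc_of% hri₃, ← reassoc_of% c₃, ← Functor.map_comp, ← hri₁, Category.assoc, hir₁,
      Category.comp_id]
  obtain ⟨φ, hφ₁, hφ₂⟩ : ∃ φ : Y ⟶ T.obj₂, a ≫ φ = i₁ ≫ T.mor₁ ∧ b ≫ i₃ = φ ≫ T.mor₂ :=
    complete_distinguished_triangle_morphism₂ _ T hTY hT i₁ i₃ comm
  obtain ⟨ψ, hψ₁, hψ₂⟩ : ∃ ψ : T.obj₂ ⟶ Y, T.mor₁ ≫ ψ = r₁ ≫ a ∧ T.mor₂ ≫ r₃ = ψ ≫ b :=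
    complete_distinguished_triangle_morphism₂ T _ hT hTY r₁ r₃ comm'
  have hθ₁ : a ≫ φ ≫ ψ = a := by
    rw [reassoc_of% hφ₁, hψ₁, reassoc_of% hir₁]
  have hθ₂ : (φ ≫ ψ) ≫ b = b := by
    rw [Category.assoc, ← hψ₂, ← reassoc_of% hφ₂, hir₃, Category.comp_id]
  have : IsIso (φ ≫ ψ) := by
    let Φ : Triangle.mk a b (i₃ ≫ T.mor₃ ≫ r₁⟦(1 : ℤ)⟧') ⟶
        Triangle.mk a b (i₃ ≫ T.mor₃ ≫ r₁⟦(1 : ℤ)⟧') :=
      Triangle.homMk _ _ (𝟙 _) (φ ≫ ψ) (𝟙 _)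
        (by show a ≫ φ ≫ ψ = 𝟙 Y₁ ≫ a; rw [Category.id_comp]; exact hθ₁)
        (by show b ≫ 𝟙 Y₃ = (φ ≫ ψ) ≫ b; rw [Category.comp_id]; exact hθ₂.symm)
        (by
          show (i₃ ≫ T.mor₃ ≫ r₁⟦(1 : ℤ)⟧') ≫ (𝟙 Y₁)⟦(1 : ℤ)⟧' =
            𝟙 Y₃ ≫ (i₃ ≫ T.mor₃ ≫ r₁⟦(1 : ℤ)⟧')
          rw [CategoryTheory.Functor.map_id, Category.id_comp, Category.comp_id])
    exact isIso₂_of_isIso₁₃ Φ hTY hTY (show IsIso (𝟙 Y₁) from inferInstance)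
      (show IsIso (𝟙 Y₃) from inferInstance)
  have hθ₁' : a ≫ inv (φ ≫ ψ) = a := by
    rw [← cancel_mono (φ ≫ ψ), Category.assoc, IsIso.inv_hom_id, Category.comp_id, hθ₁]
  have hθ₂' : inv (φ ≫ ψ) ≫ b = b := by
    rw [← cancel_epi (φ ≫ ψ), IsIso.hom_inv_id_assoc, hθ₂]
  let f : T.obj₂ ⟶ T.obj₂ := ψ ≫ inv (φ ≫ ψ) ≫ φ
  have hfs : Splits f := ⟨Y, φ, ψ ≫ inv (φ ≫ ψ), by
    rw [← Category.assoc, IsIso.hom_inv_id], by simp [f]⟩
  have hf : f ≫ f = f := by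
    dsimp [f]
    simp only [Category.assoc]
    rw [← Category.assoc φ ψ, IsIso.hom_inv_id_assoc]
  have hd₁ : T.mor₁ ≫ (e₂ - f) = 0 := by
    rw [Preadditive.comp_sub, c₁, sub_eq_zero]
    dsimp [f]
    rw [reassoc_of% hψ₁, reassoc_of% hθ₁', hφ₁, reassoc_of% hri₁]
  have hd₂ : (e₂ - f) ≫ T.mor₂ = 0 := by
    rw [Preadditive.sub_comp, ← c₂, sub_eq_zero]
    dsimp [f]
    simp only [Category.assoc]
    rw [← hφ₂, reassoc_of% hθ₂', ← reassoc_of% hψ₂, hri₃]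
  have hd : (e₂ - f) ≫ (e₂ - f) = 0 := by
    obtain ⟨d', hd'⟩ := Triangle.yoneda_exact₂ T hT (e₂ - f) hd₁
    have : (e₂ - f) ≫ (e₂ - f) = (e₂ - f) ≫ T.mor₂ ≫ d' := by rw [← hd']
    rw [this, reassoc_of% hd₂, zero_comp]
  exact splits_of_sq_zero e₂ f he₂ hf hd hfs

end Groth.Agent.H33.IdemExt
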