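import Mathlib
import Groth.Prelude.Def_CAlgX
import Groth.Agent.H54.Minors

set_option autoImplicit false

open Matrix Finset

namespace Groth.Agent.H33.JacMinors

universe u
variable {R : Type u} [CommRing R]

/-- The ideal generated by the `r × r` minors along injective selections. -/
def injMinors {m n : ℕ} (A : Matrix (Fin m) (Fin n) R) (r : ℕ) : Ideal R :=
  Ideal.span {d : R | ∃ (ρ : Fin r → Fin m) (γ : Fin r → Fin n), Function.Injective ρ ∧
    Function.Injective γ ∧ d = (A.submatrix ρ γ).det}

lemma injMinors_eq_minorIdeal {m n : ℕ} (A : Matrix (Fin m) (Fin n) R) (r : ℕ) :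
    injMinors A r = CAlgX.minorIdeal A r := by
  apply le_antisymm
  · apply Ideal.span_le.2
    rintro _ ⟨ρ, γ, -, -, rfl⟩
    exact Groth.Agent.H54.det_submatrix_mem_minorIdeal A r ρ γ
  · apply Ideal.span_le.2
    rintro _ ⟨⟨ρ, γ⟩, rfl⟩
    dsimp only
    by_cases hρ : Function.Injective ρ
    · by_cases hγ : Function.Injective γ
      · exact Ideal.subset_span ⟨ρ, γ, hρ, hγ, rfl⟩
      · obtain ⟨i, j, hij, hne⟩ : ∃ i j, γ i = γ j ∧ i ≠ j := by
          by_contra hcon
          push Not at hcon
          exact hγ fun i j h => hcon i j h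
        rw [Matrix.det_zero_of_column_eq hne (by intro k; simp [hij])]
        exact Submodule.zero_mem _
    · obtain ⟨i, j, hij, hne⟩ : ∃ i j, ρ i = ρ j ∧ i ≠ j := by
        by_contra hcon
        push Not at hcon
        exact hρ fun i j h => hcon i j h
      rw [Matrix.det_zero_of_row_eq hne (by ext k; simp [hij])]
      exact Submodule.zero_mem _

/-- If `B ≡ C * A` modulo `I` entrywise, the minors of `B` lie in the ideal of minors of `A` plus `I`. -/
lemma minorIdeal_le_of_congr {m n l : ℕ} (I : Ideal R) (A : Matrix (Fin m) (Fin n) R)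
    (B : Matrix (Fin l) (Fin n) R) (C : Matrix (Fin l) (Fin m) R)
    (h : ∀ s i, B s i - (C * A) s i ∈ I) (r : ℕ) :
    CAlgX.minorIdeal B r ≤ CAlgX.minorIdeal A r ⊔ I := by
  apply Ideal.span_le.2
  rintro _ ⟨⟨ρ, γ⟩, rfl⟩
  dsimp only
  have h1 : (B.submatrix ρ γ).det - ((C * A).submatrix ρ γ).det ∈ I := by
    rw [← Ideal.Quotient.eq, RingHom.map_det, RingHom.map_det]
    congr 1
    ext a b
    simp only [RingHom.mapMatrix_apply, Matrix.map_apply, submatrix_apply]
    rw [Ideal.Quotient.eq]
    exact h _ _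
  have h2 : ((C * A).submatrix ρ γ).det ∈ CAlgX.minorIdeal A r := by
    have : (C * A).submatrix ρ γ = C.submatrix ρ id * A * (1 : Matrix (Fin n) (Fin n) R).submatrix id γ := by
      ext a b
      simp [Matrix.mul_apply, Matrix.one_apply]
    rw [this]
    exact Groth.Agent.H54.det_mul_mul_mem_minorIdeal A _ _
  have : (B.submatrix ρ γ).det = ((C * A).submatrix ρ γ).det +
      ((B.submatrix ρ γ).det - ((C * A).submatrix ρ γ).det) := by ring
  rw [SetLike.mem_coe, this]
  exact Submodule.add_mem _ (Ideal.mem_sup_left h2) (Ideal.mem_sup_right h1)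

/-- One inclusion: if every `g s` lies in the ideal generated by the `f j`, the Jacobian minors of `g`
lie in the ideal generated by the Jacobian minors of `f` together with the `f j`. -/
lemma jac_le {S : Type*} [CommSemiring S] [Algebra S R] {n m l : ℕ} (D : Fin n → Derivation S R R) (f : Fin m → R) (g : Fin l → R)
    (hg : ∀ s, g s ∈ Ideal.span (Set.range f)) (r : ℕ) :
    CAlgX.minorIdeal (Matrix.of fun (j : Fin l) (i : Fin n) => D i (g j)) r ≤
      CAlgX.minorIdeal (Matrix.of fun (j : Fin m) (i : Fin n) => D i (f j)) r ⊔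
        Ideal.span (Set.range f) := by
  choose c hc using fun s => (Ideal.mem_span_range_iff_exists_fun).1 (hg s)
  refine minorIdeal_le_of_congr _ _ _ (Matrix.of fun s j => c s j) ?_ r
  intro s i
  have : (Matrix.of fun (j : Fin l) (i : Fin n) => D i (g j)) s i -
      ((Matrix.of fun s j => c s j) * (Matrix.of fun (j : Fin m) (i : Fin n) => D i (f j))) s i =
      ∑ j, f j * D i (c s j) := by
    simp only [Matrix.of_apply, Matrix.mul_apply]
    rw [← hc s, map_sum, ← Finset.sum_sub_distrib]
    apply Finset.sum_congr rfl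
    intro j _
    rw [Derivation.leibniz]
    simp only [smul_eq_mul]
    ring
  rw [this]
  exact Ideal.sum_mem _ fun j _ => Ideal.mul_mem_right _ _ (Ideal.subset_span ⟨j, rfl⟩)

end Groth.Agent.H33.JacMinors
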