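import Groth.Agent.H5.ResDerivLeft

/-!
# Left derived functors computed by left resolutions are absolute

In the situation of `Groth.Agent.H5.TriDerivLeft` / `ResDerivLeft`, the post-composition of the
left derived functor with an arbitrary functor is still a left derived functor.
-/

set_option autoImplicit false

open CategoryTheory CategoryTheory.Limits Pretriangulated Opposite
open Pretriangulated.Opposite

namespace Groth.Agent.H33.LeftAbs

open Groth.Agent.H5

section Tri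

variable {C : Type*} [Category C] [HasZeroObject C] [HasShift C ℤ] [Preadditive C]
  [∀ (n : ℤ), (shiftFunctor C n).Additive] [Pretriangulated C] [IsTriangulated C]
  (𝒜 ℬ : ObjectProperty C) [𝒜.IsTriangulated] [ℬ.IsTriangulated]
  [𝒜.IsClosedUnderIsomorphisms] [ℬ.IsClosedUnderIsomorphisms]
  (hres : ∀ X : C, ∃ (Y : C) (s : Y ⟶ X), 𝒜 Y ∧ ℬ.trW s)
  {D : Type*} [Category D] [HasZeroObject D] [HasShift D ℤ] [Preadditive D]
  [∀ (n : ℤ), (shiftFunctor D n).Additive] [Pretriangulated D]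
  (G : C ⥤ D) [G.CommShift ℤ] [G.IsTriangulated]
  (hG : ∀ Z : C, 𝒜 Z → ℬ Z → IsZero (G.obj Z))

include hres hG in
theorem isLeftDerivedFunctor_postcomp {E : Type*} [Category E] (L : C ⥤ E)
    [L.IsLocalization ℬ.trW] (LG : E ⥤ D) (α : L ⋙ LG ⟶ G) [LG.IsLeftDerivedFunctor α ℬ.trW]
    {H' : Type*} [Category H'] (T : D ⥤ H') :
    (LG ⋙ T).IsLeftDerivedFunctor
      ((Functor.associator _ _ _).inv ≫ Functor.whiskerRight α T) ℬ.trW := by
  have h₁ := TriDeriv.isRightDerivabilityStructure 𝒜.op ℬ.op (TriDerivLeft.hres_op 𝒜 ℬ hres)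
  have h₂ := TriDeriv.derives 𝒜.op ℬ.op G.op (TriDerivLeft.hG_op 𝒜 ℬ G hG)
  have h₂' : (TriDeriv.Φ 𝒜.op ℬ.op).Derives (G ⋙ T).op := fun X Y f hf => by
    have : IsIso (((TriDeriv.Φ 𝒜.op ℬ.op).functor ⋙ G.op).map f) := h₂ f hf
    show IsIso (T.op.map (((TriDeriv.Φ 𝒜.op ℬ.op).functor ⋙ G.op).map f))
    infer_instance
  have hL : L.op.IsLocalization ℬ.op.trW := by
    rw [ℬ.trW_op]
    infer_instance
  let α'' : (G ⋙ T).op ⟶ L.op ⋙ (LG ⋙ T).op :=
    NatTrans.op ((Functor.associator _ _ _).inv ≫ Functor.whiskerRight α T)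
  have hα : ∀ X₁, IsIso (α''.app ((TriDeriv.Φ 𝒜.op ℬ.op).functor.obj X₁)) := fun X₁ => by
    have := TriDerivLeft.isIso_counit_app 𝒜 ℬ hres G hG L LG α X₁.obj.unop X₁.property
    have h : α''.app ((TriDeriv.Φ 𝒜.op ℬ.op).functor.obj X₁) =
        (𝟙 _ ≫ T.map (α.app X₁.obj.unop)).op := rfl
    rw [h]
    infer_instance
  have hR : (LG ⋙ T).op.IsRightDerivedFunctor α'' ℬ.op.trW :=
    h₂'.isRightDerivedFunctor_of_isIso α'' hα
  have key : ∀ (W' : MorphismProperty Cᵒᵖ) (h : ℬ.op.trW = W') [L.op.IsLocalization W'],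
      (LG ⋙ T).op.IsRightDerivedFunctor α'' W' := by
    intro W' h _
    subst h
    exact hR
  have hR' : (LG ⋙ T).op.IsRightDerivedFunctor α'' ℬ.trW.op := key _ ℬ.trW_op
  exact LeftDeriv.isLeftDerivedFunctor_unop L ℬ.trW (G ⋙ T) (LG ⋙ T).op α''

end Tri

section Res

universe w' v' u' v u

variable {A : Type u} [Category.{v} A] [Abelian A]
  {kf : ObjectProperty (CochainComplex A ℤ)} (H : ResDerivLeft.Hyp kf)
  {B : Type u'} [Category.{v'} B] [Abelian B] [HasDerivedCategory.{w'} B]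
  (F : A ⥤ B) [F.Additive]
  (hF : ∀ P : CochainComplex A ℤ, kf P → (∀ i, P.ExactAt i) →
    ∀ i, ((F.mapHomologicalComplex (ComplexShape.up ℤ)).obj P).ExactAt i)

include H hF in
theorem isLeftDerivedFunctor_postcomp_aux
    (W₂ : MorphismProperty (HomotopyCategory A (ComplexShape.up ℤ)))
    (hW : W₂ = (ResDerivLeft.ℬ A).trW) {E : Type*} [Category E]
    (L : HomotopyCategory A (ComplexShape.up ℤ) ⥤ E) [L.IsLocalization W₂]
    (LF : E ⥤ DerivedCategory B) (α : L ⋙ LF ⟶ ResDerivLeft.G F)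
    [LF.IsLeftDerivedFunctor α W₂] {H' : Type*} [Category H'] (T : DerivedCategory B ⥤ H') :
    (LF ⋙ T).IsLeftDerivedFunctor
      ((Functor.associator _ _ _).inv ≫ Functor.whiskerRight α T) W₂ := by
  subst hW
  have := ResDerivLeft.isTriangulated H
  exact isLeftDerivedFunctor_postcomp (ResDerivLeft.𝒜 kf) (ResDerivLeft.ℬ A)
    (ResDerivLeft.hres H) (ResDerivLeft.G F) (ResDerivLeft.isZero_G_obj F hF) L LF α T

include H hF in
/-- The left derived functor computed by `kf`-resolutions is absolute. -/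
theorem isLeftDerivedFunctor_postcomp' {E : Type*} [Category E]
    (L : HomotopyCategory A (ComplexShape.up ℤ) ⥤ E)
    [L.IsLocalization (HomotopyCategory.quasiIso A (ComplexShape.up ℤ))]
    (LF : E ⥤ DerivedCategory B) (α : L ⋙ LF ⟶ ResDerivLeft.G F)
    [LF.IsLeftDerivedFunctor α (HomotopyCategory.quasiIso A (ComplexShape.up ℤ))]
    {H' : Type*} [Category H'] (T : DerivedCategory B ⥤ H') :
    (LF ⋙ T).IsLeftDerivedFunctor
      ((Functor.associator _ _ _).inv ≫ Functor.whiskerRight α T)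
      (HomotopyCategory.quasiIso A (ComplexShape.up ℤ)) :=
  isLeftDerivedFunctor_postcomp_aux H F hF _
    (HomotopyCategory.quasiIso_eq_trW_subcategoryAcyclic _) L LF α T

end Res

end Groth.Agent.H33.LeftAbs
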