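import Mathlib
/-! Lifting maps from bounded complexes of projectives (helper for S6606). -/
set_option autoImplicit false
universe v u
open CategoryTheory Limits Pretriangulated

namespace Groth.Agent.H33.LiftProj

variable {A : Type u} [Category.{v} A] [Abelian A]

attribute [local instance] HasDerivedCategory.standard

open DerivedCategory in
/-- A map from a K-projective complex which is strictly `≥ n` to a complex which is
cohomologically `≤ n - 1` becomes zero in the derived category. -/
lemma Q_map_eq_zero (P C : CochainComplex A ℤ) (n : ℤ) [P.IsStrictlyGE n] [P.IsKProjective]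
    [C.IsLE (n - 1)] (ψ : P ⟶ C) : Q.map ψ = 0 := by
  have hι : IsIso (Q.map (C.ιTruncLE (n - 1))) := inferInstance
  obtain ⟨g, hg⟩ := (CochainComplex.IsKProjective.Qh_map_bijective P
    ((HomotopyCategory.quotient _ _).obj (C.truncLE (n - 1)))).surjective
      ((quotientCompQhIso A).hom.app P ≫ Q.map ψ ≫ inv (Q.map (C.ιTruncLE (n - 1))) ≫
        (quotientCompQhIso A).inv.app _)
  obtain ⟨θ, rfl⟩ := (HomotopyCategory.quotient _ _).map_surjective g
  have hθ : θ = 0 := by
    ext i
    by_cases hi : i < n
    · exact (P.isZero_of_isStrictlyGE n i hi).eq_of_src _ _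
    · exact ((C.truncLE (n - 1)).isZero_of_isStrictlyLE (n - 1) i (by lia)).eq_of_tgt _ _
  subst hθ
  have h2 : Q.map ψ ≫ inv (Q.map (C.ιTruncLE (n - 1))) = 0 := by
    have h3 := hg
    rw [Functor.map_zero, Functor.map_zero] at h3
    have h4 : (quotientCompQhIso A).inv.app P ≫ (0 : _ ⟶ _) ≫
        (quotientCompQhIso A).hom.app (C.truncLE (n - 1)) =
      Q.map ψ ≫ inv (Q.map (C.ιTruncLE (n - 1))) := by
      rw [h3]
      simp
    rw [← h4]
    simp
  have h5 := h2 =≫ Q.map (C.ιTruncLE (n - 1))
  simpa using h5

open DerivedCategory HomologicalComplex in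
theorem exists_lift (P E L : CochainComplex A ℤ) (β : P ⟶ L) (α : E ⟶ L) (n b : ℤ)
    [P.IsStrictlyGE n] [P.IsStrictlyLE b] (hP : ∀ i : ℤ, Projective (P.X i))
    (hiso : ∀ i : ℤ, n < i → IsIso (homologyMap α i)) (hepi : Epi (homologyMap α n)) :
    ∃ γ : P ⟶ E, Nonempty (Homotopy (γ ≫ α) β) := by
  have : P.IsKProjective := CochainComplex.isKProjective_of_projective P b
  have hT := mappingCone_triangle_distinguished α
  -- transfer of epi / mono on homology to the derived category
  have harrow : ∀ i : ℤ, Arrow.mk ((homologyFunctor A i).map (Q.map α)) ≅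
      Arrow.mk (homologyMap α i) := fun i ↦
    Arrow.isoMk ((homologyFunctorFactors A i).app E) ((homologyFunctorFactors A i).app L)
      ((homologyFunctorFactors A i).hom.naturality α).symm
  have hepi' : ∀ i : ℤ, n ≤ i → Epi ((homologyFunctor A i).map (Q.map α)) := by
    intro i hi
    refine ((MorphismProperty.epimorphisms A).arrow_mk_iso_iff (harrow i)).2 ?_
    rcases hi.eq_or_lt with rfl | hi
    · exact hepi
    · have := hiso i hi
      exact MorphismProperty.epimorphisms.infer_property _
  have hmono' : ∀ i : ℤ, n < i → Mono ((homologyFunctor A i).map (Q.map α)) := by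
    intro i hi
    refine ((MorphismProperty.monomorphisms A).arrow_mk_iso_iff (harrow i)).2 ?_
    have := hiso i hi
    exact MorphismProperty.monomorphisms.infer_property _
  have hC : (CochainComplex.mappingCone α).IsLE (n - 1) := by
    rw [CochainComplex.isLE_iff]
    intro i hi
    rw [exactAt_iff_isZero_homology]
    refine IsZero.of_iso ?_ ((homologyFunctorFactors A i).app _).symm
    have h3 := HomologySequence.exact₃ _ hT i (i + 1) rfl
    refine h3.isZero_X₂_iff.2 ⟨?_, ?_⟩
    · exact (HomologySequence.epi_homologyMap_mor₁_iff _ hT i).1 (hepi' i (by lia))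
    · exact (HomologySequence.mono_homologyMap_mor₁_iff _ hT i (i + 1) rfl).1
        (hmono' (i + 1) (by lia))
  have hz : Q.map β ≫ Q.map (CochainComplex.mappingCone.inr α) = 0 := by
    rw [← Q.map_comp]
    exact Q_map_eq_zero P _ n _
  obtain ⟨γ', hγ'⟩ : ∃ γ' : Q.obj P ⟶ Q.obj E, Q.map β = γ' ≫ Q.map α :=
    Triangle.coyoneda_exact₂ _ hT (Q.map β) hz
  obtain ⟨g, hg⟩ := (CochainComplex.IsKProjective.Qh_map_bijective P
    ((HomotopyCategory.quotient _ _).obj E)).surjective
      ((quotientCompQhIso A).hom.app P ≫ γ' ≫ (quotientCompQhIso A).inv.app E)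
  obtain ⟨γ, rfl⟩ := (HomotopyCategory.quotient _ _).map_surjective g
  refine ⟨γ, ⟨HomotopyCategory.homotopyOfEq _ _ ?_⟩⟩
  apply (CochainComplex.IsKProjective.Qh_map_bijective P _).injective
  rw [Functor.map_comp, Functor.map_comp, hg]
  have h2 := quotientCompQhIso_hom_naturality β
  have h3 := quotientCompQhIso_hom_naturality α
  rw [← cancel_mono ((quotientCompQhIso A).hom.app L)]
  simp only [Category.assoc]
  rw [h3, Iso.inv_hom_id_app_assoc, h2, hγ']

end Groth.Agent.H33.LiftProj
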