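import Mathlib
import Groth.Agent.H33.RDLes
import Groth.Agent.H33.AdaptedFinal
import Groth.Agent.H33.RAcyc
import Groth.Agent.S6624
/-!
# Higher derived limits of towers of abelian groups vanish

Towers with surjective transition maps form a class adapted to the limit functor; every tower
embeds in such a tower with quotient of the same kind, so that `Rⁱ lim = 0` for `i ≥ 2`.
-/
set_option autoImplicit false
universe u
open CategoryTheory Limits Opposite

namespace Groth.Agent.H33.LimTower

/-- The category of towers of abelian groups. -/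
abbrev Tower := ℕᵒᵖ ⥤ AddCommGrpCat.{u}

/-- The transition map of a tower. -/
abbrev tr (X : Tower.{u}) (n : ℕ) : X.obj (op (n + 1)) ⟶ X.obj (op n) :=
  X.map (homOfLE (Nat.le_succ n)).op

/-- Dependent sequences by recursion and choice. -/
lemma exists_dep_seq {P : ℕ → Type*} (R : ∀ n, P n → P (n + 1) → Prop) (h0 : Nonempty (P 0))
    (hstep : ∀ n (a : P n), ∃ b : P (n + 1), R n a b) :
    ∃ f : ∀ n, P n, ∀ n, R n (f n) (f (n + 1)) := by
  classical
  let f : ∀ n, P n := fun n => Nat.rec h0.some (fun n a => (hstep n a).choose) n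
  exact ⟨f, fun n => (hstep n (f n)).choose_spec⟩

lemma map_eq_of_succ (G : Tower.{u}) (y : ∀ n : ℕ, G.obj (op n))
    (hy : ∀ n, tr G n (y (n + 1)) = y n) (m n : ℕ) (h : m ≤ n) :
    G.map (homOfLE h).op (y n) = y m := by
  induction n, h using Nat.le_induction with
  | base =>
    have : (homOfLE (le_refl m)).op = 𝟙 (op m) := Subsingleton.elim _ _
    rw [this, G.map_id]
    rfl
  | succ n h ih =>
    have : (homOfLE (h.trans (Nat.le_succ n))).op =
        (homOfLE (Nat.le_succ n)).op ≫ (homOfLE h).op := Subsingleton.elim _ _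
    rw [this, G.map_comp, ConcreteCategory.comp_apply]
    erw [hy n]
    exact ih

/-- Elements of the limit of a tower from compatible sequences. -/
lemma exists_limit_of_compat (G : Tower.{u}) (y : ∀ n : ℕ, G.obj (op n))
    (hy : ∀ n, tr G n (y (n + 1)) = y n) :
    ∃ z : (limit G : AddCommGrpCat.{u}), ∀ n, limit.π G (op n) z = y n := by
  let s : (G ⋙ forget AddCommGrpCat.{u}).sections :=
    ⟨fun j => y j.unop, fun {j j'} f => by
      have hf : f = (homOfLE (leOfHom f.unop)).op := Subsingleton.elim _ _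
      rw [hf]
      exact map_eq_of_succ G y hy _ _ _⟩
  let e := Types.isLimitEquivSections
    (isLimitOfPreserves (forget AddCommGrpCat.{u}) (limit.isLimit G))
  refine ⟨e.symm s, fun n => ?_⟩
  exact Types.isLimitEquivSections_symm_apply
    (isLimitOfPreserves (forget AddCommGrpCat.{u}) (limit.isLimit G)) s (op n)

/-- Towers with surjective transition maps. -/
def IsSurj : ObjectProperty Tower.{u} := fun X => ∀ n : ℕ, Function.Surjective (tr X n)

section Partial

variable (X : Tower.{u})

/-- The tower of partial products `n ↦ ∏_{k ≤ n} X_k`. -/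
def partialProd : Tower.{u} where
  obj n := AddCommGrpCat.of (∀ k : {k : ℕ // k ≤ n.unop}, X.obj (op k.1))
  map {n m} f := AddCommGrpCat.ofHom
    { toFun := fun y k => y ⟨k.1, k.2.trans (leOfHom f.unop)⟩
      map_zero' := rfl
      map_add' := fun _ _ => rfl }
  map_id := by intros; rfl
  map_comp := by intros; rfl

/-- The canonical embedding of a tower in its tower of partial products. -/
def toPartialProd : X ⟶ partialProd X where
  app n := AddCommGrpCat.ofHom
    { toFun := fun x k => X.map (homOfLE k.2).op x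
      map_zero' := by
        funext k
        exact map_zero _
      map_add' := fun a b => by
        funext k
        exact map_add _ a b }
  naturality {n m} f := by
    ext x
    funext k
    show X.map (homOfLE k.2).op (X.map f x) =
      X.map (homOfLE (k.2.trans (leOfHom f.unop))).op x
    rw [← ConcreteCategory.comp_apply, ← X.map_comp]
    congr 2

instance : Mono (toPartialProd X) := by
  have : ∀ n, Mono ((toPartialProd X).app n) := by
    intro n
    rw [AddCommGrpCat.mono_iff_injective]
    intro x x' h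
    have h' := congrFun h ⟨n.unop, le_rfl⟩
    have e : (homOfLE (le_refl n.unop)).op = 𝟙 n := Subsingleton.elim _ _
    change X.map (homOfLE (le_refl n.unop)).op x = X.map (homOfLE (le_refl n.unop)).op x' at h'
    rw [e, X.map_id] at h'
    exact h'
  exact NatTrans.mono_of_mono_app _

lemma isSurj_partialProd : IsSurj (partialProd X) := by
  classical
  intro n y
  refine ⟨fun k => if h : k.1 ≤ n then y ⟨k.1, h⟩ else 0, ?_⟩
  funext k
  show (if h : k.1 ≤ n then y ⟨k.1, h⟩ else 0) = y k
  rw [dif_pos k.2]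

end Partial

section SES

variable (S : ShortComplex Tower.{u}) (hS : S.ShortExact)

include hS

lemma shortExact_app (n : ℕ) :
    (S.map ((evaluation ℕᵒᵖ AddCommGrpCat.{u}).obj (op n))).ShortExact :=
  hS.map_of_exact _

lemma g_surjective (n : ℕ) : Function.Surjective (S.g.app (op n)) := by
  have := (shortExact_app S hS n).epi_g
  exact (AddCommGrpCat.epi_iff_surjective _).1 this

lemma exact_app (n : ℕ) (y : S.X₂.obj (op n)) (hy : S.g.app (op n) y = 0) :
    ∃ x : S.X₁.obj (op n), S.f.app (op n) x = y :=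
  (ShortComplex.ab_exact_iff _).1 (shortExact_app S hS n).exact y hy

omit hS in
lemma g_tr (n : ℕ) (y : S.X₂.obj (op (n + 1))) :
    S.g.app (op n) (tr S.X₂ n y) = tr S.X₃ n (S.g.app (op (n + 1)) y) := by
  have := ConcreteCategory.congr_hom (S.g.naturality (homOfLE (Nat.le_succ n)).op) y
  rw [ConcreteCategory.comp_apply, ConcreteCategory.comp_apply] at this
  exact this

omit hS in
lemma f_tr (n : ℕ) (x : S.X₁.obj (op (n + 1))) :
    S.f.app (op n) (tr S.X₁ n x) = tr S.X₂ n (S.f.app (op (n + 1)) x) := by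
  have := ConcreteCategory.congr_hom (S.f.naturality (homOfLE (Nat.le_succ n)).op) x
  rw [ConcreteCategory.comp_apply, ConcreteCategory.comp_apply] at this
  exact this

omit hS in
lemma g_f (n : ℕ) (x : S.X₁.obj (op n)) : S.g.app (op n) (S.f.app (op n) x) = 0 := by
  have := congr_app S.zero (op n)
  exact ConcreteCategory.congr_hom this x

lemma isSurj_X₃ (h₂ : IsSurj S.X₂) : IsSurj S.X₃ := by
  intro n z
  obtain ⟨y, rfl⟩ := g_surjective S hS n z
  obtain ⟨y', rfl⟩ := h₂ n y
  exact ⟨S.g.app (op (n + 1)) y', (g_tr S n y').symm⟩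

lemma limMap_g_surjective (h₁ : IsSurj S.X₁) : Function.Surjective (lim.map S.g) := by
  intro z
  let zn : ∀ n : ℕ, S.X₃.obj (op n) := fun n => limit.π S.X₃ (op n) z
  have hz : ∀ n, tr S.X₃ n (zn (n + 1)) = zn n := fun n =>
    ConcreteCategory.congr_hom (limit.w S.X₃ (homOfLE (Nat.le_succ n)).op) z
  let P : ℕ → Type u := fun n => {y : S.X₂.obj (op n) // S.g.app (op n) y = zn n}
  have h0 : Nonempty (P 0) := by
    obtain ⟨y, hy⟩ := g_surjective S hS 0 (zn 0)
    exact ⟨⟨y, hy⟩⟩
  have hstep : ∀ n (a : P n), ∃ b : P (n + 1), tr S.X₂ n b.1 = a.1 := by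
    rintro n ⟨y, hy⟩
    obtain ⟨y', hy'⟩ := g_surjective S hS (n + 1) (zn (n + 1))
    have h1 : S.g.app (op n) (tr S.X₂ n y' - y) = 0 := by
      rw [map_sub, g_tr, hy', hz, hy, sub_self]
    obtain ⟨x, hx⟩ := exact_app S hS n _ h1
    obtain ⟨x', rfl⟩ := h₁ n x
    refine ⟨⟨y' - S.f.app (op (n + 1)) x', ?_⟩, ?_⟩
    · rw [map_sub, g_f, sub_zero, hy']
    · show tr S.X₂ n (y' - S.f.app (op (n + 1)) x') = y
      rw [map_sub, ← f_tr, hx]
      abel
  obtain ⟨f, hf⟩ := exists_dep_seq (P := P) (fun n a b => tr S.X₂ n b.1 = a.1) h0 hstep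
  obtain ⟨y, hy⟩ := exists_limit_of_compat S.X₂ (fun n => (f n).1) hf
  refine ⟨y, ?_⟩
  apply Concrete.limit_ext
  rintro ⟨n⟩
  have h2 : limit.π S.X₃ (op n) (lim.map S.g y) = S.g.app (op n) (limit.π S.X₂ (op n) y) :=
    ConcreteCategory.congr_hom (limMap_π S.g (op n)) y
  rw [h2, hy n]
  exact (f n).2

end SES

section Main

variable [EnoughInjectives Tower.{u}] [(lim : Tower.{u} ⥤ AddCommGrpCat.{u}).Additive]

lemma isSurj_and_shortExact (S : ShortComplex Tower.{u}) (hS : S.ShortExact)
    (h₁ : IsSurj S.X₁) (h₂ : IsSurj S.X₂) :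
    IsSurj S.X₃ ∧ (S.map (lim : Tower.{u} ⥤ AddCommGrpCat.{u})).ShortExact := by
  refine ⟨isSurj_X₃ S hS h₂, ?_⟩
  have hp : PreservesFiniteLimits (lim : Tower.{u} ⥤ AddCommGrpCat.{u}) := by
    have : PreservesLimitsOfSize.{0, 0} (lim : Tower.{u} ⥤ AddCommGrpCat.{u}) :=
      (constLimAdj (J := ℕᵒᵖ) (C := AddCommGrpCat.{u})).rightAdjoint_preservesLimits
    exact PreservesLimitsOfSize.preservesFiniteLimits _
  have hle := (Functor.preservesFiniteLimits_iff_forall_exact_map_and_mono
    (lim : Tower.{u} ⥤ AddCommGrpCat.{u})).1 hp S hS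
  have hm : Mono (lim.map S.f) := hle.2
  have he : Epi (lim.map S.g) :=
    (AddCommGrpCat.epi_iff_surjective _).2 (limMap_g_surjective S hS h₁)
  exact ShortComplex.ShortExact.mk' hle.1 hm he

/-- Towers with surjective transition maps are acyclic for the limit functor. -/
theorem isZero_rightDerived_of_isSurj (X : Tower.{u}) (hX : IsSurj X) (i : ℕ) (hi : 0 < i) :
    IsZero (((lim : Tower.{u} ⥤ AddCommGrpCat.{u}).rightDerived i).obj X) := by
  letI := HasDerivedCategory.standard Tower.{u}
  letI := HasDerivedCategory.standard AddCommGrpCat.{u}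
  have h := Groth.Agent.H33.Adapted.rightAcyclic (lim : Tower.{u} ⥤ AddCommGrpCat.{u}) IsSurj
    (fun X => ⟨partialProd X, toPartialProd X, isSurj_partialProd X, inferInstance⟩)
    (fun S hS h₁ h₂ => isSurj_and_shortExact S hS h₁ h₂) X hX
  rw [Groth.Agent.S6624.result] at h
  exact h.2 i hi

/-- The higher derived limits of a tower of abelian groups vanish. -/
theorem isZero_rightDerived_lim (A : Tower.{u}) (i : ℕ) (hi : 2 ≤ i) :
    IsZero (((lim : Tower.{u} ⥤ AddCommGrpCat.{u}).rightDerived i).obj A) := by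
  let S : ShortComplex Tower.{u} :=
    ShortComplex.mk (toPartialProd A) (cokernel.π (toPartialProd A)) (cokernel.condition _)
  have hS : S.ShortExact :=
    ShortComplex.ShortExact.mk' (ShortComplex.exact_cokernel _)
      (inferInstanceAs (Mono (toPartialProd A))) (inferInstanceAs (Epi (cokernel.π _)))
  have hB : IsSurj S.X₂ := isSurj_partialProd A
  have hC : IsSurj S.X₃ := isSurj_X₃ S hS hB
  obtain ⟨-, -, δ, hδ⟩ := Groth.Agent.H33.RDLes.exists_les
    (lim : Tower.{u} ⥤ AddCommGrpCat.{u}) S hS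
  obtain ⟨k, rfl⟩ : ∃ k, i = k + 1 := ⟨i - 1, by omega⟩
  obtain ⟨w₁, w₂, e₁, e₂⟩ := hδ k
  exact e₂.isZero_of_both_zeros
    ((isZero_rightDerived_of_isSurj S.X₃ hC k (by omega)).eq_of_src _ _)
    ((isZero_rightDerived_of_isSurj S.X₂ hB (k + 1) (by omega)).eq_of_tgt _ _)

end Main

end Groth.Agent.H33.LimTower
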