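import Mathlib.CategoryTheory.Localization.Triangulated
import Mathlib.CategoryTheory.Localization.CalculusOfFractions
import Mathlib.CategoryTheory.Triangulated.Subcategory

set_option autoImplicit false
universe v u v' u'
open CategoryTheory CategoryTheory.Limits

namespace Groth.Agent.H33

open CategoryTheory.Pretriangulated ZeroObject

section

variable {D : Type u} [Category.{v} D] [Preadditive D]
  (S : MorphismProperty D) {E : Type u'} [Category.{v'} E] (Q : D ⥤ E) [Q.IsLocalization S]

/-- In a localization with left calculus of fractions, `Q Z = 0` iff some `0 : Z ⟶ Z'` is in `S`. -/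
theorem isZero_loc_iff_left [S.HasLeftCalculusOfFractions] (Z : D) :
    IsZero (Q.obj Z) ↔ ∃ Z' : D, S (0 : Z ⟶ Z') := by
  let _ := Localization.preadditive Q S
  have := Localization.functor_additive Q S
  rw [IsZero.iff_id_eq_zero, ← Q.map_id, ← Q.map_zero,
    MorphismProperty.map_eq_iff_postcomp Q S]
  constructor
  · rintro ⟨Z', s, hs, fac⟩
    rw [Category.id_comp, zero_comp] at fac
    exact ⟨Z', fac ▸ hs⟩
  · rintro ⟨Z', hs⟩
    exact ⟨Z', 0, hs, by simp⟩

/-- In a localization with left calculus of fractions (for the preadditive structure) and right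
calculus of fractions, `Q Z = 0` iff some `0 : Z' ⟶ Z` is in `S`. -/
theorem isZero_loc_iff_right [S.HasLeftCalculusOfFractions] [S.HasRightCalculusOfFractions]
    (Z : D) :
    IsZero (Q.obj Z) ↔ ∃ Z' : D, S (0 : Z' ⟶ Z) := by
  let _ := Localization.preadditive Q S
  have := Localization.functor_additive Q S
  rw [IsZero.iff_id_eq_zero, ← Q.map_id, ← Q.map_zero,
    MorphismProperty.map_eq_iff_precomp Q S]
  constructor
  · rintro ⟨Z', s, hs, fac⟩
    rw [Category.comp_id, comp_zero] at fac
    exact ⟨Z', fac ▸ hs⟩
  · rintro ⟨Z', hs⟩
    exact ⟨Z', 0, hs, by simp⟩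

/-- A retract of an object sent to zero is sent to zero. -/
theorem isZero_loc_of_retract [S.HasLeftCalculusOfFractions] {Z Y : D} (i : Z ⟶ Y) (r : Y ⟶ Z)
    (hir : i ≫ r = 𝟙 Z) (hY : IsZero (Q.obj Y)) : IsZero (Q.obj Z) := by
  let _ := Localization.preadditive Q S
  have := Localization.functor_additive Q S
  rw [IsZero.iff_id_eq_zero, ← Q.map_id, ← hir, Q.map_comp, hY.eq_of_tgt (Q.map i) 0, zero_comp]

theorem isZero_loc_biprod_left [S.HasLeftCalculusOfFractions] [HasBinaryBiproducts D] {Z Z' : D}
    (h : IsZero (Q.obj (Z ⊞ Z'))) : IsZero (Q.obj Z) :=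
  isZero_loc_of_retract S Q biprod.inl biprod.fst biprod.inl_fst h

end

section

variable {D : Type u} [Category.{v} D] [Preadditive D] [HasZeroObject D] [HasShift D ℤ]
  [∀ n : ℤ, (shiftFunctor D n).Additive] [Pretriangulated D]
  (S : MorphismProperty D) {E : Type u'} [Category.{v'} E] (Q : D ⥤ E) [Q.IsLocalization S]

set_option backward.defeqAttrib.useBackward true in
set_option backward.isDefEq.respectTransparency false in
/-- If the first morphism of a distinguished triangle is in `S`, the third object is killed. -/
theorem isZero_loc_obj₃_of_distinguished [S.HasLeftCalculusOfFractions]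
    [S.IsCompatibleWithTriangulation] (T : Triangle D) (hT : T ∈ distTriang D) (hf : S T.mor₁) :
    IsZero (Q.obj T.obj₃) := by
  let _ := Localization.preadditive Q S
  have := Localization.functor_additive Q S
  obtain ⟨c, hc, -, -⟩ := MorphismProperty.compatible_with_triangulation T
    (Triangle.mk (𝟙 T.obj₂) (0 : T.obj₂ ⟶ 0) 0) hT (contractible_distinguished T.obj₂)
    T.mor₁ (𝟙 _) hf (S.id_mem _) (by simp)
  have : IsIso (Q.map c) := Localization.inverts Q S c hc
  exact (Q.map_isZero (isZero_zero D)).of_iso (asIso (Q.map c))

/-- For a distinguished triangle, the image of the first map in a localization (with calculus of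
fractions, compatible with the triangulation) is invertible iff the third vertex is killed. -/
theorem isIso_loc_mor₁_iff_isZero_obj₃ [S.HasLeftCalculusOfFractions]
    [S.IsCompatibleWithTriangulation] (T : Triangle D) (hT : T ∈ distTriang D) :
    IsIso (Q.map T.mor₁) ↔ IsZero (Q.obj T.obj₃) := by
  let _ : HasShift E ℤ := HasShift.localized Q S ℤ
  let _ : Q.CommShift ℤ := Functor.CommShift.localized Q S ℤ
  let _ := Localization.preadditive Q S
  have := Localization.functor_additive Q S
  have : HasZeroObject E := Q.hasZeroObject_of_additive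
  have : ∀ n : ℤ, (shiftFunctor E n).Additive := fun n => by
    rw [Localization.functor_additive_iff Q S]
    exact Functor.additive_of_iso (Q.commShiftIso n)
  let _ : Pretriangulated E := Triangulated.Localization.pretriangulated Q S
  have : Q.IsTriangulated := Triangulated.Localization.isTriangulated_functor Q S
  exact (Triangle.isZero₃_iff_isIso₁ _ (Q.map_distinguished T hT)).symm

end

end Groth.Agent.H33
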