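import Mathlib.CategoryTheory.Localization.CalculusOfFractions
import Mathlib.CategoryTheory.Localization.LocalizerMorphism
import Mathlib.CategoryTheory.ObjectProperty.FullSubcategory

set_option autoImplicit false
universe v v' u u'
open CategoryTheory

namespace Groth.Agent.H33

variable {D : Type u} [Category.{v} D] (P : ObjectProperty D) (S : MorphismProperty D)

/-- The class of morphisms of the full subcategory whose image lies in `S` has a right calculus
of fractions as soon as `S` has one and every object receives an `S`-morphism from an object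
of the subcategory. -/
theorem hasRightCalculusOfFractions_inverseImage_ι [S.HasRightCalculusOfFractions]
    (hP : ∀ X : D, ∃ (X' : D) (s : X' ⟶ X), P X' ∧ S s) :
    (S.inverseImage P.ι).HasRightCalculusOfFractions where
  exists_rightFraction := by
    intro X Y φ
    obtain ⟨ψ, hψ⟩ := MorphismProperty.HasRightCalculusOfFractions.exists_rightFraction
      (W := S) (MorphismProperty.LeftFraction.mk φ.f.hom φ.s.hom φ.hs)
    obtain ⟨X'', t, hX'', ht⟩ := hP ψ.X'
    refine ⟨MorphismProperty.RightFraction.mk (X' := ⟨X'', hX''⟩)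
      (ObjectProperty.homMk (t ≫ ψ.s))
      (MorphismProperty.comp_mem _ _ _ ht ψ.hs) (ObjectProperty.homMk (t ≫ ψ.f)), ?_⟩
    apply ObjectProperty.hom_ext
    dsimp at hψ ⊢
    rw [Category.assoc, Category.assoc, hψ]
  ext := by
    intro X Y Y' f₁ f₂ s hs hfs
    have hfs' : f₁.hom ≫ s.hom = f₂.hom ≫ s.hom := by
      rw [← ObjectProperty.FullSubcategory.comp_hom, ← ObjectProperty.FullSubcategory.comp_hom, hfs]
    obtain ⟨X', t, ht, htf⟩ := MorphismProperty.HasRightCalculusOfFractions.ext
      (W := S) f₁.hom f₂.hom s.hom hs hfs'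
    obtain ⟨X'', u, hX'', hu⟩ := hP X'
    refine ⟨⟨X'', hX''⟩, ObjectProperty.homMk (u ≫ t), MorphismProperty.comp_mem _ _ _ hu ht, ?_⟩
    apply ObjectProperty.hom_ext
    dsimp
    rw [Category.assoc, Category.assoc, htf]


section Main

variable {P S}
variable {E : Type u'} [Category.{v'} E] (Q : D ⥤ E)

/-- The image in `D` of a right fraction of the full subcategory. -/
abbrev imageFraction {X Y : P.FullSubcategory} (φ : (S.inverseImage P.ι).RightFraction X Y) :
    S.RightFraction X.obj Y.obj :=
  MorphismProperty.RightFraction.mk φ.s.hom φ.hs φ.f.hom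

variable [S.HasRightCalculusOfFractions] [Q.IsLocalization S]
  (hP : ∀ X : D, ∃ (X' : D) (s : X' ⟶ X), P X' ∧ S s)
  {L₁ : P.FullSubcategory ⥤ (S.inverseImage P.ι).Localization}
  (G : (S.inverseImage P.ι).Localization ⥤ E)
  (e : (S.inverseImage P.ι).Q ⋙ G ≅ P.ι ⋙ Q)

include e in
lemma map_fraction_compat {X Y : P.FullSubcategory}
    (φ : (S.inverseImage P.ι).RightFraction X Y) :
    e.inv.app X ≫ G.map (φ.map (S.inverseImage P.ι).Q (Localization.inverts _ _)) ≫ e.hom.app Y =
      (imageFraction φ).map Q (Localization.inverts Q S) := by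
  have : IsIso (Q.map (imageFraction φ).s) := Localization.inverts Q S _ (imageFraction φ).hs
  rw [← cancel_epi (Q.map (imageFraction φ).s), MorphismProperty.RightFraction.map_s_comp_map]
  have h1 : Q.map (imageFraction φ).s ≫ e.inv.app X =
      e.inv.app φ.X' ≫ G.map ((S.inverseImage P.ι).Q.map φ.s) := by
    have := e.inv.naturality φ.s
    exact this
  rw [reassoc_of% h1, ← G.map_comp_assoc, MorphismProperty.RightFraction.map_s_comp_map]
  have h2 := e.hom.naturality φ.f
  simp only [Functor.comp_map] at h2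
  rw [h2, Iso.inv_hom_id_app_assoc]
  rfl

include hP e in
lemma map_bijective_on_Q_obj (X Y : P.FullSubcategory) :
    Function.Bijective (fun g : (S.inverseImage P.ι).Q.obj X ⟶ (S.inverseImage P.ι).Q.obj Y =>
      G.map g) := by
  have hW := hasRightCalculusOfFractions_inverseImage_ι P S hP
  constructor
  · intro g₁ g₂ hg
    dsimp only at hg
    obtain ⟨φ₁, rfl⟩ := Localization.exists_rightFraction (S.inverseImage P.ι).Q
      (S.inverseImage P.ι) g₁
    obtain ⟨φ₂, rfl⟩ := Localization.exists_rightFraction (S.inverseImage P.ι).Q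
      (S.inverseImage P.ι) g₂
    have h : (imageFraction φ₁).map Q (Localization.inverts Q S) =
        (imageFraction φ₂).map Q (Localization.inverts Q S) := by
      rw [← map_fraction_compat Q G e φ₁, ← map_fraction_compat Q G e φ₂, hg]
    rw [MorphismProperty.RightFraction.map_eq_iff] at h
    obtain ⟨Z, t₁, t₂, hs, hf, ht⟩ := h
    obtain ⟨Z', u, hZ', hu⟩ := hP Z
    rw [MorphismProperty.RightFraction.map_eq_iff]
    refine ⟨⟨Z', hZ'⟩, ObjectProperty.homMk (u ≫ t₁), ObjectProperty.homMk (u ≫ t₂), ?_, ?_, ?_⟩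
    · apply ObjectProperty.hom_ext
      dsimp [imageFraction] at hs ⊢
      rw [Category.assoc, Category.assoc, hs]
    · apply ObjectProperty.hom_ext
      dsimp [imageFraction] at hf ⊢
      rw [Category.assoc, Category.assoc, hf]
    · show S ((u ≫ t₁) ≫ φ₁.s.hom)
      rw [Category.assoc]
      exact MorphismProperty.comp_mem _ _ _ hu ht
  · intro h
    let h₀ : Q.obj X.obj ⟶ Q.obj Y.obj := e.inv.app X ≫ h ≫ e.hom.app Y
    obtain ⟨φ, hφ⟩ := Localization.exists_rightFraction Q S h₀
    obtain ⟨X'', t, hX'', ht⟩ := hP φ.X'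
    let ψ : (S.inverseImage P.ι).RightFraction X Y :=
      MorphismProperty.RightFraction.mk (X' := ⟨X'', hX''⟩) (ObjectProperty.homMk (t ≫ φ.s))
        (MorphismProperty.comp_mem _ _ _ ht φ.hs) (ObjectProperty.homMk (t ≫ φ.f))
    refine ⟨ψ.map (S.inverseImage P.ι).Q (Localization.inverts _ _), ?_⟩
    dsimp only
    have h3 := map_fraction_compat Q G e ψ
    have h4 : (imageFraction ψ).map Q (Localization.inverts Q S) = h₀ := by
      rw [hφ]
      rw [MorphismProperty.RightFraction.map_eq_iff]
      refine ⟨X'', 𝟙 _, t, ?_, ?_, ?_⟩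
      · simp [imageFraction, ψ]
      · simp [imageFraction, ψ]
      · rw [Category.id_comp]
        exact (imageFraction ψ).hs
    rw [h4] at h3
    have h5 : G.map (ψ.map (S.inverseImage P.ι).Q (Localization.inverts _ _)) =
        e.hom.app X ≫ h₀ ≫ e.inv.app Y := by
      rw [← h3]
      simp
    rw [h5]
    simp [h₀]


include hP in
/-- If every object of `D` receives an `S`-morphism from an object of the full subcategory `P`,
then `P.ι ⋙ Q` is a localization functor for the restriction of `S` to the subcategory. -/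
theorem isLocalization_ι_comp : (P.ι ⋙ Q).IsLocalization (S.inverseImage P.ι) := by
  have hW := hasRightCalculusOfFractions_inverseImage_ι P S hP
  let Φ : LocalizerMorphism (S.inverseImage P.ι) S := { functor := P.ι, map := le_rfl }
  have hinv : (S.inverseImage P.ι).IsInvertedBy (P.ι ⋙ Q) :=
    fun X Y f hf => Localization.inverts Q S _ hf
  let G : (S.inverseImage P.ι).Localization ⥤ E :=
    Localization.lift (P.ι ⋙ Q) hinv (S.inverseImage P.ι).Q
  let e : (S.inverseImage P.ι).Q ⋙ G ≅ P.ι ⋙ Q := Localization.fac _ _ _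
  have : (S.inverseImage P.ι).Q.EssSurj := Localization.essSurj _ (S.inverseImage P.ι)
  have hfull : G.Full := by
    constructor
    intro A B h
    let iA := (S.inverseImage P.ι).Q.objObjPreimageIso A
    let iB := (S.inverseImage P.ι).Q.objObjPreimageIso B
    obtain ⟨g, hg⟩ := (map_bijective_on_Q_obj Q hP G e _ _).2
      (G.map iA.hom ≫ h ≫ G.map iB.inv)
    dsimp only at hg
    refine ⟨iA.inv ≫ g ≫ iB.hom, ?_⟩
    rw [G.map_comp, G.map_comp, hg]
    simp [← G.map_comp_assoc, ← G.map_comp]
  have hfaith : G.Faithful := by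
    constructor
    intro A B f g hfg
    let iA := (S.inverseImage P.ι).Q.objObjPreimageIso A
    let iB := (S.inverseImage P.ι).Q.objObjPreimageIso B
    have := (map_bijective_on_Q_obj Q hP G e _ _).1
      (a₁ := iA.hom ≫ f ≫ iB.inv) (a₂ := iA.hom ≫ g ≫ iB.inv)
      (by dsimp only; rw [G.map_comp, G.map_comp, G.map_comp, G.map_comp, hfg])
    simpa using this
  have : CatCommSq Φ.functor (S.inverseImage P.ι).Q Q G := ⟨e.symm⟩
  have : Φ.IsLocalizedFullyFaithful :=
    LocalizerMorphism.IsLocalizedFullyFaithful.mk' Φ (S.inverseImage P.ι).Q Q G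
      (Functor.FullyFaithful.ofFullyFaithful G)
  have : (P.ι ⋙ Q).EssSurj := by
    constructor
    intro Y
    have : Q.EssSurj := Localization.essSurj Q S
    obtain ⟨X', s, hX', hs⟩ := hP (Q.objPreimage Y)
    have : IsIso (Q.map s) := Localization.inverts Q S _ hs
    exact ⟨⟨X', hX'⟩, ⟨asIso (Q.map s) ≪≫ Q.objObjPreimageIso Y⟩⟩
  exact Φ.isLocalization_of_isLocalizedFullyFaithful (L₂ := Q) (L₁ := P.ι ⋙ Q) (F := 𝟭 E)
    (Functor.rightUnitor _).symm

end Main

end Groth.Agent.H33
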