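import Groth.Agent.H33.ProTri
import Groth.Agent.H45.Derived.TruncHomology
import Groth.Agent.H72.TruncHom

/-!
# Essentially constant inverse systems in the derived category
-/

set_option autoImplicit false
universe w v u

open CategoryTheory CategoryTheory.Limits Opposite ZeroObject

namespace Groth.Agent.H33.ProDer

open ARSys Groth.Agent.H33.ProTri

section General

variable {C : Type u} [Category.{v} C]

/-- Essential constancy is invariant under isomorphism of inverse systems. -/
lemma isEssConstant_of_iso {X X' : PS C} (e : X ≅ X') {A : C} {c : (Functor.const ℕᵒᵖ).obj A ⟶ X}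
    (h : DerCA.IsEssConstant X A c) : DerCA.IsEssConstant X' A (c ≫ e.hom) := by
  obtain ⟨i, s, hs, hfac⟩ := h
  refine ⟨i, e.inv.app (op i) ≫ s, ?_, ?_⟩
  · rw [NatTrans.comp_app, Category.assoc, ← Category.assoc (e.hom.app (op i)),
      ← NatTrans.comp_app, e.hom_inv_id, NatTrans.id_app, Category.id_comp, hs]
  · intro j
    obtain ⟨k, hi, hj, hk⟩ := hfac j
    refine ⟨k, hi, hj, ?_⟩
    have h1 : tr X' hj = e.inv.app (op k) ≫ tr X hj ≫ e.hom.app (op j) := by
      rw [tr_naturality e.hom hj, ← Category.assoc, ← NatTrans.comp_app, e.inv_hom_id,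
        NatTrans.id_app, Category.id_comp]
    have h2 : tr X' hi ≫ e.inv.app (op i) = e.inv.app (op k) ≫ tr X hi :=
      tr_naturality e.inv hi
    rw [h1, hk, NatTrans.comp_app]
    simp only [Category.assoc]
    rw [← reassoc_of% h2]

/-- A system of zero objects is essentially constant. -/
lemma isEssConstant_of_isZero [HasZeroMorphisms C] [HasZeroObject C] {X : PS C}
    (h : ∀ n : ℕ, IsZero (X.obj (op n))) :
    ∃ (B : C) (c : (Functor.const ℕᵒᵖ).obj B ⟶ X), DerCA.IsEssConstant X B c := by
  refine ⟨(0 : C), { app := fun _ => 0, naturality := ?_ }, 0, 0, ?_, ?_⟩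
  · intro a b f
    exact (h b.unop).eq_of_tgt _ _
  · exact (isZero_zero C).eq_of_src _ _
  · intro j
    exact ⟨j, Nat.zero_le _, le_rfl, (h j).eq_of_tgt _ _⟩

/-- Transfer of essential constancy along a functor which is fully faithful on a class of objects
containing the terms of the system and a preimage of the value. -/
lemma isEssConstant_of_fullyFaithfulOn {E : Type*} [Category E] (F : C ⥤ E) (P : C → Prop)
    (hfull : ∀ {U V : C}, P U → P V → ∀ φ : F.obj U ⟶ F.obj V, ∃ g : U ⟶ V, F.map g = φ)
    (hfaith : ∀ {U V : C}, P U → P V → ∀ g g' : U ⟶ V, F.map g = F.map g' → g = g')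
    (hsurj : ∀ B : E, ∃ L : C, P L ∧ Nonempty (F.obj L ≅ B))
    {X : PS C} (hX : ∀ n : ℕ, P (X.obj (op n)))
    (h : ∃ (B : E) (c : (Functor.const ℕᵒᵖ).obj B ⟶ X ⋙ F), DerCA.IsEssConstant (X ⋙ F) B c) :
    ∃ (L : C) (c : (Functor.const ℕᵒᵖ).obj L ⟶ X), DerCA.IsEssConstant X L c := by
  obtain ⟨B, c, i, s, hs, hfac⟩ := h
  obtain ⟨L, hL, ⟨e⟩⟩ := hsurj B
  choose c' hc' using fun n : ℕ => hfull hL (hX n) (e.hom ≫ c.app (op n))
  obtain ⟨s', hs'⟩ := hfull (hX i) hL (s ≫ e.inv)
  have hnat : ∀ {a b : ℕ} (hab : a ≤ b), c.app (op b) ≫ F.map (tr X hab) = c.app (op a) := by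
    intro a b hab
    have := c.naturality (homOfLE hab).op
    dsimp at this
    rw [Category.id_comp] at this
    exact this.symm
  refine ⟨L, { app := fun n => c' n.unop, naturality := ?_ }, i, s', ?_, ?_⟩
  · intro a b f
    dsimp
    rw [Category.id_comp]
    apply hfaith hL (hX _)
    rw [F.map_comp, hc', hc', Category.assoc]
    have := hnat (leOfHom f.unop)
    exact (congrArg (e.hom ≫ ·) this).symm
  · dsimp
    apply hfaith hL hL
    rw [F.map_comp, hc', hs', F.map_id, Category.assoc, reassoc_of% hs]
    erw [Category.id_comp]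
    exact e.hom_inv_id
  · intro j
    obtain ⟨k, hi, hj, hk⟩ := hfac j
    refine ⟨k, hi, hj, ?_⟩
    apply hfaith (hX _) (hX _)
    dsimp
    rw [F.map_comp, F.map_comp, hs', hc']
    have : F.map (tr X hj) = F.map (tr X hi) ≫ s ≫ c.app (op j) := hk
    rw [this]
    simp only [Category.assoc, Iso.inv_hom_id_assoc]

end General

section Derived

variable {A : Type u} [Category.{v} A] [Abelian A] [HasDerivedCategory.{w} A]

open DerivedCategory

/-- `H^n` is full on objects concentrated in degree `n`. -/
lemma exists_map_of_homology {U V : DerivedCategory A} (n : ℤ) [U.IsGE n] [U.IsLE n]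
    [V.IsGE n] [V.IsLE n] (φ : (homologyFunctor A n).obj U ⟶ (homologyFunctor A n).obj V) :
    ∃ g : U ⟶ V, (homologyFunctor A n).map g = φ := by
  obtain ⟨U₀, ⟨eU⟩⟩ := exists_iso_singleFunctor_obj_of_isGE_of_isLE U n
  obtain ⟨V₀, ⟨eV⟩⟩ := exists_iso_singleFunctor_obj_of_isGE_of_isLE V n
  let φ' : U₀ ⟶ V₀ := (singleFunctorCompHomologyFunctorIso A n).inv.app U₀ ≫
    (homologyFunctor A n).map eU.inv ≫ φ ≫ (homologyFunctor A n).map eV.hom ≫
      (singleFunctorCompHomologyFunctorIso A n).hom.app V₀
  refine ⟨eU.hom ≫ (singleFunctor A n).map φ' ≫ eV.inv, ?_⟩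
  have h1 : (homologyFunctor A n).map ((singleFunctor A n).map φ') =
      (singleFunctorCompHomologyFunctorIso A n).hom.app U₀ ≫ φ' ≫
        (singleFunctorCompHomologyFunctorIso A n).inv.app V₀ := by
    have := (singleFunctorCompHomologyFunctorIso A n).hom.naturality φ'
    dsimp at this
    rw [← reassoc_of% this, Iso.hom_inv_id_app]
    exact (Category.comp_id _).symm
  rw [Functor.map_comp, Functor.map_comp, h1]
  dsimp only [φ']
  simp only [Category.assoc, Iso.hom_inv_id_app_assoc, Iso.hom_inv_id_app]
  rw [← Functor.map_comp_assoc, eU.hom_inv_id, CategoryTheory.Functor.map_id, Category.id_comp]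
  erw [Category.id_comp]
  rw [← Functor.map_comp, eV.hom_inv_id, CategoryTheory.Functor.map_id, Category.comp_id]

/-- An inverse system of objects of `D(A)` concentrated in a single degree `b` is essentially
constant as soon as its `H^b` is. -/
lemma essConst_of_concentrated (X : PS (DerivedCategory A)) (b : ℤ)
    (hGE : ∀ n : ℕ, (X.obj (op n)).IsGE b) (hLE : ∀ n : ℕ, (X.obj (op n)).IsLE b)
    (h : ∃ (B : A) (c : (Functor.const ℕᵒᵖ).obj B ⟶ X ⋙ homologyFunctor A b),
      DerCA.IsEssConstant (X ⋙ homologyFunctor A b) B c) :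
    ∃ (L : DerivedCategory A) (c : (Functor.const ℕᵒᵖ).obj L ⟶ X), DerCA.IsEssConstant X L c := by
  refine isEssConstant_of_fullyFaithfulOn (homologyFunctor A b) (fun U => U.IsGE b ∧ U.IsLE b)
    ?_ ?_ ?_ (fun n => ⟨hGE n, hLE n⟩) h
  · rintro U V ⟨_, _⟩ ⟨_, _⟩ φ
    exact exists_map_of_homology b φ
  · rintro U V ⟨_, _⟩ ⟨_, _⟩ g g' hgg'
    rw [← sub_eq_zero]
    apply Groth.Agent.H72.eq_zero_of_homologyFunctor_map_eq_zero b
    rw [Functor.map_sub, hgg', sub_self]
  · intro B
    exact ⟨(singleFunctor A b).obj B, ⟨inferInstance, inferInstance⟩,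
      ⟨(singleFunctorCompHomologyFunctorIso A b).app B⟩⟩

open Pretriangulated in
/-- An inverse system in `D(A)` with cohomology in a fixed bounded range and essentially constant
cohomology systems is essentially constant (induction on the amplitude). -/
theorem essConst_of_homology (d : ℕ) : ∀ (X : PS (DerivedCategory A)) (a b : ℤ), b - a = d →
    (∀ n : ℕ, (X.obj (op n)).IsGE a) → (∀ n : ℕ, (X.obj (op n)).IsLE b) →
    (∀ i : ℤ, ∃ (B : A) (c : (Functor.const ℕᵒᵖ).obj B ⟶ X ⋙ homologyFunctor A i),
      DerCA.IsEssConstant (X ⋙ homologyFunctor A i) B c) →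
    ∃ (L : DerivedCategory A) (c : (Functor.const ℕᵒᵖ).obj L ⟶ X), DerCA.IsEssConstant X L c := by
  induction d with
  | zero =>
    intro X a b hab hGE hLE hH
    obtain rfl : a = b := by omega
    exact essConst_of_concentrated X a hGE hLE (hH a)
  | succ d ih =>
    intro X a b hab hGE hLE hH
    let t := TStructure.t (C := A)
    let X' : PS (DerivedCategory A) := X ⋙ t.truncLT b
    let X'' : PS (DerivedCategory A) := X ⋙ t.truncGE b
    let f : X' ⟶ X := Functor.whiskerLeft X (t.truncLTι b)
    let g : X ⟶ X'' := Functor.whiskerLeft X (t.truncGEπ b)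
    let h : X'' ⟶ X' ⋙ shiftFunctor (DerivedCategory A) (1 : ℤ) :=
      Functor.whiskerLeft X (t.truncGEδLT b)
    have hT : ∀ n : ℕ, Triangle.mk (f.app (op n)) (g.app (op n)) (h.app (op n)) ∈
        distTriang (DerivedCategory A) := fun n => t.triangleLTGE_distinguished b (X.obj (op n))
    have hX' : ∃ (L : DerivedCategory A) (c : (Functor.const ℕᵒᵖ).obj L ⟶ X'),
        DerCA.IsEssConstant X' L c := by
      apply ih X' a (b - 1) (by omega)
      · intro n
        have := hGE n
        change t.IsGE ((t.truncLT b).obj (X.obj (op n))) a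
        infer_instance
      · intro n
        change t.IsLE ((t.truncLT b).obj (X.obj (op n))) (b - 1)
        infer_instance
      · intro i
        by_cases hi : i < b
        · obtain ⟨B, c, hc⟩ := hH i
          have : ∀ n : ℕᵒᵖ, IsIso ((Functor.whiskerRight f (homologyFunctor A i)).app n) := by
            intro n
            exact Groth.Agent.H45.isIso_homologyMap_truncLTι (X.obj n) b i hi
          have : IsIso (Functor.whiskerRight f (homologyFunctor A i)) :=
            NatIso.isIso_of_isIso_app _
          exact ⟨B, _, isEssConstant_of_iso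
            (asIso (Functor.whiskerRight f (homologyFunctor A i))).symm hc⟩
        · apply isEssConstant_of_isZero
          intro n
          have : ((t.truncLT b).obj (X.obj (op n))).IsLE (b - 1) := by
            change t.IsLE ((t.truncLT b).obj (X.obj (op n))) (b - 1)
            infer_instance
          exact isZero_of_isLE ((t.truncLT b).obj (X.obj (op n))) (b - 1) i (by omega)
    have hX'' : ∃ (L : DerivedCategory A) (c : (Functor.const ℕᵒᵖ).obj L ⟶ X''),
        DerCA.IsEssConstant X'' L c := by
      apply essConst_of_concentrated X'' b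
      · intro n
        change t.IsGE ((t.truncGE b).obj (X.obj (op n))) b
        infer_instance
      · intro n
        have := hLE n
        change t.IsLE ((t.truncGE b).obj (X.obj (op n))) b
        infer_instance
      · obtain ⟨B, c, hc⟩ := hH b
        have : ∀ n : ℕᵒᵖ, IsIso ((Functor.whiskerRight g (homologyFunctor A b)).app n) := by
          intro n
          exact Groth.Agent.H45.isIso_homologyMap_truncGEπ (X.obj n) b b le_rfl
        have : IsIso (Functor.whiskerRight g (homologyFunctor A b)) :=
          NatIso.isIso_of_isIso_app _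
        exact ⟨B, _, isEssConstant_of_iso
          (asIso (Functor.whiskerRight g (homologyFunctor A b))) hc⟩
    obtain ⟨L', c', hL'⟩ := hX'
    obtain ⟨L'', c'', hL''⟩ := hX''
    obtain ⟨i', s', h'⟩ := proVal_of_isEssConstant hL'
    obtain ⟨i'', s'', h''⟩ := proVal_of_isEssConstant hL''
    obtain ⟨B, k, β, hB⟩ := proVal_two_out_of_three f g h hT h' h''
    exact ⟨B, isEssConstant_of_proVal hB⟩

end Derived

end Groth.Agent.H33.ProDer
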