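import Groth.Agent.H33.ProTri

/-!
# Pro-isomorphisms of inverse systems in triangulated categories: Yoneda form and a five lemma
-/

set_option autoImplicit false
universe v u

open CategoryTheory CategoryTheory.Limits Opposite

namespace Groth.Agent.H33.ProIso

open ARSys Groth.Agent.H33.ProTri

section General

variable {D : Type u} [Category.{v} D] [Preadditive D]

/-- `f : X ⟶ Y` induces a bijection `colim_n Hom(Y_n, W) ⟶ colim_n Hom(X_n, W)` for all `W`. -/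
structure ProBij {X Y : PS D} (f : X ⟶ Y) : Prop where
  inj : ∀ {W : D} (j : ℕ) (ψ : Y.obj (op j) ⟶ W) (m : ℕ) (hm : j ≤ m),
    tr X hm ≫ f.app (op j) ≫ ψ = 0 → ∃ (m' : ℕ) (hm' : j ≤ m'), tr Y hm' ≫ ψ = 0
  surj : ∀ {W : D} (j : ℕ) (φ : X.obj (op j) ⟶ W), ∃ (m : ℕ) (hm : j ≤ m)
    (ψ : Y.obj (op m) ⟶ W), tr X hm ≫ φ = f.app (op m) ≫ ψ

namespace ProBij

variable {X Y : PS D} {f : X ⟶ Y}

lemma inj' (hf : ProBij f) {W : D} (j : ℕ) (ψ : Y.obj (op j) ⟶ W) (m : ℕ) (hm : j ≤ m)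
    (h : tr X hm ≫ f.app (op j) ≫ ψ = 0) (N : ℕ) :
    ∃ (m' : ℕ) (hm' : j ≤ m') (_ : N ≤ m'), tr Y hm' ≫ ψ = 0 := by
  obtain ⟨m', hm', h'⟩ := hf.inj j ψ m hm h
  refine ⟨max m' N, hm'.trans (le_max_left _ _), le_max_right _ _, ?_⟩
  rw [← tr_comp Y hm' (le_max_left m' N), Category.assoc, h', comp_zero]

lemma surj' (hf : ProBij f) {W : D} (j : ℕ) (φ : X.obj (op j) ⟶ W) (N : ℕ) :
    ∃ (m : ℕ) (hm : j ≤ m) (_ : N ≤ m) (ψ : Y.obj (op m) ⟶ W),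
      tr X hm ≫ φ = f.app (op m) ≫ ψ := by
  obtain ⟨m, hm, ψ, h⟩ := hf.surj j φ
  refine ⟨max m N, hm.trans (le_max_left _ _), le_max_right _ _, tr Y (le_max_left m N) ≫ ψ, ?_⟩
  rw [← tr_comp X hm (le_max_left m N), Category.assoc, h,
    reassoc_of% (tr_naturality f (le_max_left m N))]

end ProBij

lemma proBij_of_isProIso {X Y : PS D} {f : X ⟶ Y} (hf : DerCA.IsProIso f) : ProBij f where
  inj {W} j ψ m hm h := by
    obtain ⟨m', hm', b, -, hb⟩ := hf m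
    refine ⟨m', hm.trans hm', ?_⟩
    rw [← tr_comp Y hm hm', ← hb, Category.assoc, Category.assoc,
      ← reassoc_of% (tr_naturality f hm), h, comp_zero]
  surj {W} j φ := by
    obtain ⟨m, hm, b, hb, -⟩ := hf j
    exact ⟨m, hm, b ≫ φ, by rw [← hb, Category.assoc]⟩

lemma isProIso_of_proBij {X Y : PS D} {f : X ⟶ Y} (hf : ProBij f) : DerCA.IsProIso f := by
  intro n
  obtain ⟨m, hm, ψ, hψ⟩ := hf.surj n (𝟙 (X.obj (op n)))
  rw [Category.comp_id] at hψ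
  have h0 : tr X (le_refl m) ≫ f.app (op m) ≫ (ψ ≫ f.app (op n) - tr Y hm) = 0 := by
    rw [tr_self, Category.id_comp, Preadditive.comp_sub, ← reassoc_of% hψ,
      tr_naturality f hm, sub_self]
  obtain ⟨m', hm', h'⟩ := hf.inj m _ m le_rfl h0
  rw [Preadditive.comp_sub, sub_eq_zero, tr_comp] at h'
  refine ⟨m', hm.trans hm', tr Y hm' ≫ ψ, ?_, ?_⟩
  · rw [← reassoc_of% (tr_naturality f hm'), ← hψ, tr_comp]
  · rw [Category.assoc, h']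

/-- `ProBij` is preserved by an additive left adjoint endofunctor (e.g. an equivalence). -/
lemma ProBij.map_of_adjunction {X Y : PS D} {f : X ⟶ Y} (hf : ProBij f) {E G : D ⥤ D}
    [E.Additive] (adj : E ⊣ G) : ProBij (Functor.whiskerRight f E) where
  inj {W} j ψ m hm h := by
    have hz : ∀ {U : D}, adj.homEquiv U W 0 = 0 := fun {U} =>
      (Equiv.eq_symm_apply _).1 (by rw [Adjunction.homEquiv_counit, E.map_zero, zero_comp])
    have h1 : tr X hm ≫ f.app (op j) ≫ adj.homEquiv _ _ ψ = 0 := by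
      have : E.map (tr X hm ≫ f.app (op j)) ≫ ψ = 0 := by
        rw [E.map_comp, Category.assoc]
        exact h
      rw [← Category.assoc, ← Adjunction.homEquiv_naturality_left, this, hz]
    obtain ⟨m', hm', h'⟩ := hf.inj j _ m hm h1
    refine ⟨m', hm', ?_⟩
    change E.map (tr Y hm') ≫ ψ = 0
    have h3 : ψ = (adj.homEquiv _ _).symm (adj.homEquiv _ _ ψ) := (Equiv.symm_apply_apply _ _).symm
    rw [h3, ← Adjunction.homEquiv_naturality_left_symm, h', Adjunction.homEquiv_counit,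
      E.map_zero, zero_comp]
  surj {W} j φ := by
    obtain ⟨m, hm, ψ', h⟩ := hf.surj j (adj.homEquiv _ _ φ)
    refine ⟨m, hm, (adj.homEquiv _ _).symm ψ', ?_⟩
    change E.map (tr X hm) ≫ φ = E.map (f.app (op m)) ≫ _
    have h3 : φ = (adj.homEquiv _ _).symm (adj.homEquiv _ _ φ) := (Equiv.symm_apply_apply _ _).symm
    rw [h3, ← Adjunction.homEquiv_naturality_left_symm, h,
      Adjunction.homEquiv_naturality_left_symm]

end General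

section Main

variable {D : Type u} [Category.{v} D] [Preadditive D] [HasZeroObject D] [HasShift D ℤ]
    [∀ n : ℤ, (shiftFunctor D n).Additive] [Pretriangulated D]

open Pretriangulated

/-- Five lemma for pro-isomorphisms (in Yoneda form) between inverse systems of distinguished
triangles. -/
theorem proBij_two_out_of_three {X' X X'' Y' Y Y'' : PS D}
    (u : X' ⟶ X) (v : X ⟶ X'') (w : X'' ⟶ X' ⋙ shiftFunctor D (1 : ℤ))
    (p : Y' ⟶ Y) (q : Y ⟶ Y'') (r : Y'' ⟶ Y' ⋙ shiftFunctor D (1 : ℤ))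
    (hTX : ∀ n : ℕ, Triangle.mk (u.app (op n)) (v.app (op n)) (w.app (op n)) ∈ distTriang D)
    (hTY : ∀ n : ℕ, Triangle.mk (p.app (op n)) (q.app (op n)) (r.app (op n)) ∈ distTriang D)
    (φ' : X' ⟶ Y') (φ : X ⟶ Y) (φ'' : X'' ⟶ Y'')
    (c1 : ∀ n : ℕ, u.app (op n) ≫ φ.app (op n) = φ'.app (op n) ≫ p.app (op n))
    (c2 : ∀ n : ℕ, v.app (op n) ≫ φ''.app (op n) = φ.app (op n) ≫ q.app (op n))
    (c3 : ∀ n : ℕ, w.app (op n) ≫ (φ'.app (op n))⟦(1 : ℤ)⟧' = φ''.app (op n) ≫ r.app (op n))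
    (h' : ProBij φ') (h'' : ProBij φ'') : ProBij φ := by
  have h'1 : ProBij (Functor.whiskerRight φ' (shiftFunctor D (1 : ℤ))) :=
    h'.map_of_adjunction (shiftEquiv D (1 : ℤ)).toAdjunction
  have wnat : ∀ {a b : ℕ} (hab : a ≤ b),
      tr X'' hab ≫ w.app (op a) = w.app (op b) ≫ (tr X' hab)⟦(1 : ℤ)⟧' := fun hab =>
    w.naturality (homOfLE hab).op
  have rnat : ∀ {a b : ℕ} (hab : a ≤ b),
      tr Y'' hab ≫ r.app (op a) = r.app (op b) ≫ (tr Y' hab)⟦(1 : ℤ)⟧' := fun hab =>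
    r.naturality (homOfLE hab).op
  refine ⟨?_, ?_⟩
  · -- injectivity
    intro W j ψ m hm h0
    -- Step 1
    have s1 : tr X' hm ≫ φ'.app (op j) ≫ (p.app (op j) ≫ ψ) = 0 := by
      rw [← reassoc_of% (c1 j), reassoc_of% (tr_naturality u hm), h0, comp_zero]
    obtain ⟨m₁, hm₁, hmm₁, e1⟩ := h'.inj' j _ m hm s1 m
    have e1' : p.app (op m₁) ≫ tr Y hm₁ ≫ ψ = 0 := by
      rw [← reassoc_of% (tr_naturality p hm₁)]
      exact e1
    -- Step 2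
    obtain ⟨ψ'', hψ''⟩ : ∃ ψ'' : Y''.obj (op m₁) ⟶ W, tr Y hm₁ ≫ ψ = q.app (op m₁) ≫ ψ'' :=
      Triangle.yoneda_exact₂ _ (hTY m₁) _ e1'
    -- Step 3
    have s3 : v.app (op m₁) ≫ φ''.app (op m₁) ≫ ψ'' = 0 := by
      rw [reassoc_of% (c2 m₁), ← hψ'', ← reassoc_of% (tr_naturality φ hm₁),
        ← tr_comp X hm hmm₁, Category.assoc, h0, comp_zero]
    obtain ⟨χ, hχ⟩ : ∃ χ : (X'.obj (op m₁))⟦(1 : ℤ)⟧ ⟶ W,
        φ''.app (op m₁) ≫ ψ'' = w.app (op m₁) ≫ χ :=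
      Triangle.yoneda_exact₃ _ (hTX m₁) _ s3
    -- Step 4
    obtain ⟨m₂, hm₂, θ, hθ⟩ := h'1.surj m₁ χ
    change (tr X' hm₂)⟦(1 : ℤ)⟧' ≫ χ = (φ'.app (op m₂))⟦(1 : ℤ)⟧' ≫ θ at hθ
    -- Step 5
    have s5 : tr X'' (le_refl m₂) ≫ φ''.app (op m₂) ≫
        (tr Y'' hm₂ ≫ ψ'' - r.app (op m₂) ≫ θ) = 0 := by
      rw [tr_self, Category.id_comp, Preadditive.comp_sub,
        ← reassoc_of% (tr_naturality φ'' hm₂), hχ, reassoc_of% (wnat hm₂), hθ,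
        ← reassoc_of% (c3 m₂), sub_self]
    obtain ⟨m₃, hm₃, e5⟩ := h''.inj m₂ _ m₂ le_rfl s5
    rw [Preadditive.comp_sub, sub_eq_zero, reassoc_of% (tr_comp Y'' hm₂ hm₃)] at e5
    -- Step 6
    refine ⟨m₃, hm₁.trans (hm₂.trans hm₃), ?_⟩
    have qr : q.app (op m₃) ≫ r.app (op m₃) = 0 := comp_distTriang_mor_zero₂₃ _ (hTY m₃)
    rw [← tr_comp Y hm₁ (hm₂.trans hm₃), Category.assoc, hψ'',
      reassoc_of% (tr_naturality q (hm₂.trans hm₃)), e5, reassoc_of% (rnat hm₃),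
      reassoc_of% qr, zero_comp]
  · -- surjectivity
    intro W j χ
    -- Step 1
    obtain ⟨m₁, hm₁, θ', hθ'⟩ := h'.surj j (u.app (op j) ≫ χ)
    -- Step 2
    have wu : w.app (op m₁) ≫ (u.app (op m₁))⟦(1 : ℤ)⟧' = 0 :=
      comp_distTriang_mor_zero₃₁ _ (hTX m₁)
    have s2 : tr X'' (le_refl m₁) ≫ φ''.app (op m₁) ≫ (r.app (op m₁) ≫ θ'⟦(1 : ℤ)⟧') = 0 := by
      have e : (φ'.app (op m₁))⟦(1 : ℤ)⟧' ≫ θ'⟦(1 : ℤ)⟧' =
          (u.app (op m₁))⟦(1 : ℤ)⟧' ≫ (tr X hm₁ ≫ χ)⟦(1 : ℤ)⟧' := by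
        rw [← Functor.map_comp, ← Functor.map_comp, ← hθ', reassoc_of% (tr_naturality u hm₁)]
      rw [tr_self, Category.id_comp, ← reassoc_of% (c3 m₁), e, reassoc_of% wu, zero_comp]
    obtain ⟨m₂, hm₂, e2⟩ := h''.inj m₁ _ m₁ le_rfl s2
    have e2' : r.app (op m₂) ≫ (tr Y' hm₂ ≫ θ')⟦(1 : ℤ)⟧' = 0 := by
      rw [Functor.map_comp, ← reassoc_of% (rnat hm₂)]
      exact e2
    obtain ⟨g', hg'⟩ : ∃ g' : (Y.obj (op m₂))⟦(1 : ℤ)⟧ ⟶ W⟦(1 : ℤ)⟧,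
        (tr Y' hm₂ ≫ θ')⟦(1 : ℤ)⟧' = (-(p.app (op m₂))⟦(1 : ℤ)⟧') ≫ g' :=
      Triangle.yoneda_exact₃ _ (rot_of_distTriang _ (hTY m₂)) _ e2'
    let ψ₁ : Y.obj (op m₂) ⟶ W := -(shiftFunctor D (1 : ℤ)).preimage g'
    have hψ₁ : p.app (op m₂) ≫ ψ₁ = tr Y' hm₂ ≫ θ' := by
      apply (shiftFunctor D (1 : ℤ)).map_injective
      rw [hg', Functor.map_comp]
      dsimp only [ψ₁]
      rw [Functor.map_neg, Functor.map_preimage, Preadditive.comp_neg, Preadditive.neg_comp]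
    -- Step 3
    have s3 : u.app (op m₂) ≫ (tr X (hm₁.trans hm₂) ≫ χ - φ.app (op m₂) ≫ ψ₁) = 0 := by
      rw [Preadditive.comp_sub, ← reassoc_of% (tr_naturality u (hm₁.trans hm₂)),
        reassoc_of% (c1 m₂), hψ₁, ← tr_comp X' hm₁ hm₂, Category.assoc, hθ',
        reassoc_of% (tr_naturality φ' hm₂), sub_self]
    obtain ⟨ε'', hε''⟩ : ∃ ε'' : X''.obj (op m₂) ⟶ W,
        tr X (hm₁.trans hm₂) ≫ χ - φ.app (op m₂) ≫ ψ₁ = v.app (op m₂) ≫ ε'' :=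
      Triangle.yoneda_exact₂ _ (hTX m₂) _ s3
    -- Step 4
    obtain ⟨m₃, hm₃, ψ'', hψ''⟩ := h''.surj m₂ ε''
    -- Step 5
    refine ⟨m₃, hm₁.trans (hm₂.trans hm₃), q.app (op m₃) ≫ ψ'' + tr Y hm₃ ≫ ψ₁, ?_⟩
    have e1 : tr X (hm₁.trans hm₂) ≫ χ = v.app (op m₂) ≫ ε'' + φ.app (op m₂) ≫ ψ₁ := by
      rw [← hε'']; abel
    rw [← tr_comp X (hm₁.trans hm₂) hm₃, Category.assoc, e1, Preadditive.comp_add,
      Preadditive.comp_add, reassoc_of% (tr_naturality v hm₃), hψ'', ← reassoc_of% (c2 m₃),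
      reassoc_of% (tr_naturality φ hm₃)]

end Main

end Groth.Agent.H33.ProIso
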