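import Groth.Agent.H33.ProIso
import Groth.Agent.H33.ProDer

/-!
# Pro-isomorphisms of inverse systems in the derived category, detected on cohomology
-/

set_option autoImplicit false
universe w v u

open CategoryTheory CategoryTheory.Limits Opposite ZeroObject

namespace Groth.Agent.H33.ProIsoDer

open ARSys Groth.Agent.H33.ProTri Groth.Agent.H33.ProIso Groth.Agent.H33.ProDer

section General

variable {C : Type u} [Category.{v} C]

/-- Pro-isomorphisms are invariant under isomorphisms of the source and target systems. -/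
lemma isProIso_of_iso {X₁ X₂ Y₁ Y₂ : PS C} (eX : X₁ ≅ X₂) (eY : Y₁ ≅ Y₂) (f₁ : X₁ ⟶ Y₁)
    (f₂ : X₂ ⟶ Y₂) (comm : f₁ ≫ eY.hom = eX.hom ≫ f₂) (h : DerCA.IsProIso f₁) :
    DerCA.IsProIso f₂ := by
  have comm' : ∀ n : ℕ, f₂.app (op n) = eX.inv.app (op n) ≫ f₁.app (op n) ≫ eY.hom.app (op n) := by
    intro n
    have := congrArg (fun t => eX.inv.app (op n) ≫ t.app (op n)) comm
    dsimp at this
    rw [this, ← Category.assoc, ← NatTrans.comp_app, eX.inv_hom_id, NatTrans.id_app,
      Category.id_comp]
  intro n
  obtain ⟨m, hm, b, hb1, hb2⟩ := h n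
  refine ⟨m, hm, eY.inv.app (op m) ≫ b ≫ eX.hom.app (op n), ?_, ?_⟩
  · rw [comm' m]
    simp only [Category.assoc, Iso.hom_inv_id_app_assoc]
    rw [reassoc_of% hb1, tr_naturality eX.hom hm, Iso.inv_hom_id_app_assoc]
  · rw [comm' n]
    simp only [Category.assoc, Iso.hom_inv_id_app_assoc]
    rw [reassoc_of% hb2, tr_naturality eY.hom hm, Iso.inv_hom_id_app_assoc]

/-- Any morphism between systems of zero objects is a pro-isomorphism. -/
lemma isProIso_of_isZero [HasZeroMorphisms C] {X Y : PS C} (f : X ⟶ Y)
    (hX : ∀ n : ℕ, IsZero (X.obj (op n))) (hY : ∀ n : ℕ, IsZero (Y.obj (op n))) :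
    DerCA.IsProIso f := fun n =>
  ⟨n, le_rfl, 0, (hX n).eq_of_tgt _ _, (hY n).eq_of_tgt _ _⟩

/-- Transfer of pro-isomorphisms along a functor which is fully faithful on a class of objects
containing the terms of the systems. -/
lemma isProIso_of_fullyFaithfulOn {E : Type*} [Category E] (F : C ⥤ E) (P : C → Prop)
    (hfull : ∀ {U V : C}, P U → P V → ∀ φ : F.obj U ⟶ F.obj V, ∃ g : U ⟶ V, F.map g = φ)
    (hfaith : ∀ {U V : C}, P U → P V → ∀ g g' : U ⟶ V, F.map g = F.map g' → g = g')
    {X Y : PS C} (hX : ∀ n : ℕ, P (X.obj (op n))) (hY : ∀ n : ℕ, P (Y.obj (op n)))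
    (f : X ⟶ Y) (h : DerCA.IsProIso (Functor.whiskerRight f F)) : DerCA.IsProIso f := by
  intro n
  obtain ⟨m, hm, b, hb1, hb2⟩ := h n
  obtain ⟨b', hb'⟩ := hfull (hY m) (hX n) b
  refine ⟨m, hm, b', ?_, ?_⟩
  · apply hfaith (hX m) (hX n)
    rw [F.map_comp, hb']
    exact hb1
  · apply hfaith (hY m) (hY n)
    rw [F.map_comp, hb']
    exact hb2

end General

section Derived

variable {A : Type u} [Category.{v} A] [Abelian A] [HasDerivedCategory.{w} A]

open DerivedCategory

lemma isProIso_of_concentrated {X Y : PS (DerivedCategory A)} (f : X ⟶ Y) (b : ℤ)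
    (hXGE : ∀ n : ℕ, (X.obj (op n)).IsGE b) (hXLE : ∀ n : ℕ, (X.obj (op n)).IsLE b)
    (hYGE : ∀ n : ℕ, (Y.obj (op n)).IsGE b) (hYLE : ∀ n : ℕ, (Y.obj (op n)).IsLE b)
    (h : DerCA.IsProIso (Functor.whiskerRight f (homologyFunctor A b))) : DerCA.IsProIso f := by
  refine isProIso_of_fullyFaithfulOn (homologyFunctor A b) (fun U => U.IsGE b ∧ U.IsLE b)
    ?_ ?_ (fun n => ⟨hXGE n, hXLE n⟩) (fun n => ⟨hYGE n, hYLE n⟩) f h
  · rintro U V ⟨_, _⟩ ⟨_, _⟩ φ
    exact exists_map_of_homology b φ
  · rintro U V ⟨_, _⟩ ⟨_, _⟩ g g' hgg'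
    rw [← sub_eq_zero]
    apply Groth.Agent.H72.eq_zero_of_homologyFunctor_map_eq_zero b
    rw [Functor.map_sub, hgg', sub_self]

open Pretriangulated in
/-- A morphism of inverse systems in `D(A)` with cohomology in a fixed bounded range which is a
pro-isomorphism on all cohomology systems is a pro-isomorphism (induction on the amplitude). -/
theorem isProIso_of_homology (d : ℕ) : ∀ (X Y : PS (DerivedCategory A)) (f : X ⟶ Y) (a b : ℤ),
    b - a = d →
    (∀ n : ℕ, (X.obj (op n)).IsGE a) → (∀ n : ℕ, (X.obj (op n)).IsLE b) →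
    (∀ n : ℕ, (Y.obj (op n)).IsGE a) → (∀ n : ℕ, (Y.obj (op n)).IsLE b) →
    (∀ i : ℤ, DerCA.IsProIso (Functor.whiskerRight f (homologyFunctor A i))) →
    DerCA.IsProIso f := by
  induction d with
  | zero =>
    intro X Y f a b hab hXGE hXLE hYGE hYLE hH
    obtain rfl : a = b := by omega
    exact isProIso_of_concentrated f a hXGE hXLE hYGE hYLE (hH a)
  | succ d ih =>
    intro X Y f a b hab hXGE hXLE hYGE hYLE hH
    let t := TStructure.t (C := A)
    let u : X ⋙ t.truncLT b ⟶ X := Functor.whiskerLeft X (t.truncLTι b)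
    let v : X ⟶ X ⋙ t.truncGE b := Functor.whiskerLeft X (t.truncGEπ b)
    let w : X ⋙ t.truncGE b ⟶ (X ⋙ t.truncLT b) ⋙ shiftFunctor (DerivedCategory A) (1 : ℤ) :=
      Functor.whiskerLeft X (t.truncGEδLT b)
    let p : Y ⋙ t.truncLT b ⟶ Y := Functor.whiskerLeft Y (t.truncLTι b)
    let q : Y ⟶ Y ⋙ t.truncGE b := Functor.whiskerLeft Y (t.truncGEπ b)
    let r : Y ⋙ t.truncGE b ⟶ (Y ⋙ t.truncLT b) ⋙ shiftFunctor (DerivedCategory A) (1 : ℤ) :=
      Functor.whiskerLeft Y (t.truncGEδLT b)
    let φ' : X ⋙ t.truncLT b ⟶ Y ⋙ t.truncLT b := Functor.whiskerRight f (t.truncLT b)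
    let φ'' : X ⋙ t.truncGE b ⟶ Y ⋙ t.truncGE b := Functor.whiskerRight f (t.truncGE b)
    have hTX : ∀ n : ℕ, Triangle.mk (u.app (op n)) (v.app (op n)) (w.app (op n)) ∈
        distTriang (DerivedCategory A) := fun n => t.triangleLTGE_distinguished b (X.obj (op n))
    have hTY : ∀ n : ℕ, Triangle.mk (p.app (op n)) (q.app (op n)) (r.app (op n)) ∈
        distTriang (DerivedCategory A) := fun n => t.triangleLTGE_distinguished b (Y.obj (op n))
    have c1 : ∀ n : ℕ, u.app (op n) ≫ f.app (op n) = φ'.app (op n) ≫ p.app (op n) := fun n =>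
      ((t.truncLTι b).naturality (f.app (op n))).symm
    have c2 : ∀ n : ℕ, v.app (op n) ≫ φ''.app (op n) = f.app (op n) ≫ q.app (op n) := fun n =>
      ((t.truncGEπ b).naturality (f.app (op n))).symm
    have c3 : ∀ n : ℕ, w.app (op n) ≫ (φ'.app (op n))⟦(1 : ℤ)⟧' = φ''.app (op n) ≫ r.app (op n) :=
      fun n => ((t.truncGEδLT b).naturality (f.app (op n))).symm
    -- the truncation below
    have h' : DerCA.IsProIso φ' := by
      apply ih _ _ φ' a (b - 1) (by omega)
      · intro n
        have := hXGE n
        change t.IsGE ((t.truncLT b).obj (X.obj (op n))) a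
        infer_instance
      · intro n
        change t.IsLE ((t.truncLT b).obj (X.obj (op n))) (b - 1)
        infer_instance
      · intro n
        have := hYGE n
        change t.IsGE ((t.truncLT b).obj (Y.obj (op n))) a
        infer_instance
      · intro n
        change t.IsLE ((t.truncLT b).obj (Y.obj (op n))) (b - 1)
        infer_instance
      · intro i
        by_cases hi : i < b
        · have hu : ∀ n : ℕᵒᵖ, IsIso ((Functor.whiskerRight u (homologyFunctor A i)).app n) :=
            fun n => Groth.Agent.H45.isIso_homologyMap_truncLTι (X.obj n) b i hi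
          have hp : ∀ n : ℕᵒᵖ, IsIso ((Functor.whiskerRight p (homologyFunctor A i)).app n) :=
            fun n => Groth.Agent.H45.isIso_homologyMap_truncLTι (Y.obj n) b i hi
          have hu' : IsIso (Functor.whiskerRight u (homologyFunctor A i)) :=
            NatIso.isIso_of_isIso_app _
          have hp' : IsIso (Functor.whiskerRight p (homologyFunctor A i)) :=
            NatIso.isIso_of_isIso_app _
          refine isProIso_of_iso (asIso (Functor.whiskerRight u (homologyFunctor A i))).symm
            (asIso (Functor.whiskerRight p (homologyFunctor A i))).symm _ _ ?_ (hH i)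
          rw [Iso.symm_hom, Iso.symm_hom, asIso_inv, asIso_inv, IsIso.comp_inv_eq,
            Category.assoc, IsIso.eq_inv_comp]
          ext n
          dsimp
          rw [← Functor.map_comp, ← Functor.map_comp, c1]
        · apply isProIso_of_isZero
          · intro n
            have : ((t.truncLT b).obj (X.obj (op n))).IsLE (b - 1) := by
              change t.IsLE ((t.truncLT b).obj (X.obj (op n))) (b - 1)
              infer_instance
            exact isZero_of_isLE ((t.truncLT b).obj (X.obj (op n))) (b - 1) i (by omega)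
          · intro n
            have : ((t.truncLT b).obj (Y.obj (op n))).IsLE (b - 1) := by
              change t.IsLE ((t.truncLT b).obj (Y.obj (op n))) (b - 1)
              infer_instance
            exact isZero_of_isLE ((t.truncLT b).obj (Y.obj (op n))) (b - 1) i (by omega)
    -- the top cohomology
    have h'' : DerCA.IsProIso φ'' := by
      apply isProIso_of_concentrated φ'' b
      · intro n
        change t.IsGE ((t.truncGE b).obj (X.obj (op n))) b
        infer_instance
      · intro n
        have := hXLE n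
        change t.IsLE ((t.truncGE b).obj (X.obj (op n))) b
        infer_instance
      · intro n
        change t.IsGE ((t.truncGE b).obj (Y.obj (op n))) b
        infer_instance
      · intro n
        have := hYLE n
        change t.IsLE ((t.truncGE b).obj (Y.obj (op n))) b
        infer_instance
      · have hv : ∀ n : ℕᵒᵖ, IsIso ((Functor.whiskerRight v (homologyFunctor A b)).app n) :=
          fun n => Groth.Agent.H45.isIso_homologyMap_truncGEπ (X.obj n) b b le_rfl
        have hq : ∀ n : ℕᵒᵖ, IsIso ((Functor.whiskerRight q (homologyFunctor A b)).app n) :=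
          fun n => Groth.Agent.H45.isIso_homologyMap_truncGEπ (Y.obj n) b b le_rfl
        have hv' : IsIso (Functor.whiskerRight v (homologyFunctor A b)) :=
          NatIso.isIso_of_isIso_app _
        have hq' : IsIso (Functor.whiskerRight q (homologyFunctor A b)) :=
          NatIso.isIso_of_isIso_app _
        refine isProIso_of_iso (asIso (Functor.whiskerRight v (homologyFunctor A b)))
          (asIso (Functor.whiskerRight q (homologyFunctor A b))) _ _ ?_ (hH b)
        ext n
        dsimp
        rw [← Functor.map_comp, ← Functor.map_comp, c2]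
    exact isProIso_of_proBij (proBij_two_out_of_three u v w p q r hTX hTY φ' f φ'' c1 c2 c3
      (proBij_of_isProIso h') (proBij_of_isProIso h''))

end Derived

end Groth.Agent.H33.ProIsoDer
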