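import Mathlib
import Groth.Prelude.Def_DerCA

/-!
# Essentially constant inverse systems in triangulated categories

`ProVal X A i s` says that `s : X_i ⟶ A` exhibits `A` as the value of the pro-object `X` in the sense
that `Hom(A, W) ⟶ colim_n Hom(X_n, W)` is bijective for all `W`.  This is equivalent to essential
constancy with value `A`, and satisfies a two-out-of-three property for inverse systems of
distinguished triangles (a hands-on five lemma).
-/

set_option autoImplicit false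
universe v u

open CategoryTheory CategoryTheory.Limits Opposite

namespace Groth.Agent.H33.ProTri

open ARSys

section General

variable {D : Type u} [Category.{v} D]

lemma tr_comp (X : PS D) {a b c : ℕ} (hab : a ≤ b) (hbc : b ≤ c) :
    tr X hbc ≫ tr X hab = tr X (hab.trans hbc) := by
  dsimp only [tr]
  rw [← X.map_comp]
  rfl

lemma tr_self (X : PS D) (a : ℕ) : tr X (le_refl a) = 𝟙 _ := by
  dsimp only [tr]
  exact X.map_id _

lemma tr_naturality {X Y : PS D} (f : X ⟶ Y) {a b : ℕ} (hab : a ≤ b) :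
    tr X hab ≫ f.app (op a) = f.app (op b) ≫ tr Y hab :=
  f.naturality (homOfLE hab).op

variable [Preadditive D]

/-- `s : X_i ⟶ A` exhibits `A` as the value of the pro-object `X`. -/
structure ProVal (X : PS D) (A : D) (i : ℕ) (s : X.obj (op i) ⟶ A) : Prop where
  inj : ∀ {W : D} (φ : A ⟶ W) (m : ℕ) (h : i ≤ m), tr X h ≫ s ≫ φ = 0 → φ = 0
  surj : ∀ {W : D} (j : ℕ) (ψ : X.obj (op j) ⟶ W), ∃ (m : ℕ) (hi : i ≤ m) (hj : j ≤ m)
    (φ : A ⟶ W), tr X hj ≫ ψ = tr X hi ≫ s ≫ φ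

namespace ProVal

variable {X : PS D} {A : D} {i : ℕ} {s : X.obj (op i) ⟶ A}

/-- Variant of `surj` with an arbitrary lower bound on the index. -/
lemma surj' (hs : ProVal X A i s) {W : D} (j : ℕ) (ψ : X.obj (op j) ⟶ W) (N : ℕ) :
    ∃ (m : ℕ) (hi : i ≤ m) (hj : j ≤ m) (_ : N ≤ m) (φ : A ⟶ W),
      tr X hj ≫ ψ = tr X hi ≫ s ≫ φ := by
  obtain ⟨m, hi, hj, φ, h⟩ := hs.surj j ψ
  refine ⟨max m N, hi.trans (le_max_left _ _), hj.trans (le_max_left _ _), le_max_right _ _, φ, ?_⟩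
  rw [← tr_comp X hj (le_max_left m N), Category.assoc, h, ← Category.assoc, tr_comp]

lemma inj_eq (hs : ProVal X A i s) {W : D} (φ φ' : A ⟶ W) (m : ℕ) (h : i ≤ m)
    (e : tr X h ≫ s ≫ φ = tr X h ≫ s ≫ φ') : φ = φ' := by
  rw [← sub_eq_zero]
  apply hs.inj _ m h
  rw [Preadditive.comp_sub, Preadditive.comp_sub, e, sub_self]

/-- Enlarging the index. -/
lemma mono (hs : ProVal X A i s) {i' : ℕ} (hii' : i ≤ i') : ProVal X A i' (tr X hii' ≫ s) where
  inj φ m h e := by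
    apply hs.inj φ m (hii'.trans h)
    rw [← tr_comp X hii' h, Category.assoc]
    simpa using e
  surj j ψ := by
    obtain ⟨m, hi, hj, hN, φ, h⟩ := hs.surj' j ψ i'
    refine ⟨m, hN, hj, φ, ?_⟩
    rw [h, ← tr_comp X hii' hN, Category.assoc, Category.assoc]

end ProVal

/-- An essentially constant system has a value in the sense of `ProVal`. -/
lemma proVal_of_isEssConstant {X : PS D} {A : D} {c : (Functor.const ℕᵒᵖ).obj A ⟶ X}
    (h : DerCA.IsEssConstant X A c) : ∃ (i : ℕ) (s : X.obj (op i) ⟶ A), ProVal X A i s := by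
  obtain ⟨i, s, hs, hfac⟩ := h
  refine ⟨i, s, ⟨?_, ?_⟩⟩
  · intro W φ m hm e
    have h1 : c.app (op m) ≫ tr X hm = c.app (op i) := by
      have := c.naturality (homOfLE hm).op
      dsimp at this
      rw [Category.id_comp] at this
      exact this.symm
    have : c.app (op m) ≫ tr X hm ≫ s ≫ φ = 0 := by rw [e, comp_zero]
    rw [← Category.assoc, h1, ← Category.assoc, hs] at this
    simpa using this
  · intro W j ψ
    obtain ⟨k, hi, hj, hk⟩ := hfac j
    exact ⟨k, hi, hj, c.app (op j) ≫ ψ, by rw [hk]; simp⟩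

/-- Conversely, a value in the sense of `ProVal` gives essential constancy. -/
lemma isEssConstant_of_proVal {X : PS D} {A : D} {i : ℕ} {s : X.obj (op i) ⟶ A}
    (hs : ProVal X A i s) : ∃ c : (Functor.const ℕᵒᵖ).obj A ⟶ X, DerCA.IsEssConstant X A c := by
  choose m hi hj φ hφ using fun j => hs.surj j (𝟙 (X.obj (op j)))
  have key : ∀ (j j' : ℕ) (hjj' : j ≤ j'), φ j' ≫ tr X hjj' = φ j := by
    intro j j' hjj'
    let M := max (m j) (m j')
    have hM : m j ≤ M := le_max_left _ _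
    have hM' : m j' ≤ M := le_max_right _ _
    apply hs.inj_eq _ _ M ((hi j).trans hM)
    have e1 : tr X ((hi j).trans hM) ≫ s ≫ φ j = tr X ((hj j).trans hM) := by
      rw [← tr_comp X (hi j) hM, Category.assoc, ← hφ j, Category.comp_id, tr_comp]
    have e2 : tr X ((hi j).trans hM) ≫ s ≫ φ j' = tr X ((hj j').trans hM') := by
      have : tr X ((hi j).trans hM) = tr X ((hi j').trans hM') := rfl
      rw [this, ← tr_comp X (hi j') hM', Category.assoc, ← hφ j', Category.comp_id, tr_comp]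
    rw [e1, ← Category.assoc, ← Category.assoc, Category.assoc _ s, e2, tr_comp]
  refine ⟨{ app := fun j => φ j.unop, naturality := ?_ }, i, s, ?_, ?_⟩
  · intro a b f
    dsimp
    rw [Category.id_comp]
    exact (key b.unop a.unop (leOfHom f.unop)).symm
  · dsimp
    apply hs.inj_eq _ _ (m i) (hi i)
    have := hφ i
    rw [Category.comp_id] at this
    rw [Category.comp_id, ← Category.assoc s, ← Category.assoc, ← Category.assoc, Category.assoc _ s,
      ← this]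
  · intro j
    refine ⟨m j, hi j, hj j, ?_⟩
    have := hφ j
    rw [Category.comp_id] at this
    exact this

end General

section Equivalence

variable {D : Type u} [Category.{v} D] [Preadditive D]

/-- `ProVal` is preserved by an additive left adjoint functor (e.g. an equivalence). -/
lemma ProVal.map_of_adjunction {X : PS D} {A : D} {i : ℕ} {s : X.obj (op i) ⟶ A}
    (hs : ProVal X A i s) {E G : D ⥤ D} [E.Additive] (adj : E ⊣ G) :
    ProVal (X ⋙ E) (E.obj A) i (E.map s) where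
  inj {W} φ m h e := by
    have e' : E.map (tr X h ≫ s) ≫ φ = 0 := by
      rw [E.map_comp, Category.assoc]
      exact e
    have h1 : (tr X h ≫ s) ≫ adj.homEquiv _ _ φ = 0 := by
      rw [← Adjunction.homEquiv_naturality_left, e']
      exact (Equiv.eq_symm_apply _).1
        (by rw [Adjunction.homEquiv_counit, E.map_zero, zero_comp])
    have h2 := hs.inj (adj.homEquiv _ _ φ) m h (by rw [← Category.assoc]; exact h1)
    have h3 : φ = (adj.homEquiv _ _).symm (adj.homEquiv _ _ φ) := (Equiv.symm_apply_apply _ _).symm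
    rw [h3, h2, Adjunction.homEquiv_counit, E.map_zero, zero_comp]
  surj {W} j ψ := by
    obtain ⟨m, hi, hj, φ', h⟩ := hs.surj j (adj.homEquiv _ _ ψ)
    refine ⟨m, hi, hj, (adj.homEquiv _ _).symm φ', ?_⟩
    change E.map (tr X hj) ≫ ψ = E.map (tr X hi) ≫ E.map s ≫ _
    have h3 : ψ = (adj.homEquiv _ _).symm (adj.homEquiv _ _ ψ) := (Equiv.symm_apply_apply _ _).symm
    rw [h3, ← Adjunction.homEquiv_naturality_left_symm, h, ← Category.assoc,
      Adjunction.homEquiv_naturality_left_symm, E.map_comp, Category.assoc]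

end Equivalence

section Main

variable {D : Type u} [Category.{v} D] [Preadditive D] [HasZeroObject D] [HasShift D ℤ]
    [∀ n : ℤ, (shiftFunctor D n).Additive] [Pretriangulated D]

open Pretriangulated

/-- Two out of three for values of inverse systems of distinguished triangles: if the outer systems
have values, so does the middle one. -/
theorem proVal_two_out_of_three {X Y Z : PS D} (f : X ⟶ Y) (g : Y ⟶ Z)
    (h : Z ⟶ X ⋙ shiftFunctor D (1 : ℤ))
    (hT : ∀ n : ℕ, Triangle.mk (f.app (op n)) (g.app (op n)) (h.app (op n)) ∈ distTriang D)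
    {A C : D} {iA iC : ℕ} {sA₀ : X.obj (op iA) ⟶ A} {sC₀ : Z.obj (op iC) ⟶ C}
    (hA₀ : ProVal X A iA sA₀) (hC₀ : ProVal Z C iC sC₀) :
    ∃ (B : D) (k : ℕ) (β : Y.obj (op k) ⟶ B), ProVal Y B k β := by
  -- common index
  obtain ⟨i, sA, sC, hA, hC⟩ : ∃ (i : ℕ) (sA : X.obj (op i) ⟶ A) (sC : Z.obj (op i) ⟶ C),
      ProVal X A i sA ∧ ProVal Z C i sC :=
    ⟨max iA iC, _, _, hA₀.mono (le_max_left _ _), hC₀.mono (le_max_right _ _)⟩
  have hA1 : ProVal (X ⋙ shiftFunctor D (1 : ℤ)) (A⟦(1 : ℤ)⟧) i (sA⟦(1 : ℤ)⟧') :=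
    hA.map_of_adjunction (shiftEquiv D (1 : ℤ)).toAdjunction
  -- naturality of `h`
  have hnat : ∀ {a b : ℕ} (hab : a ≤ b),
      tr Z hab ≫ h.app (op a) = h.app (op b) ≫ (tr X hab)⟦(1 : ℤ)⟧' := fun hab =>
    h.naturality (homOfLE hab).op
  -- the connecting morphism
  obtain ⟨k, hik, hik', δ, hδ⟩ := hC.surj i (h.app (op i) ≫ sA⟦(1 : ℤ)⟧')
  obtain ⟨B, u, v, hB⟩ := distinguished_cocone_triangle₂ δ
  have sq3 : ∀ (m : ℕ) (hm : k ≤ m),
      h.app (op m) ≫ (tr X (hik.trans hm) ≫ sA)⟦(1 : ℤ)⟧' = tr Z (hik.trans hm) ≫ sC ≫ δ := by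
    intro m hm
    rw [Functor.map_comp, ← reassoc_of% (hnat (hik.trans hm)), ← tr_comp Z hik hm, Category.assoc,
      Category.assoc, ← hδ]
  obtain ⟨β, hβ1, hβ2⟩ : ∃ β : Y.obj (op k) ⟶ B, f.app (op k) ≫ β = (tr X hik ≫ sA) ≫ u ∧
      g.app (op k) ≫ tr Z hik ≫ sC = β ≫ v :=
    complete_distinguished_triangle_morphism₂ _ _ (hT k) hB
      (tr X hik ≫ sA) (tr Z hik ≫ sC) (by
        change h.app (op k) ≫ (tr X hik ≫ sA)⟦(1 : ℤ)⟧' = (tr Z hik ≫ sC) ≫ δ
        rw [Category.assoc]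
        exact sq3 k le_rfl)
  rw [Category.assoc] at hβ1
  have sq1 : ∀ (m : ℕ) (hm : k ≤ m),
      f.app (op m) ≫ tr Y hm ≫ β = tr X (hik.trans hm) ≫ sA ≫ u := by
    intro m hm
    rw [← reassoc_of% (tr_naturality f hm), hβ1, reassoc_of% (tr_comp X hik hm)]
  have sq2 : ∀ (m : ℕ) (hm : k ≤ m),
      g.app (op m) ≫ tr Z (hik.trans hm) ≫ sC = tr Y hm ≫ β ≫ v := by
    intro m hm
    rw [← hβ2, reassoc_of% (tr_naturality g hm), reassoc_of% (tr_comp Z hik hm)]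
  refine ⟨B, k, β, ⟨?_, ?_⟩⟩
  · -- injectivity
    intro W φ m hm e
    have h1 : u ≫ φ = 0 := by
      apply hA.inj (u ≫ φ) m (hik.trans hm)
      rw [← reassoc_of% (sq1 m hm), e, comp_zero]
    obtain ⟨φ', hφ'⟩ : ∃ φ' : C ⟶ W, φ = v ≫ φ' := Triangle.yoneda_exact₂ _ hB φ h1
    have h2 : g.app (op m) ≫ (tr Z (hik.trans hm) ≫ sC ≫ φ') = 0 := by
      rw [reassoc_of% (sq2 m hm), ← hφ', e]
    obtain ⟨ψ, hψ⟩ : ∃ ψ : (X.obj (op m))⟦(1 : ℤ)⟧ ⟶ W,
        tr Z (hik.trans hm) ≫ sC ≫ φ' = h.app (op m) ≫ ψ :=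
      Triangle.yoneda_exact₃ _ (hT m) (tr Z (hik.trans hm) ≫ sC ≫ φ') h2
    obtain ⟨m', hi', hm', θ, hθ⟩ := hA1.surj m ψ
    change (tr X hm')⟦(1 : ℤ)⟧' ≫ ψ = (tr X hi')⟦(1 : ℤ)⟧' ≫ sA⟦(1 : ℤ)⟧' ≫ θ at hθ
    have h3 : φ' = δ ≫ θ := by
      apply hC.inj_eq _ _ m' hi'
      have e1 : tr Z hi' ≫ sC ≫ φ' = tr Z hm' ≫ tr Z (hik.trans hm) ≫ sC ≫ φ' := by
        rw [reassoc_of% (tr_comp Z (hik.trans hm) hm')]
      have e2 := sq3 m' (hm.trans hm')
      rw [Functor.map_comp] at e2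
      rw [e1, hψ, reassoc_of% (hnat hm'), hθ, ← reassoc_of% e2]
    rw [hφ', h3]
    have : v ≫ δ = 0 := comp_distTriang_mor_zero₂₃ _ hB
    rw [reassoc_of% this, zero_comp]
  · -- surjectivity
    intro W j ψ
    obtain ⟨m, hi, hj, hk, θ, hθ⟩ := hA.surj' j (f.app (op j) ≫ ψ) k
    have h1 : δ ≫ θ⟦(1 : ℤ)⟧' = 0 := by
      apply hC.inj _ m hi
      have e1 := sq3 m hk
      have e2 : tr X hi ≫ sA ≫ θ = tr X hj ≫ f.app (op j) ≫ ψ := hθ.symm
      have e3 : h.app (op j) ≫ (f.app (op j))⟦(1 : ℤ)⟧' = 0 := comp_distTriang_mor_zero₃₁ _ (hT j)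
      have e4 : (tr X hi ≫ sA)⟦(1 : ℤ)⟧' ≫ θ⟦(1 : ℤ)⟧' =
          (tr X hj)⟦(1 : ℤ)⟧' ≫ (f.app (op j))⟦(1 : ℤ)⟧' ≫ ψ⟦(1 : ℤ)⟧' := by
        rw [← Functor.map_comp, ← Functor.map_comp, ← Functor.map_comp, Category.assoc, e2]
      have e5 : tr Z hi ≫ sC ≫ δ ≫ θ⟦(1 : ℤ)⟧' =
          (h.app (op m) ≫ (tr X hi ≫ sA)⟦(1 : ℤ)⟧') ≫ θ⟦(1 : ℤ)⟧' := by
        rw [e1, Category.assoc, Category.assoc]
      rw [e5, Category.assoc, e4, ← reassoc_of% (hnat hj), reassoc_of% e3, zero_comp, comp_zero]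
    obtain ⟨g', hg'⟩ : ∃ g' : B⟦(1 : ℤ)⟧ ⟶ W⟦(1 : ℤ)⟧, θ⟦(1 : ℤ)⟧' = (-u⟦(1 : ℤ)⟧') ≫ g' :=
      Triangle.yoneda_exact₃ _ (rot_of_distTriang _ hB) (θ⟦(1 : ℤ)⟧') h1
    let φ₁ : B ⟶ W := -(shiftFunctor D (1 : ℤ)).preimage g'
    have hφ₁ : u ≫ φ₁ = θ := by
      apply (shiftFunctor D (1 : ℤ)).map_injective
      rw [Functor.map_comp, hg']
      dsimp only [φ₁]
      rw [Functor.map_neg, Functor.map_preimage, Preadditive.comp_neg, Preadditive.neg_comp]
    have h2 : f.app (op m) ≫ (tr Y hj ≫ ψ - tr Y hk ≫ β ≫ φ₁) = 0 := by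
      rw [Preadditive.comp_sub, ← reassoc_of% (tr_naturality f hj), hθ,
        reassoc_of% (sq1 m hk), hφ₁]
      exact sub_self _
    obtain ⟨ε', hε'⟩ : ∃ ε' : Z.obj (op m) ⟶ W,
        tr Y hj ≫ ψ - tr Y hk ≫ β ≫ φ₁ = g.app (op m) ≫ ε' :=
      Triangle.yoneda_exact₂ _ (hT m) _ h2
    obtain ⟨m₂, hi₂, hm₂, φ₂, hφ₂⟩ := hC.surj m ε'
    refine ⟨m₂, hk.trans hm₂, hj.trans hm₂, v ≫ φ₂ + φ₁, ?_⟩
    have e1 : tr Y hj ≫ ψ = g.app (op m) ≫ ε' + tr Y hk ≫ β ≫ φ₁ := by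
      rw [← hε']; abel
    have e2 := sq2 m₂ (hk.trans hm₂)
    rw [← tr_comp Y hj hm₂, Category.assoc, e1, Preadditive.comp_add, Preadditive.comp_add,
      Preadditive.comp_add, reassoc_of% (tr_naturality g hm₂), hφ₂,
      reassoc_of% (tr_comp Y hk hm₂), reassoc_of% e2]

end Main

end Groth.Agent.H33.ProTri
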