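import Mathlib
import Groth.Agent.H33.Adapted

/-!
# `ℕ`-indexed injective resolutions from `ℤ`-indexed ones
-/

set_option autoImplicit false
universe v u

open CategoryTheory CategoryTheory.Limits

namespace Groth.Agent.H33.ResOfInt

variable {A : Type u} [Category.{v} A] [Abelian A]

/-- restriction of a `ℤ`-indexed cochain complex to `ℕ`. -/
noncomputable abbrev res (K : CochainComplex A ℤ) : CochainComplex A ℕ :=
  K.restriction ComplexShape.embeddingUpNat

/-- restriction of a morphism. -/
noncomputable abbrev resMap {K L : CochainComplex A ℤ} (f : K ⟶ L) : res K ⟶ res L :=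
  (ComplexShape.embeddingUpNat.restrictionFunctor A).map f

lemma res_exactAt_succ (K : CochainComplex A ℤ) (k : ℕ) (h : K.ExactAt ((k : ℤ) + 1)) :
    (res K).ExactAt (k + 1) := by
  rw [HomologicalComplex.exactAt_iff' _ k (k + 1) (k + 1 + 1) (by simp) (by simp)]
  rw [HomologicalComplex.exactAt_iff' _ (k : ℤ) ((k : ℤ) + 1) ((k : ℤ) + 1 + 1) (by simp)
    (by simp)] at h
  exact (ShortComplex.exact_iff_of_iso (HomologicalComplex.restriction.sc'Iso K
    ComplexShape.embeddingUpNat k (k + 1) (k + 1 + 1) (i' := (k : ℤ)) (j' := (k : ℤ) + 1)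
    (k' := (k : ℤ) + 1 + 1) (by simp) (by simp) (by simp) (by simp) (by simp))).2 h

variable {X : A} (K : CochainComplex A ℤ) [K.IsStrictlyGE 0]
  (α : (CochainComplex.singleFunctor A 0).obj X ⟶ K)

/-- the augmentation `X ⟶ K⁰`. -/
noncomputable def aug : X ⟶ K.X 0 :=
  (HomologicalComplex.singleObjXSelf (ComplexShape.up ℤ) 0 X).inv ≫ α.f 0

set_option backward.isDefEq.respectTransparency false in
lemma aug_d : aug K α ≫ K.d 0 1 = 0 := by
  have hz : IsZero (((CochainComplex.singleFunctor A 0).obj X).X 1) :=
    HomologicalComplex.isZero_single_obj_X _ _ _ _ (by simp)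
  have h1 : α.f 0 ≫ K.d 0 1 = 0 := by
    rw [α.comm 0 1, hz.eq_of_tgt (((CochainComplex.singleFunctor A 0).obj X).d 0 1) 0, zero_comp]
  dsimp only [aug]
  rw [Category.assoc, h1, comp_zero]

/-- the `ℕ`-indexed augmentation map. -/
noncomputable def ιNat : (CochainComplex.single₀ A).obj X ⟶ res K :=
  (CochainComplex.fromSingle₀Equiv (res K) X).symm ⟨aug K α, by
    change aug K α ≫ K.d ((0 : ℕ) : ℤ) ((1 : ℕ) : ℤ) = 0
    exact aug_d K α⟩

@[simp] lemma ιNat_f_zero : (ιNat K α).f 0 = aug K α := by
  dsimp only [ιNat]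
  exact CochainComplex.fromSingle₀Equiv_symm_apply_f_zero _ _

set_option backward.isDefEq.respectTransparency false in
lemma quasiIso_ιNat [QuasiIso α] : QuasiIso (ιNat K α) := by
  rw [quasiIso_iff]
  intro n
  cases n with
  | zero =>
    have h0 := (Groth.Agent.H33.Adapted.quasiIsoAt_zero_iff α
      (HomologicalComplex.isZero_single_obj_X _ _ _ _ (by simp))
      (HomologicalComplex.isZero_single_obj_X _ _ _ _ (by simp))
      (K.isZero_of_isStrictlyGE 0 (-1))).1 inferInstance
    obtain ⟨hex, hmono⟩ := h0
    rw [CochainComplex.quasiIsoAt₀_iff,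
      ShortComplex.quasiIso_iff_of_zeros _ (by simp) (by simp) (by simp)]
    constructor
    · let e : ShortComplex.mk (α.f 0) (K.d 0 1) (by
          rw [α.comm, (HomologicalComplex.isZero_single_obj_X (ComplexShape.up ℤ) 0 X 1
            (by simp)).eq_of_tgt (((CochainComplex.singleFunctor A 0).obj X).d 0 1) 0, zero_comp]) ≅
          ShortComplex.mk ((ιNat K α).f 0) ((res K).d 0 1) (by
            rw [ιNat_f_zero]
            exact aug_d K α) :=
        ShortComplex.isoMk (HomologicalComplex.singleObjXSelf (ComplexShape.up ℤ) 0 X)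
          (Iso.refl _) (Iso.refl _) (by
            dsimp
            rw [ιNat_f_zero, Category.comp_id]
            dsimp only [aug]
            rw [Iso.hom_inv_id_assoc]) (by
            dsimp
            rw [Category.comp_id, Category.id_comp]
            rfl)
      exact (ShortComplex.exact_iff_of_iso e).1 hex
    · change Mono ((ιNat K α).f 0)
      rw [ιNat_f_zero]
      dsimp only [aug]
      infer_instance
  | succ k =>
    rw [quasiIsoAt_iff_exactAt _ _ (CochainComplex.exactAt_succ_single_obj X k)]
    apply res_exactAt_succ K k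
    exact Groth.Agent.H33.Adapted.exactAt_of_ne K α _ (by omega)

/-- The `ℕ`-indexed injective resolution attached to a `ℤ`-indexed one. -/
noncomputable def resolution (hK : ∀ n, Injective (K.X n)) [QuasiIso α] : InjectiveResolution X where
  cocomplex := res K
  injective _ := hK _
  ι := ιNat K α
  quasiIso := quasiIso_ιNat K α

end Groth.Agent.H33.ResOfInt
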