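import Mathlib.CategoryTheory.Triangulated.Pretriangulated

set_option autoImplicit false
universe w v u
open CategoryTheory CategoryTheory.Limits

namespace Groth.Agent.H33

open CategoryTheory.Pretriangulated

variable {D : Type u} [Category.{v} D] [Preadditive D] [HasZeroObject D] [HasShift D ℤ]
  [∀ n : ℤ, (shiftFunctor D n).Additive] [Pretriangulated D]

set_option backward.defeqAttrib.useBackward true in
set_option backward.isDefEq.respectTransparency false in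
/-- A retract of a distinguished triangle is distinguished. -/
theorem distinguished_of_retract (T T₀ : Triangle D) (hT₀ : T₀ ∈ distTriang D)
    (i : T ⟶ T₀) (r : T₀ ⟶ T) (hir : i ≫ r = 𝟙 T) : T ∈ distTriang D := by
  have hir₁ : i.hom₁ ≫ r.hom₁ = 𝟙 _ := by
    have := congrArg TriangleMorphism.hom₁ hir
    simpa using this
  have hir₂ : i.hom₂ ≫ r.hom₂ = 𝟙 _ := by
    have := congrArg TriangleMorphism.hom₂ hir
    simpa using this
  have hir₃ : i.hom₃ ≫ r.hom₃ = 𝟙 _ := by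
    have := congrArg TriangleMorphism.hom₃ hir
    simpa using this
  have hir₁' : i.hom₁⟦(1 : ℤ)⟧' ≫ r.hom₁⟦(1 : ℤ)⟧' = 𝟙 _ := by
    rw [← Functor.map_comp, hir₁, CategoryTheory.Functor.map_id]
  -- zero composition
  have z₁₂ : T.mor₁ ≫ T.mor₂ = 0 := by
    have h : T.mor₁ ≫ T.mor₂ ≫ i.hom₃ = 0 := by
      rw [i.comm₂, ← Category.assoc, i.comm₁, Category.assoc,
        comp_distTriang_mor_zero₁₂ _ hT₀, comp_zero]
    calc T.mor₁ ≫ T.mor₂ = (T.mor₁ ≫ T.mor₂ ≫ i.hom₃) ≫ r.hom₃ := by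
          simp only [Category.assoc, hir₃, Category.comp_id]
      _ = 0 := by rw [h, zero_comp]
  -- exactness properties of the retract
  have E3 : ∀ {A : D} (a : A ⟶ T.obj₃), a ≫ T.mor₃ = 0 → ∃ b : A ⟶ T.obj₂, a = b ≫ T.mor₂ := by
    intro A a ha
    have h : (a ≫ i.hom₃) ≫ T₀.mor₃ = 0 := by
      rw [Category.assoc, ← i.comm₃, reassoc_of% ha, zero_comp]
    obtain ⟨b₀, hb₀⟩ := Triangle.coyoneda_exact₃ _ hT₀ _ h
    refine ⟨b₀ ≫ r.hom₂, ?_⟩
    rw [Category.assoc, ← r.comm₂, ← Category.assoc, ← hb₀, Category.assoc, hir₃, Category.comp_id]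
  have E1 : ∀ {A : D} (a : A ⟶ T.obj₁⟦(1 : ℤ)⟧), a ≫ T.mor₁⟦(1 : ℤ)⟧' = 0 →
      ∃ b : A ⟶ T.obj₃, a = b ≫ T.mor₃ := by
    intro A a ha
    have h : (a ≫ i.hom₁⟦(1 : ℤ)⟧') ≫ T₀.mor₁⟦(1 : ℤ)⟧' = 0 := by
      rw [Category.assoc, ← Functor.map_comp, ← i.comm₁, Functor.map_comp, reassoc_of% ha,
        zero_comp]
    obtain ⟨b₀, hb₀⟩ := Triangle.coyoneda_exact₁ _ hT₀ _ h
    refine ⟨b₀ ≫ r.hom₃, ?_⟩
    rw [Category.assoc, ← r.comm₃, ← Category.assoc, ← hb₀, Category.assoc, hir₁', Category.comp_id]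
  obtain ⟨Q, g₁, h₁, hT₁⟩ := distinguished_cocone_triangle T.mor₁
  obtain ⟨γ, hγ₂, hγ₃⟩ := complete_distinguished_triangle_morphism T₀ (Triangle.mk T.mor₁ g₁ h₁)
    hT₀ hT₁ r.hom₁ r.hom₂ r.comm₁
  dsimp at hγ₂ hγ₃
  let c : T.obj₃ ⟶ Q := i.hom₃ ≫ γ
  have hc₂ : T.mor₂ ≫ c = g₁ := by
    show T.mor₂ ≫ i.hom₃ ≫ γ = g₁
    rw [← Category.assoc, i.comm₂, Category.assoc, hγ₂, reassoc_of% hir₂]
  have hc₃ : c ≫ h₁ = T.mor₃ := by
    show (i.hom₃ ≫ γ) ≫ h₁ = T.mor₃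
    rw [Category.assoc, ← hγ₃, ← Category.assoc, ← i.comm₃, Category.assoc, hir₁', Category.comp_id]
  suffices IsIso c by
    refine isomorphic_distinguished _ hT₁ _ ?_
    exact Triangle.isoMk _ _ (Iso.refl _) (Iso.refl _) (asIso c)
      (by simp) (by simpa using hc₂) (by simpa using hc₃.symm)
  refine isIso_of_yoneda_map_bijective _ (fun A => ⟨?_, ?_⟩)
  · intro a₁ a₂ ha
    dsimp only at ha
    rw [← sub_eq_zero]
    have ha0 : (a₁ - a₂) ≫ c = 0 := by rw [Preadditive.sub_comp, ha, sub_self]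
    generalize a₁ - a₂ = a at ha0
    have h1 : a ≫ T.mor₃ = 0 := by rw [← hc₃, reassoc_of% ha0, zero_comp]
    obtain ⟨b, hb⟩ := E3 a h1
    have h2 : b ≫ g₁ = 0 := by rw [← hc₂, ← Category.assoc, ← hb, ha0]
    obtain ⟨b', hb'⟩ := Triangle.coyoneda_exact₂ _ hT₁ b h2
    dsimp at hb'
    rw [hb, hb', Category.assoc, z₁₂, comp_zero]
  · intro q
    have h1 : (q ≫ h₁) ≫ T.mor₁⟦(1 : ℤ)⟧' = 0 := by
      have := comp_distTriang_mor_zero₃₁ _ hT₁
      dsimp at this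
      rw [Category.assoc, this, comp_zero]
    obtain ⟨z, hz⟩ := E1 _ h1
    have h2 : (q - z ≫ c) ≫ h₁ = 0 := by
      rw [Preadditive.sub_comp, Category.assoc, hc₃, hz, sub_self]
    obtain ⟨y, hy⟩ := Triangle.coyoneda_exact₃ _ hT₁ _ h2
    dsimp at hy
    refine ⟨z + y ≫ T.mor₂, ?_⟩
    dsimp only
    rw [Preadditive.add_comp, Category.assoc, hc₂, ← hy]
    abel

end Groth.Agent.H33
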