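import Groth.Agent.H33.DerAdjU
import Groth.Agent.H45.Derived.MapDerivedHomology
import Mathlib.CategoryTheory.Abelian.SerreClass.Localization
import Mathlib.CategoryTheory.Localization.Adjunction
import Mathlib.CategoryTheory.Localization.Composition
import Mathlib.Algebra.Homology.DerivedCategory.HomologySequence

/-!
# `D(A) ⥤ D(A/P)` is a Verdier localization when `A ⥤ A/P` has a fully faithful left adjoint
-/

set_option autoImplicit false

open CategoryTheory Limits Pretriangulated

namespace Groth.Agent.H33.SerreLoc

universe w w' v v' u u'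

section complexAdj

variable {A B : Type*} [Category A] [Category B] [Preadditive A] [Preadditive B]
  {L : A ⥤ B} {R : B ⥤ A} (adj : L ⊣ R) [L.Additive] [R.Additive]
  {ι : Type*} (c : ComplexShape ι)

/-- The adjunction between the functors induced on categories of complexes. -/
def complexAdj : L.mapHomologicalComplex c ⊣ R.mapHomologicalComplex c :=
  Adjunction.mkOfUnitCounit
    { unit :=
        { app := fun K => DerAdjU.unitC adj c K
          naturality := by
            intro K K' φ
            ext i
            exact adj.unit.naturality (φ.f i) }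
      counit :=
        { app := fun K => DerAdjU.counitC adj c K
          naturality := by
            intro K K' φ
            ext i
            exact adj.counit.naturality (φ.f i) }
      left_triangle := by
        ext K i
        simp
        exact adj.left_triangle_components (K.X i)
      right_triangle := by
        ext K i
        simp
        exact adj.right_triangle_components (K.X i) }

lemma complexAdj_unit_app (K : HomologicalComplex A c) :
    (complexAdj adj c).unit.app K = DerAdjU.unitC adj c K := rfl

instance [IsIso adj.unit] : IsIso (complexAdj adj c).unit := by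
  rw [NatTrans.isIso_iff_isIso_app]
  intro K
  rw [complexAdj_unit_app]
  have : ∀ i, IsIso ((DerAdjU.unitC adj c K).f i) := fun i => by
    rw [DerAdjU.unitC_f]
    exact NatIso.isIso_app_of_isIso adj.unit _
  exact HomologicalComplex.Hom.isIso_of_components _

end complexAdj

section main

variable {A : Type u} [Category.{v} A] [Abelian A] [HasDerivedCategory.{w} A]
  (P : ObjectProperty A) [P.IsSerreClass]
  {Q : Type u'} [Category.{v'} Q] [Abelian Q] [HasDerivedCategory.{w'} Q]
  (v : A ⥤ Q) [v.IsLocalization P.isoModSerre] [v.Additive] [PreservesFiniteLimits v]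
  [PreservesFiniteColimits v]
  (u : Q ⥤ A) (adj : u ⊣ v) [IsIso adj.unit]

/-- The morphisms of complexes which become quasi-isomorphisms after applying `v`. -/
def W₃ : MorphismProperty (CochainComplex A ℤ) :=
  (HomologicalComplex.quasiIso Q (ComplexShape.up ℤ)).inverseImage
    (v.mapHomologicalComplex (ComplexShape.up ℤ))

include adj in
lemma isLocalization_comp [u.Additive] :
    (v.mapHomologicalComplex (ComplexShape.up ℤ) ⋙ DerivedCategory.Q).IsLocalization (W₃ v) := by
  have hff := (complexAdj adj (ComplexShape.up ℤ)).fullyFaithfulLOfIsIsoUnit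
  have : (u.mapHomologicalComplex (ComplexShape.up ℤ)).Full := hff.full
  have : (u.mapHomologicalComplex (ComplexShape.up ℤ)).Faithful := hff.faithful
  have := (complexAdj adj (ComplexShape.up ℤ)).isLocalization'
  refine Functor.IsLocalization.comp (v.mapHomologicalComplex (ComplexShape.up ℤ))
    DerivedCategory.Q
    ((MorphismProperty.isomorphisms _).inverseImage (v.mapHomologicalComplex (ComplexShape.up ℤ)))
    (HomologicalComplex.quasiIso Q (ComplexShape.up ℤ)) (W₃ v) ?_ ?_ ?_
  · intro K L f hf
    exact Localization.inverts DerivedCategory.Q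
      (HomologicalComplex.quasiIso Q (ComplexShape.up ℤ)) _ hf
  · intro K L f (hf : IsIso _)
    show HomologicalComplex.quasiIso Q (ComplexShape.up ℤ) _
    rw [HomologicalComplex.mem_quasiIso_iff]
    infer_instance
  · intro K L g hg
    refine ⟨_, _, (u.mapHomologicalComplex (ComplexShape.up ℤ)).map g, ?_, ⟨?_⟩⟩
    · show HomologicalComplex.quasiIso Q (ComplexShape.up ℤ) _
      refine ((HomologicalComplex.quasiIso Q (ComplexShape.up ℤ)).arrow_mk_iso_iff ?_).1 hg
      exact Arrow.isoMk (asIso ((complexAdj adj (ComplexShape.up ℤ)).unit.app K))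
        (asIso ((complexAdj adj (ComplexShape.up ℤ)).unit.app L))
        ((complexAdj adj (ComplexShape.up ℤ)).unit.naturality g).symm
    · exact (Arrow.isoMk (asIso ((complexAdj adj (ComplexShape.up ℤ)).unit.app K))
        (asIso ((complexAdj adj (ComplexShape.up ℤ)).unit.app L))
        ((complexAdj adj (ComplexShape.up ℤ)).unit.naturality g).symm).symm

omit [HasDerivedCategory.{w} A] in
lemma isZero_iff_homology (X : DerivedCategory Q) :
    IsZero X ↔ ∀ n : ℤ, IsZero ((DerivedCategory.homologyFunctor Q n).obj X) := by
  constructor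
  · intro h n
    exact Functor.map_isZero _ h
  · intro h
    rw [IsZero.iff_id_eq_zero]
    have : IsIso (0 : X ⟶ X) := by
      rw [DerivedCategory.isIso_iff]
      intro n
      exact ⟨0, (h n).eq_of_src _ _, (h n).eq_of_src _ _⟩
    rw [← cancel_mono (0 : X ⟶ X), comp_zero, comp_zero]

lemma isZero_map_iff (Z : DerivedCategory A) :
    IsZero (v.mapDerivedCategory.obj Z) ↔
      ∀ n : ℤ, P ((DerivedCategory.homologyFunctor A n).obj Z) := by
  rw [isZero_iff_homology]
  refine forall_congr' (fun n => ?_)
  rw [← ObjectProperty.SerreClassLocalization.isZero_obj_iff v P]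
  exact (Groth.Agent.H45.homologyMapDerivedCategoryObjIso v Z n).isZero_iff

lemma isIso_map_iff_trW {X Y : DerivedCategory A} (g : X ⟶ Y) :
    IsIso (v.mapDerivedCategory.map g) ↔
      ObjectProperty.trW (fun X : DerivedCategory A =>
        ∀ n : ℤ, P ((DerivedCategory.homologyFunctor A n).obj X)) g := by
  constructor
  · intro hg
    obtain ⟨Z, a, b, hT⟩ := distinguished_cocone_triangle g
    refine ⟨Z, a, b, hT, ?_⟩
    show ∀ n : ℤ, P ((DerivedCategory.homologyFunctor A n).obj Z)
    rw [← isZero_map_iff P v]
    exact (Triangle.isZero₃_iff_isIso₁ _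
      (v.mapDerivedCategory.map_distinguished _ hT)).2 hg
  · rintro ⟨Z, a, b, hT, hZ⟩
    replace hZ : ∀ n : ℤ, P ((DerivedCategory.homologyFunctor A n).obj Z) := hZ
    rw [← isZero_map_iff P v] at hZ
    exact (Triangle.isZero₃_iff_isIso₁ _
      (v.mapDerivedCategory.map_distinguished _ hT)).1 hZ

lemma isIso_map_Q_map_iff {K L : CochainComplex A ℤ} (f : K ⟶ L) :
    IsIso (v.mapDerivedCategory.map (DerivedCategory.Q.map f)) ↔ W₃ v f := by
  show _ ↔ HomologicalComplex.quasiIso Q (ComplexShape.up ℤ) _
  rw [HomologicalComplex.mem_quasiIso_iff, ← DerivedCategory.isIso_Q_map_iff_quasiIso]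
  exact (MorphismProperty.isomorphisms _).arrow_mk_iso_iff
    (Arrow.isoMk (v.mapDerivedCategoryFactors.app K) (v.mapDerivedCategoryFactors.app L)
      (v.mapDerivedCategoryFactors.hom.naturality f).symm)

lemma map_W₃_iff {X Y : DerivedCategory A} (g : X ⟶ Y) :
    (W₃ v).map DerivedCategory.Q g ↔ IsIso (v.mapDerivedCategory.map g) := by
  constructor
  · rintro ⟨K, L, f, hf, ⟨e⟩⟩
    rw [← isIso_map_Q_map_iff] at hf
    exact ((MorphismProperty.isomorphisms _).arrow_mk_iso_iff
      (v.mapDerivedCategory.mapArrow.mapIso e)).1 hf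
  · intro hg
    obtain ⟨φ, ⟨e⟩⟩ : ∃ φ : Arrow (HomotopyCategory A (ComplexShape.up ℤ)),
        Nonempty (DerivedCategory.Qh.mapArrow.obj φ ≅ Arrow.mk g) :=
      ⟨_, ⟨(DerivedCategory.Qh (C := A)).mapArrow.objObjPreimageIso (Arrow.mk g)⟩⟩
    obtain ⟨φl, φr, φh⟩ := φ
    obtain ⟨K, rfl⟩ := HomotopyCategory.quotient_obj_surjective φl
    obtain ⟨L, rfl⟩ := HomotopyCategory.quotient_obj_surjective φr
    obtain ⟨f, rfl⟩ := (HomotopyCategory.quotient A (ComplexShape.up ℤ)).map_surjective φh
    refine ⟨K, L, f, ?_, ⟨e⟩⟩
    rw [← isIso_map_Q_map_iff]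
    exact ((MorphismProperty.isomorphisms _).arrow_mk_iso_iff
      (v.mapDerivedCategory.mapArrow.mapIso e)).2 hg

include adj in
theorem isLocalization_mapDerivedCategory :
    v.mapDerivedCategory.IsLocalization
      (ObjectProperty.trW (fun X : DerivedCategory A =>
        ∀ n : ℤ, P ((DerivedCategory.homologyFunctor A n).obj X))) := by
  have : u.Additive := adj.left_adjoint_additive
  have h1 := isLocalization_comp v u adj
  have : (DerivedCategory.Q ⋙ v.mapDerivedCategory).IsLocalization (W₃ v) :=
    Functor.IsLocalization.of_iso _ v.mapDerivedCategoryFactors.symm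
  refine Functor.IsLocalization.of_comp DerivedCategory.Q v.mapDerivedCategory
    (HomologicalComplex.quasiIso A (ComplexShape.up ℤ)) _ (W₃ v) ?_ ?_
  · intro K L f hf
    rw [← isIso_map_Q_map_iff]
    have : IsIso (DerivedCategory.Q.map f) :=
      Localization.inverts DerivedCategory.Q
        (HomologicalComplex.quasiIso A (ComplexShape.up ℤ)) _ hf
    infer_instance
  · ext X Y g
    rw [map_W₃_iff, isIso_map_iff_trW P v]

end main

end Groth.Agent.H33.SerreLoc
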