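import Mathlib.CategoryTheory.Triangulated.Triangulated

set_option autoImplicit false
set_option linter.unusedSectionVars false
universe v u
open CategoryTheory CategoryTheory.Limits

namespace Groth.Agent.H33

variable {D : Type u} [Category.{v} D] [Preadditive D] [HasShift D ℤ]
  [∀ n : ℤ, (shiftFunctor D n).Additive]

/-- Vanishing of `Hom(X⟦p⟧, V)` implies vanishing of `Hom(X⟦p+r⟧, V⟦r⟧)`. -/
theorem hom_shift_eq_zero {X V : D} (p q r : ℤ) (hpq : p + r = q)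
    (H : ∀ ψ : (shiftFunctor D p).obj X ⟶ V, ψ = 0)
    (ψ : (shiftFunctor D q).obj X ⟶ (shiftFunctor D r).obj V) : ψ = 0 := by
  let α := (shiftFunctorAdd' D p r q hpq).app X
  obtain ⟨θ, hθ⟩ := (shiftFunctor D r).map_surjective (α.inv ≫ ψ)
  have h0 : α.inv ≫ ψ = 0 := by rw [← hθ, H θ, Functor.map_zero]
  rw [← cancel_epi α.inv, h0, comp_zero]

/-- Vanishing of `Hom(X⟦p+r⟧, V⟦r⟧)` implies vanishing of `Hom(X⟦p⟧, V)`. -/
theorem hom_eq_zero_of_shift {X V : D} (p q r : ℤ) (hpq : p + r = q)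
    (H : ∀ ψ : (shiftFunctor D q).obj X ⟶ (shiftFunctor D r).obj V, ψ = 0)
    (ψ : (shiftFunctor D p).obj X ⟶ V) : ψ = 0 := by
  let α := (shiftFunctorAdd' D p r q hpq).app X
  have h0 : (shiftFunctor D r).map ψ = 0 := by
    rw [← cancel_epi α.hom, H (α.hom ≫ (shiftFunctor D r).map ψ), comp_zero]
  exact (shiftFunctor D r).map_injective (by rw [h0, Functor.map_zero])

theorem hom_eq_zero_of_shift_zero {X V : D} (p : ℤ) (hp : p = 0)
    (H : ∀ ψ : (shiftFunctor D p).obj X ⟶ V, ψ = 0) (ψ : X ⟶ V) : ψ = 0 := by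
  subst hp
  rw [← cancel_epi ((shiftFunctorZero D ℤ).hom.app X),
    H ((shiftFunctorZero D ℤ).hom.app X ≫ ψ), comp_zero]

theorem hom_shift_zero_eq_zero {X V : D} (p : ℤ) (hp : p = 0)
    (H : ∀ ψ : X ⟶ V, ψ = 0) (ψ : (shiftFunctor D p).obj X ⟶ V) : ψ = 0 := by
  subst hp
  rw [← cancel_epi ((shiftFunctorZero D ℤ).inv.app X),
    H ((shiftFunctorZero D ℤ).inv.app X ≫ ψ), comp_zero]

omit [∀ n : ℤ, (shiftFunctor D n).Additive] in
theorem hom_shift_eq_zero_of_eq {X V : D} (p q : ℤ) (h : p = q)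
    (H : ∀ ψ : (shiftFunctor D p).obj X ⟶ V, ψ = 0)
    (ψ : (shiftFunctor D q).obj X ⟶ V) : ψ = 0 := by
  subst h
  exact H ψ

/-- Vanishing of `Hom(X, V⟦r⟧)` from vanishing of `Hom(X⟦-r⟧, V)`. -/
theorem hom_to_shift_eq_zero {X V : D} (p r : ℤ) (hpr : p + r = 0)
    (H : ∀ ψ : (shiftFunctor D p).obj X ⟶ V, ψ = 0)
    (ψ : X ⟶ (shiftFunctor D r).obj V) : ψ = 0 :=
  hom_eq_zero_of_shift_zero (0 : ℤ) rfl (fun ψ' => hom_shift_eq_zero p 0 r hpr H ψ') ψ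

/-- Vanishing of `Hom(X, V⟦q⟧)` implies vanishing of `Hom(X⟦r⟧, V⟦q+r⟧)`. -/
theorem hom_shift_to_shift_eq_zero {X V : D} (q r q' : ℤ) (h : q + r = q')
    (H : ∀ ψ : X ⟶ (shiftFunctor D q).obj V, ψ = 0)
    (ψ : (shiftFunctor D r).obj X ⟶ (shiftFunctor D q').obj V) : ψ = 0 := by
  let β := (shiftFunctorAdd' D q r q' h).app V
  obtain ⟨θ, hθ⟩ := (shiftFunctor D r).map_surjective (ψ ≫ β.hom)
  have h0 : ψ ≫ β.hom = 0 := by rw [← hθ, H θ, Functor.map_zero]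
  rw [← cancel_mono β.hom, h0, zero_comp]

theorem hom_to_shift_zero_eq_zero {X V : D} (p : ℤ) (hp : p = 0)
    (H : ∀ ψ : X ⟶ V, ψ = 0) (ψ : X ⟶ (shiftFunctor D p).obj V) : ψ = 0 := by
  subst hp
  rw [← cancel_mono ((shiftFunctorZero D ℤ).hom.app V),
    H (ψ ≫ (shiftFunctorZero D ℤ).hom.app V), zero_comp]

theorem hom_eq_zero_of_to_shift_zero {X V : D} (p : ℤ) (hp : p = 0)
    (H : ∀ ψ : X ⟶ (shiftFunctor D p).obj V, ψ = 0) (ψ : X ⟶ V) : ψ = 0 := by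
  subst hp
  rw [← cancel_mono ((shiftFunctorZero D ℤ).inv.app V),
    H (ψ ≫ (shiftFunctorZero D ℤ).inv.app V), zero_comp]

/-- Vanishing of `Hom(X⟦p⟧, V)` from vanishing of `Hom(X, V⟦-p⟧)`. -/
theorem hom_from_shift_eq_zero {X V : D} (p r : ℤ) (hpr : r + p = 0)
    (H : ∀ ψ : X ⟶ (shiftFunctor D r).obj V, ψ = 0)
    (ψ : (shiftFunctor D p).obj X ⟶ V) : ψ = 0 :=
  hom_eq_zero_of_to_shift_zero (0 : ℤ) rfl
    (fun ψ' => hom_shift_to_shift_eq_zero r p 0 hpr H ψ') ψ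

theorem hom_eq_zero_transport_src {F : ℕ → D} (m m' : ℕ) (h : m = m') {V : D} (p : ℤ)
    (H : ∀ ψ : (shiftFunctor D p).obj (F m) ⟶ V, ψ = 0)
    (ψ : (shiftFunctor D p).obj (F m') ⟶ V) : ψ = 0 := by
  subst h
  exact H ψ

theorem hom_eq_zero_transport_tgt {F : ℕ → D} (m m' : ℕ) (h : m = m') {X : D} (p : ℤ)
    (H : ∀ ψ : X ⟶ (shiftFunctor D p).obj (F m), ψ = 0)
    (ψ : X ⟶ (shiftFunctor D p).obj (F m')) : ψ = 0 := by
  subst h
  exact H ψ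

end Groth.Agent.H33
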