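import Mathlib.CategoryTheory.Triangulated.Pretriangulated

set_option autoImplicit false
universe v u
open CategoryTheory CategoryTheory.Limits

namespace Groth.Agent.H33

open CategoryTheory.Pretriangulated

variable {D : Type u} [Category.{v} D] [Preadditive D] [HasZeroObject D] [HasShift D ℤ]
  [∀ n : ℤ, (shiftFunctor D n).Additive] [Pretriangulated D]

/-- A monomorphism in a pretriangulated category is the inclusion of a direct summand. -/
theorem split_of_mono' {K X : D} (k : K ⟶ X) [Mono k] :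
    ∃ (Z : D) (p : X ⟶ Z) (e : X ≅ K ⊞ Z), k ≫ e.hom = biprod.inl ∧ p = e.hom ≫ biprod.snd ∧
      ∀ {Y : D} (f : X ⟶ Y), k ≫ f = 0 → ∃ f' : Z ⟶ Y, f = p ≫ f' := by
  obtain ⟨Z, p, h, H₁⟩ := distinguished_cocone_triangle k
  have h0 : h = 0 := Triangle.mor₃_eq_zero_of_mono₁ _ H₁ (show Mono k from inferInstance)
  obtain ⟨e₁, he₁, he₁'⟩ := exists_iso_binaryBiproduct_of_distTriang _ H₁ h0
  exact ⟨Z, p, e₁, he₁, he₁', fun f hf => Triangle.yoneda_exact₂ _ H₁ f hf⟩

/-- A split monomorphism `c` with a chosen retraction `s` gives a direct sum decomposition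
compatible with both `c` and `s`. -/
theorem exists_biprod_iso_of_retraction {A X : D} (c : A ⟶ X) (s : X ⟶ A) (hcs : c ≫ s = 𝟙 A) :
    ∃ (Z : D) (e : X ≅ A ⊞ Z), c ≫ e.hom = biprod.inl ∧ e.hom ≫ biprod.fst = s := by
  have : Mono c := (SplitMono.mk s hcs).mono
  obtain ⟨Z, p, e₀, he₀, hp, hfac⟩ := split_of_mono' c
  have h1 : c ≫ (s - e₀.hom ≫ biprod.fst) = 0 := by
    rw [Preadditive.comp_sub, hcs, ← Category.assoc, he₀, biprod.inl_fst, sub_self]
  obtain ⟨t, ht⟩ := hfac _ h1
  let φ : A ⊞ Z ≅ A ⊞ Z :=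
    { hom := biprod.lift (biprod.fst + biprod.snd ≫ t) biprod.snd
      inv := biprod.lift (biprod.fst - biprod.snd ≫ t) biprod.snd
      hom_inv_id := by
        apply biprod.hom_ext <;> simp
      inv_hom_id := by
        apply biprod.hom_ext <;> simp }
  refine ⟨Z, e₀ ≪≫ φ, ?_, ?_⟩
  · rw [Iso.trans_hom, ← Category.assoc, he₀]
    apply biprod.hom_ext <;> simp [φ]
  · rw [Iso.trans_hom, Category.assoc]
    simp only [φ, biprod.lift_fst, Preadditive.comp_add]
    rw [← Category.assoc, ← hp, ← ht]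
    abel

end Groth.Agent.H33
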