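import Mathlib
import Groth.Agent.H33.IdemExt

/-!
# Idempotents split in a triangulated category with a bounded t-structure
-/

set_option autoImplicit false
universe v u
open CategoryTheory CategoryTheory.Limits CategoryTheory.Pretriangulated
open CategoryTheory.Triangulated

namespace Groth.Agent.H33.TStructIdem

open Groth.Agent.H33.IdemExt

variable {C : Type u} [Category.{v} C] [Preadditive C] [HasZeroObject C] [HasShift C ℤ]
  [∀ n : ℤ, (shiftFunctor C n).Additive] [Pretriangulated C] [IsTriangulated C]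
  (t : TStructure C)

/-- Objects concentrated in degree `b`. -/
def conc (b : ℤ) : ObjectProperty C := fun X => t.IsLE X b ∧ t.IsGE X b

lemma hι (b : ℤ) : ∀ ⦃X Y : (conc t b).FullSubcategory⦄ ⦃n : ℤ⦄
    (f : (conc t b).ι.obj X ⟶ ((conc t b).ι.obj Y)⟦n⟧), n < 0 → f = 0 := by
  intro X Y n f hn
  have : t.IsLE ((conc t b).ι.obj X) b := X.property.1
  have : t.IsGE ((conc t b).ι.obj Y) b := Y.property.2
  have := t.isGE_shift ((conc t b).ι.obj Y) b n (b - n) (by lia)
  exact t.zero f b (b - n) (by lia)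

set_option backward.isDefEq.respectTransparency false in
/-- Idempotents split on objects concentrated in a single degree. -/
theorem splits_of_conc (b : ℤ) (X : C) [hX₁ : t.IsLE X b] [hX₂ : t.IsGE X b] (e : X ⟶ X)
    (he : e ≫ e = e) : Splits e := by
  let A := (conc t b).FullSubcategory
  let X' : A := ⟨X, ⟨hX₁, hX₂⟩⟩
  let f₁ : X' ⟶ X' := ObjectProperty.homMk (𝟙 X - e)
  obtain ⟨X₃, f₂, f₃, hT⟩ := distinguished_cocone_triangle ((conc t b).ι.map f₁)
  -- amplitude of the cone
  have hX₃le : t.IsLE X₃ b := by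
    have h1 : t.IsLE (X⟦(1 : ℤ)⟧) b := by
      have := t.isLE_shift X b 1 (b - 1) (by lia)
      exact t.isLE_of_le _ (b - 1) b (by lia)
    exact t.isLE₂ _ (rot_of_distTriang _ hT) b hX₁ h1
  have hX₃ge : t.IsGE X₃ (b - 1) := by
    have h1 : t.IsGE (X⟦(1 : ℤ)⟧) (b - 1) := t.isGE_shift X b 1 (b - 1) (by lia)
    have h2 : t.IsGE X (b - 1) := t.isGE_of_ge _ (b - 1) b (by lia)
    exact t.isGE₂ _ (rot_of_distTriang _ hT) (b - 1) h2 h1
  let Q : A := ⟨(t.truncGE b).obj X₃, ⟨inferInstance, inferInstance⟩⟩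
  let K : A := ⟨((t.truncLT b).obj X₃)⟦(-1 : ℤ)⟧,
    ⟨t.isLE_shift _ (b - 1) (-1) b (by lia), t.isGE_shift _ (b - 1) (-1) b (by lia)⟩⟩
  let c : (((t.truncLT b).obj X₃)⟦(-1 : ℤ)⟧)⟦(1 : ℤ)⟧ ≅ (t.truncLT b).obj X₃ :=
    (shiftEquiv C (1 : ℤ)).counitIso.app _
  have hT' : Triangle.mk (c.hom ≫ (t.truncLTι b).app X₃) ((t.truncGEπ b).app X₃)
      ((t.truncGEδLT b).app X₃ ≫ c.inv⟦(1 : ℤ)⟧') ∈ distTriang C := by
    refine isomorphic_distinguished _ (t.triangleLTGE_distinguished b X₃) _ ?_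
    exact Triangle.isoMk _ _ c (Iso.refl _) (Iso.refl _) (by simp) (by simp)
      (by simp [← Functor.map_comp])
  have hK : HasKernel f₁ :=
    AbelianSubcategory.hasKernel (ι := (conc t b).ι) (hι t b) (f₁ := f₁) (K := K) (Q := Q) hT hT'
  have h0 : (ObjectProperty.homMk e : X' ⟶ X') ≫ f₁ = 0 := by
    apply ObjectProperty.hom_ext
    show e ≫ (𝟙 X - e) = 0
    rw [Preadditive.comp_sub, Category.comp_id, he, sub_self]
  let r : X' ⟶ kernel f₁ := kernel.lift f₁ (ObjectProperty.homMk e) h0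
  have hr : r ≫ kernel.ι f₁ = ObjectProperty.homMk e := kernel.lift_ι _ _ _
  have hi : kernel.ι f₁ ≫ (ObjectProperty.homMk e : X' ⟶ X') = kernel.ι f₁ := by
    have h1 := kernel.condition f₁
    have h2 : f₁ = 𝟙 X' - ObjectProperty.homMk e := by
      apply ObjectProperty.hom_ext
      rfl
    have h3 : kernel.ι f₁ ≫ (𝟙 X' - ObjectProperty.homMk e) = 0 :=
      (congrArg (fun g => kernel.ι f₁ ≫ g) h2).symm.trans h1
    rw [Preadditive.comp_sub, Category.comp_id, sub_eq_zero] at h3
    exact h3.symm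
  have hir : kernel.ι f₁ ≫ r = 𝟙 _ := by
    rw [← cancel_mono (kernel.ι f₁), Category.assoc, hr, hi, Category.id_comp]
  refine ⟨(kernel f₁).obj, (kernel.ι f₁).hom, r.hom, ?_, ?_⟩
  · exact congrArg (fun g => g.hom) hir
  · exact congrArg (fun g => g.hom) hr

/-- Induction on the amplitude. -/
theorem splits_of_amplitude (n : ℕ) : ∀ (a : ℤ) (X : C) [t.IsGE X a] [t.IsLE X (a + n)]
    (e : X ⟶ X), e ≫ e = e → Splits e := by
  induction n with
  | zero =>
    intro a X _ _ e he
    have : t.IsLE X a := by simpa using (inferInstance : t.IsLE X (a + (0 : ℕ)))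
    exact splits_of_conc t a X e he
  | succ n ih =>
    intro a X _ hle e he
    let b : ℤ := a + n + 1
    have hle' : t.IsLE X b := by
      have : a + ((n + 1 : ℕ) : ℤ) = b := by simp [b]; ring
      rw [← this]; exact hle
    let T := (t.triangleLTGE b).obj X
    have hT : T ∈ distTriang C := t.triangleLTGE_distinguished b X
    let φ : T ⟶ T := (t.triangleLTGE b).map e
    have hφ : φ ≫ φ = φ := by rw [← Functor.map_comp, he]
    have h₁ : Splits φ.hom₁ := by
      have : t.IsGE T.obj₁ a := by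
        show t.IsGE ((t.truncLT b).obj X) a
        infer_instance
      have : t.IsLE T.obj₁ (a + n) := by
        have : t.IsLE T.obj₁ (b - 1) := by
          show t.IsLE ((t.truncLT b).obj X) (b - 1)
          infer_instance
        exact t.isLE_of_le _ (b - 1) _ (by simp [b])
      exact ih a T.obj₁ φ.hom₁ (congrArg TriangleMorphism.hom₁ hφ)
    have h₃ : Splits φ.hom₃ := by
      have : t.IsGE T.obj₃ b := by
        show t.IsGE ((t.truncGE b).obj X) b
        infer_instance
      have : t.IsLE T.obj₃ b := by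
        show t.IsLE ((t.truncGE b).obj X) b
        infer_instance
      exact splits_of_conc t b T.obj₃ φ.hom₃ (congrArg TriangleMorphism.hom₃ hφ)
    have h₂ : φ.hom₂ = e := rfl
    have := splits_of_triangle T hT φ.hom₁ φ.hom₂ φ.hom₃
      (congrArg TriangleMorphism.hom₂ hφ) φ.comm₁ φ.comm₂ φ.comm₃ h₁ h₃
    rw [h₂] at this
    exact this

theorem isIdempotentComplete (hb : ∀ X : C, t.bounded X) : IsIdempotentComplete C where
  idempotents_split X p hp := by
    obtain ⟨⟨a, ha⟩, ⟨b, hb'⟩⟩ := hb X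
    obtain ⟨n, hn⟩ : ∃ n : ℕ, b ≤ a + n := ⟨(b - a).toNat, by lia⟩
    have : t.IsLE X (a + n) := t.isLE_of_le X b _ hn
    obtain ⟨Y, i, r, h1, h2⟩ := splits_of_amplitude t n a X p hp
    exact ⟨Y, i, r, h1, h2⟩

end Groth.Agent.H33.TStructIdem
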